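import Cfsg.Agent.ClassicalMax.BinaryOdd

/-!
# Binary coset actions of `PSL(2, F)`: stabilisers with a full Sylow subgroup, and the binary cases
-/

set_option autoImplicit false
set_option linter.unusedSectionVars false

namespace Cfsg.Agent.ClassicalMax.Binary

open Matrix Cfsg.Agent.Spec.Two Cfsg.Agent.RootSub.SL2Gen
open scoped MatrixGroups

variable {F : Type*} [Field F] [Fintype F]

local notation "L₂" => Matrix.ProjectiveSpecialLinearGroup (Fin 2) F
local notation "M₂" => Matrix (Fin 2) (Fin 2) F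
local notation "q" => Fintype.card F
local notation "d" => Nat.gcd 2 (Fintype.card F - 1)

theorem two_ne_zero_of_odd (hq : Odd q) : (2 : F) ≠ 0 := fun h =>
  Nat.not_even_iff_odd.2 hq (even_iff_two_dvd.2 (two_eq_zero_iff.1 h))

theorem two_zero_of_even (hq : Even q) : (2 : F) = 0 := two_eq_zero_iff.2 hq.two_dvd

theorem π_injective_of_even (hq : Even q) {X Y : SL(2, F)} (h : π X = π Y) : X = Y := by
  obtain ⟨c, hc, he⟩ := π_eq_iff.1 h
  rw [eq_one_of_sq (two_zero_of_even hq) hc, one_smul] at he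
  exact Subtype.ext he.symm

/-- The diagonal parameters of an upper triangular subgroup. -/
def muG {H : Subgroup L₂} : Subgroup Fˣ where
  carrier := {a | ∃ X : SL(2, F), π X ∈ H ∧ X 1 0 = 0 ∧ X 0 0 = a}
  one_mem' := ⟨1, by rw [map_one]; exact one_mem H, by simp, by simp⟩
  mul_mem' := by
    rintro a b ⟨X, hX, h1, h2⟩ ⟨Y, hY, h3, h4⟩
    exact ⟨X * Y, by rw [map_mul]; exact mul_mem hX hY,
      by simp [Matrix.mul_apply, Fin.sum_univ_two, h1, h3],
      by simp [Matrix.mul_apply, Fin.sum_univ_two, h2, h3, h4]⟩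
  inv_mem' := by
    rintro a ⟨X, hX, h1, h2⟩
    refine ⟨X⁻¹, by rw [map_inv]; exact inv_mem hX,
      by simp [Matrix.SpecialLinearGroup.coe_inv, Matrix.adjugate_fin_two, h1], ?_⟩
    have hd := det_eq X
    rw [h1, mul_zero, sub_zero, h2] at hd
    simp [Matrix.SpecialLinearGroup.coe_inv, Matrix.adjugate_fin_two]
    exact eq_inv_of_mul_eq_one_right hd

theorem mem_iff_of_upP {H : Subgroup L₂} (hU : ∀ b, upP b ∈ H) (hH : H ≠ ⊤) {X : SL(2, F)} :
    π X ∈ H ↔ X 1 0 = 0 ∧ ∃ a ∈ muG (H := H), X 0 0 = (a : F) := by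
  constructor
  · intro h
    have h0 := π_mem_borP.1 (le_borP hH hU h)
    have hd := det_eq X
    rw [h0, mul_zero, sub_zero] at hd
    exact ⟨h0, Units.mk0 _ (left_ne_zero_of_mul_eq_one hd), ⟨X, h, h0, rfl⟩, rfl⟩
  · rintro ⟨h0, a, ⟨Y, hY, hY0, hYa⟩, hXa⟩
    have hX := det_eq X
    rw [h0, mul_zero, sub_zero, hXa] at hX
    have hY' := det_eq Y
    rw [hY0, mul_zero, sub_zero, hYa] at hY'
    have h11 : X 1 1 = Y 1 1 := mul_left_cancel₀ a.ne_zero (hX.trans hY'.symm)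
    have e : X = Y * uu ((X 0 1 - Y 0 1) / (a : F)) := by
      apply sl_ext <;> simp [Matrix.mul_apply, Fin.sum_univ_two, h0, hY0, hXa, hYa, h11]
      field_simp
      ring
    rw [e, map_mul]
    exact mul_mem hY (hU _)

theorem neg_one_mem_muG {H : Subgroup L₂} : (-1 : Fˣ) ∈ muG (H := H) := by
  refine ⟨mk (-1 : M₂) (by rw [Matrix.det_neg]; simp), ?_, by simp [coe_mk], by simp [coe_mk]⟩
  rw [show π (mk (-1 : M₂) (by rw [Matrix.det_neg]; simp)) = (1 : L₂) from
    π_eq_one_iff.2 ⟨-1, by simp [coe_mk]⟩]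
  exact one_mem H

/-- Equality of points in terms of first columns. -/
theorem pt_eq {H : Subgroup L₂} (hU : ∀ b, upP b ∈ H) (hH : H ≠ ⊤) (g A B : SL(2, F)) :
    π g • (QuotientGroup.mk (π A) : L₂ ⧸ H) = QuotientGroup.mk (π B) ↔
      ∃ a ∈ muG (H := H), (g * A) 0 0 = (a : F) * B 0 0 ∧ (g * A) 1 0 = (a : F) * B 1 0 := by
  change (QuotientGroup.mk (π g * π A) : L₂ ⧸ H) = _ ↔ _
  rw [eq_comm, QuotientGroup.eq, ← map_mul, ← map_inv, ← map_mul, mem_iff_of_upP hU hH]
  have hB := det_eq B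
  set C := g * A with hC
  constructor
  · rintro ⟨h0, a, ha, h1⟩
    refine ⟨a, ha, ?_⟩
    have e : C = B * (B⁻¹ * C) := by group
    constructor <;>
    · conv_lhs => rw [e]
      simp only [Matrix.SpecialLinearGroup.coe_mul, Matrix.mul_apply, Fin.sum_univ_two] at h0 h1 ⊢
      rw [h0, h1]
      ring
  · rintro ⟨a, ha, h1, h2⟩
    refine ⟨?_, a, ha, ?_⟩
    · simp [Matrix.SpecialLinearGroup.coe_inv, Matrix.adjugate_fin_two, Matrix.mul_apply, Fin.sum_univ_two, h1, h2]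
      ring
    · simp [Matrix.SpecialLinearGroup.coe_inv, Matrix.adjugate_fin_two, Matrix.mul_apply, Fin.sum_univ_two, h1, h2]
      linear_combination (a : F) * hB

/-- The element exchanging the coordinate axes. -/
def swapS : SL(2, F) := mk !![0, -1; 1, 0] (by rw [Matrix.det_fin_two_of]; ring)

theorem col_one (g : SL(2, F)) : (g * 1) 0 0 = g 0 0 ∧ (g * 1) 1 0 = g 1 0 := by
  rw [mul_one]; exact ⟨rfl, rfl⟩

theorem col_swapS (g : SL(2, F)) :
    (g * (swapS : SL(2, F))) 0 0 = g 0 1 ∧ (g * (swapS : SL(2, F))) 1 0 = g 1 1 := by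
  simp [swapS, coe_mk, Matrix.mul_apply, Fin.sum_univ_two]

theorem col_vv (g : SL(2, F)) (c : F) :
    (g * vv c) 0 0 = g 0 0 + g 0 1 * c ∧ (g * vv c) 1 0 = g 1 0 + g 1 1 * c := by
  simp [Matrix.mul_apply, Fin.sum_univ_two]

/-- Four points. -/
theorem bin_four {H : Subgroup L₂} (hb : IsBin H) (a b c e a' b' c' e' : L₂ ⧸ H)
    (h01 : ∃ g : L₂, g • a = a' ∧ g • b = b') (h02 : ∃ g : L₂, g • a = a' ∧ g • c = c')
    (h03 : ∃ g : L₂, g • a = a' ∧ g • e = e') (h12 : ∃ g : L₂, g • b = b' ∧ g • c = c')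
    (h13 : ∃ g : L₂, g • b = b' ∧ g • e = e') (h23 : ∃ g : L₂, g • c = c' ∧ g • e = e') :
    ∃ g : L₂, g • a = a' ∧ g • b = b' ∧ g • c = c' ∧ g • e = e' := by
  have sym : ∀ {x y x' y' : L₂ ⧸ H}, (∃ g : L₂, g • x = x' ∧ g • y = y') →
      ∃ g : L₂, g • y = y' ∧ g • x = x' := fun ⟨g, h1, h2⟩ => ⟨g, h2, h1⟩
  obtain ⟨g, hg⟩ := hb 4 ![a, b, c, e] ![a', b', c', e'] (by norm_num) (fun i j hij => by
    fin_cases i <;> fin_cases j
    all_goals first
      | exact absurd rfl hij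
      | (simp only [Fin.zero_eta, Fin.mk_one, Fin.reduceFinMk, Matrix.cons_val]
         first | assumption | exact sym (by assumption)))
  exact ⟨g, hg 0, hg 1, hg 2, hg 3⟩

/-- A stabiliser above all upper unitriangular elements: witness against binarity, `q` even. -/
theorem full_contra_even {H : Subgroup L₂} (hb : IsBin H) (hU : ∀ b, upP b ∈ H) (hH : H ≠ ⊤)
    (he : Even q) {α : Fˣ} (hα : α ∈ muG (H := H)) (hα1 : α ≠ 1) : False := by
  have h2 := two_zero_of_even he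
  have one_mem_mu : (1 : Fˣ) ∈ muG (H := H) := one_mem _
  have k0 := fun (g B : SL(2, F)) => pt_eq hU hH g 1 B
  have k1 := fun (g B : SL(2, F)) => pt_eq hU hH g (swapS : SL(2, F)) B
  have k2 := fun (g : SL(2, F)) (r : F) (B : SL(2, F)) => pt_eq hU hH g (vv r) B
  set a : F := (α : F) with hadef
  have ha0 : a ≠ 0 := α.ne_zero
  have ha1 : a ≠ 1 := fun h => hα1 (Units.ext h)
  have haa : a * a ≠ 1 := fun h => ha1 (eq_one_of_sq h2 (by rw [pow_two, h]))
  have hden : a * a - 1 ≠ 0 := sub_ne_zero.2 haa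
  obtain ⟨c, hc⟩ : ∃ c : F, c = (a - 1) / (a * a - 1) := ⟨_, rfl⟩
  have hc0 : c ≠ 0 := hc ▸ div_ne_zero (sub_ne_zero.2 ha1) hden
  have hcdef : c * (a * a - 1) = a - 1 := hc ▸ div_mul_cancel₀ _ hden
  have hc1 : c - 1 ≠ 0 := by
    intro h
    rw [sub_eq_zero.1 h, one_mul] at hcdef
    have : a * (a - 1) = 0 := by linear_combination hcdef
    exact (sub_ne_zero.2 ha1) ((mul_eq_zero.1 this).resolve_left ha0)
  let M : SL(2, F) := mk !![a, 0; a * a * c, a⁻¹] (by
    rw [Matrix.det_fin_two_of, zero_mul, sub_zero, mul_inv_cancel₀ ha0])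
  have hM0 : M 0 0 = a := rfl
  have hM1 : M 1 0 = a * a * c := rfl
  let G03 : SL(2, F) := mk !![(a * a)⁻¹, (a - (a * a)⁻¹) / c; 0, a * a] (by
    rw [Matrix.det_fin_two_of, mul_zero, sub_zero, inv_mul_cancel₀ (mul_ne_zero ha0 ha0)])
  let G13 : SL(2, F) := mk !![a, 0; a * a * c - c * a⁻¹, a⁻¹] (by
    rw [Matrix.det_fin_two_of, zero_mul, sub_zero, mul_inv_cancel₀ ha0])
  let G23 : SL(2, F) := mk !![1 - (a - 1) / (c - 1), (a - 1) / (c - 1);
      1 - (a * a * c - 1) / (c - 1), (a * a * c - 1) / (c - 1)] (by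
    rw [Matrix.det_fin_two_of]
    field_simp
    linear_combination (c - 1) * hcdef)
  obtain ⟨g, g0, g1, g2, g3⟩ := bin_four hb
    (QuotientGroup.mk (π (1 : SL(2, F)))) (QuotientGroup.mk (π (swapS : SL(2, F))))
    (QuotientGroup.mk (π (vv 1))) (QuotientGroup.mk (π (vv c)))
    (QuotientGroup.mk (π (1 : SL(2, F)))) (QuotientGroup.mk (π (swapS : SL(2, F))))
    (QuotientGroup.mk (π (vv 1))) (QuotientGroup.mk (π M))
    ⟨1, one_smul _ _, one_smul _ _⟩ ⟨1, one_smul _ _, one_smul _ _⟩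
    ⟨π G03, (k0 _ _).2 ⟨(α * α)⁻¹, inv_mem (mul_mem hα hα), by
        rw [(col_one _).1, (col_one _).2]; simp [G03, coe_mk, hadef]⟩,
      (k2 _ _ _).2 ⟨1, one_mem_mu, by
        rw [(col_vv _ _).1, (col_vv _ _).2, Units.val_one, one_mul, one_mul, hM0, hM1]
        simp [G03, coe_mk]
        field_simp
        ring⟩⟩
    ⟨1, one_smul _ _, one_smul _ _⟩
    ⟨π G13, (k1 _ _).2 ⟨α⁻¹, inv_mem hα, by
        rw [(col_swapS _).1, (col_swapS _).2]; simp [G13, swapS, coe_mk, hadef]⟩,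
      (k2 _ _ _).2 ⟨1, one_mem_mu, by
        rw [(col_vv _ _).1, (col_vv _ _).2, Units.val_one, one_mul, one_mul, hM0, hM1]
        simp [G13, coe_mk]
        ring⟩⟩
    ⟨π G23, (k2 _ _ _).2 ⟨1, one_mem_mu, by
        rw [(col_vv _ _).1, (col_vv _ _).2]
        simp [G23, coe_mk]⟩,
      (k2 _ _ _).2 ⟨1, one_mem_mu, by
        rw [(col_vv _ _).1, (col_vv _ _).2, Units.val_one, one_mul, one_mul, hM0, hM1]
        simp [G23, coe_mk]
        constructor <;> field_simp <;> ring⟩⟩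
  obtain ⟨G₀, rfl⟩ := π_surjective g
  obtain ⟨c1, -, h0, h0'⟩ := (k0 _ _).1 g0
  obtain ⟨c2, -, h1, h1'⟩ := (k1 _ _).1 g1
  obtain ⟨c3, -, h3, h3'⟩ := (k2 _ _ _).1 g2
  obtain ⟨c4, -, h4, h4'⟩ := (k2 _ _ _).1 g3
  rw [(col_one _).1] at h0; rw [(col_one _).2] at h0'
  rw [(col_swapS _).1] at h1; rw [(col_swapS _).2] at h1'
  rw [(col_vv _ _).1] at h3 h4; rw [(col_vv _ _).2] at h3' h4'
  rw [hM0] at h4; rw [hM1] at h4'
  simp [swapS, coe_mk] at h0 h0' h1 h1' h3 h3'
  have hd := det_eq G₀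
  rw [h0, h0', h1, h1', mul_zero, sub_zero] at hd
  rw [h0, h1, add_zero] at h3
  rw [h0', h1', zero_add] at h3'
  rw [h0, h1, zero_mul, add_zero] at h4
  rw [h0', h1', zero_add] at h4'
  have e1 : (c1 : F) = 1 := by
    refine eq_one_of_sq h2 ?_
    rw [pow_two]
    calc (c1 : F) * c1 = c1 * c2 := by rw [h3', ← h3]
      _ = 1 := hd
  have e2 : (c2 : F) = 1 := by rw [h3', ← h3, e1]
  rw [e1] at h4
  rw [e2, one_mul] at h4'
  have h5 : (c4 : F) * (a * a) = 1 := mul_right_cancel₀ hc0 (by linear_combination -h4')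
  have h6 : (c4 : F) * (a * a) = (c4 : F) * a := h5.trans h4
  exact ha1 (mul_left_cancel₀ ha0 ((mul_left_cancel₀ c4.ne_zero h6).trans (mul_one a).symm))

/-- A stabiliser above all upper unitriangular elements: witness against binarity, `q` odd. -/
theorem full_contra_odd {H : Subgroup L₂} (hb : IsBin H) (hU : ∀ b, upP b ∈ H) (hH : H ≠ ⊤)
    (ho : Odd q) : False := by
  classical
  have h2 := two_ne_zero_of_odd ho
  have one_mem_mu : (1 : Fˣ) ∈ muG (H := H) := one_mem _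
  have k0 := fun (g B : SL(2, F)) => pt_eq hU hH g 1 B
  have k1 := fun (g B : SL(2, F)) => pt_eq hU hH g (swapS : SL(2, F)) B
  have k2 := fun (g : SL(2, F)) (r : F) (B : SL(2, F)) => pt_eq hU hH g (vv r) B
  obtain ⟨ε, hε, hns⟩ : ∃ ε ∈ muG (H := H), ∀ a ∈ muG (H := H), a * a ≠ ε := by
    by_contra hall
    push Not at hall
    have hsurj : Function.Surjective (fun a : muG (H := H) => a * a) := by
      rintro ⟨ε, hε⟩
      obtain ⟨a, ha, e⟩ := hall ε hε
      exact ⟨⟨a, ha⟩, Subtype.ext e⟩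
    have := Finite.injective_iff_surjective.2 hsurj
      (show (fun a : muG (H := H) => a * a) ⟨-1, neg_one_mem_muG⟩ =
        (fun a : muG (H := H) => a * a) 1 from Subtype.ext (by simp))
    have h' : (-1 : F) = 1 := congrArg (fun a : muG (H := H) => ((a : Fˣ) : F)) this
    exact h2 (by linear_combination -h')
  set e : F := (ε : F) with hedef
  have he0 : e ≠ 0 := ε.ne_zero
  let G02 : SL(2, F) := mk !![e⁻¹, 1 - e⁻¹; 0, e] (by
    rw [Matrix.det_fin_two_of, mul_zero, sub_zero, inv_mul_cancel₀ he0])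
  let G12 : SL(2, F) := mk !![1, 0; e - 1, 1] (by rw [Matrix.det_fin_two_of]; ring)
  have p02 : ∃ g : L₂, g • (QuotientGroup.mk (π (1 : SL(2, F))) : L₂ ⧸ H) =
      QuotientGroup.mk (π (1 : SL(2, F))) ∧
      g • (QuotientGroup.mk (π (vv 1)) : L₂ ⧸ H) = QuotientGroup.mk (π (vv e)) :=
    ⟨π G02, (k0 _ _).2 ⟨ε⁻¹, inv_mem hε, by
        rw [(col_one _).1, (col_one _).2]; simp [G02, coe_mk, hedef]⟩,
      (k2 _ _ _).2 ⟨1, one_mem_mu, by
        rw [(col_vv _ _).1, (col_vv _ _).2]; simp [G02, coe_mk]⟩⟩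
  obtain ⟨g, g0, g1, g2, -⟩ := bin_four hb
    (QuotientGroup.mk (π (1 : SL(2, F)))) (QuotientGroup.mk (π (swapS : SL(2, F)))) (QuotientGroup.mk (π (vv 1)))
    (QuotientGroup.mk (π (1 : SL(2, F))))
    (QuotientGroup.mk (π (1 : SL(2, F)))) (QuotientGroup.mk (π (swapS : SL(2, F)))) (QuotientGroup.mk (π (vv e)))
    (QuotientGroup.mk (π (1 : SL(2, F))))
    ⟨1, one_smul _ _, one_smul _ _⟩ p02 ⟨1, one_smul _ _, one_smul _ _⟩
    ⟨π G12, (k1 _ _).2 ⟨1, one_mem_mu, by
        rw [(col_swapS _).1, (col_swapS _).2]; simp [G12, swapS, coe_mk]⟩,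
      (k2 _ _ _).2 ⟨1, one_mem_mu, by
        rw [(col_vv _ _).1, (col_vv _ _).2]; simp [G12, coe_mk]⟩⟩
    ⟨1, one_smul _ _, one_smul _ _⟩
    (by obtain ⟨g, h1, h2⟩ := p02; exact ⟨g, h2, h1⟩)
  obtain ⟨G₀, rfl⟩ := π_surjective g
  obtain ⟨c1, hc1, h0, h0'⟩ := (k0 _ _).1 g0
  obtain ⟨c2, -, h1, h1'⟩ := (k1 _ _).1 g1
  obtain ⟨c3, -, h3, h3'⟩ := (k2 _ _ _).1 g2
  rw [(col_one _).1] at h0; rw [(col_one _).2] at h0'
  rw [(col_swapS _).1] at h1; rw [(col_swapS _).2] at h1'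
  rw [(col_vv _ _).1] at h3; rw [(col_vv _ _).2] at h3'
  simp [swapS, coe_mk] at h0 h0' h1 h1' h3 h3'
  have hd := det_eq G₀
  rw [h0, h0', h1, h1', mul_zero, sub_zero] at hd
  rw [h0, h1, add_zero] at h3
  rw [h0', h1', zero_add] at h3'
  refine hns c1⁻¹ (inv_mem hc1) (Units.ext ?_)
  have hc1e : (c1 : F) * c1 * e = 1 := by
    calc (c1 : F) * c1 * e = c1 * (c3 * e) := by rw [← h3, mul_assoc]
      _ = 1 := by rw [← h3']; exact hd
  rw [Units.val_mul, Units.val_inv_eq_inv_val, ← mul_inv, ← eq_inv_of_mul_eq_one_right hc1e]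

/-- A stabiliser above all upper unitriangular elements. -/
theorem full_contra {H : Subgroup L₂} (hb : IsBin H) (hU : ∀ b, upP b ∈ H) (hH : H ≠ ⊤)
    (hbad : Odd q ∨ ∃ a ∈ muG (H := H), a ≠ 1) : False := by
  rcases Nat.even_or_odd q with he | ho
  · obtain ⟨α, hα, hα1⟩ := hbad.resolve_left (fun h => Nat.not_even_iff_odd.2 h he)
    exact full_contra_even hb hU hH he hα hα1
  · exact full_contra_odd hb hU hH ho

/-- Stabilisers with a full Sylow subgroup. -/
theorem full_case {H : Subgroup L₂} (hb : IsBin H) (hfull : q ∣ Nat.card H) (hH : H ≠ ⊤) :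
    Even q ∧ ∃ P : Sylow 2 L₂, H = P := by
  classical
  obtain ⟨a, ha⟩ := exists_upP_mem hfull
  set H' := H.map (MulAut.conj a⁻¹).toMonoidHom with hH'
  have hU : ∀ b, upP b ∈ H' := fun b => ⟨a * upP b * a⁻¹, ha b, by simp [MulAut.conj_apply]; group⟩
  have hH'top : H' ≠ ⊤ := by
    intro h
    apply hH
    apply Subgroup.eq_top_of_card_eq
    rw [← Subgroup.card_map_of_injective (f := (MulAut.conj a⁻¹).toMonoidHom) (MulEquiv.injective _),
      ← hH', h, Subgroup.card_top]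
  have hgood : ¬ (Odd q ∨ ∃ α ∈ muG (H := H'), α ≠ 1) := full_contra (isBin_conj hb a⁻¹) hU hH'top
  push Not at hgood
  obtain ⟨hno, hmu⟩ := hgood
  have he : Even q := Nat.not_odd_iff_even.1 hno
  refine ⟨he, ?_⟩
  have hH'U : H' = upG F := by
    refine le_antisymm (fun g hg => ?_) (by rintro _ ⟨b, rfl⟩; exact hU b)
    obtain ⟨X, rfl⟩ := π_surjective g
    obtain ⟨h0, α, hα, hX⟩ := (mem_iff_of_upP hU hH'top).1 hg
    rw [hmu α hα, Units.val_one] at hX
    refine ⟨X 0 1, ?_⟩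
    rw [upP]
    congr 1
    have hd := det_eq X
    rw [h0, mul_zero, sub_zero, hX, one_mul] at hd
    apply sl_ext <;> simp [h0, hX, hd]
  have hcard : Nat.card H = q := by
    rw [← Subgroup.card_map_of_injective (f := (MulAut.conj a⁻¹).toMonoidHom) (MulEquiv.injective _),
      ← hH', hH'U, card_upG]
  obtain ⟨p, hp⟩ := CharP.exists F
  obtain ⟨f, hpp, hq⟩ := FiniteField.card F p
  have hp2 : p = 2 :=
    (hpp.eq_two_or_odd').resolve_right (fun h => Nat.not_even_iff_odd.2 h (Nat.even_pow.1 (hq ▸ he)).1)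
  subst hp2
  obtain ⟨P, hP⟩ := (IsPGroup.of_card (hcard.trans hq)).exists_le_sylow
  exact ⟨P, Subgroup.eq_of_le_of_card_ge hP
    (hcard ▸ Nat.le_of_dvd Fintype.card_pos (card_dvd_of_isPGroup hq f.pos P.isPGroup'))⟩

/-- The action on cosets of a Sylow `2`-subgroup is binary for even `q`. -/
theorem sylow_binary (h4 : 4 ≤ q) (he : Even q) (P : Sylow 2 L₂) :
    IsBin (P : Subgroup L₂) := by
  classical
  obtain ⟨p, hp⟩ := CharP.exists F
  obtain ⟨f, hpp, hq⟩ := FiniteField.card F p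
  have hp2 : p = 2 :=
    (hpp.eq_two_or_odd').resolve_right (fun h => Nat.not_even_iff_odd.2 h (Nat.even_pow.1 (hq ▸ he)).1)
  subst hp2
  obtain ⟨Q, hQ⟩ := (IsPGroup.of_card ((card_upG (F := F)).trans hq)).exists_le_sylow
  have hQeq : (Q : Subgroup L₂) = upG F := (Subgroup.eq_of_le_of_card_ge hQ
    (card_upG (F := F) ▸ Nat.le_of_dvd Fintype.card_pos (card_dvd_of_isPGroup hq f.pos Q.isPGroup'))).symm
  obtain ⟨a, ha⟩ := MulAction.exists_smul_eq L₂ Q P
  have hPeq : (P : Subgroup L₂) = (upG F).map (MulAut.conj a).toMonoidHom := by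
    rw [← hQeq, ← ha, Sylow.coe_subgroup_smul]
    rfl
  rw [hPeq]
  refine isBin_conj ?_ a
  intro n I J hn hp'
  have hU : ∀ b : F, upP b ∈ upG F := fun b => ⟨b, rfl⟩
  have htop : upG F ≠ ⊤ := by
    intro h
    have h1 := card_upG (F := F)
    rw [h, Subgroup.card_top] at h1
    have h2 := card_G (F := F)
    rw [h1, Linear.gcd_two_of_even he, one_mul] at h2
    have h3 : q * 1 < q * ((q - 1) * (q + 1)) :=
      Nat.mul_lt_mul_of_pos_left (by
        calc 1 < (q - 1) * 1 := by omega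
          _ ≤ (q - 1) * (q + 1) := Nat.mul_le_mul_left _ (by omega)) Fintype.card_pos
    rw [mul_one, ← mul_assoc, ← h2] at h3
    exact lt_irrefl _ h3
  have hmu : ∀ α ∈ muG (H := upG F), α = 1 := by
    rintro α ⟨X, ⟨b, hb⟩, -, hX⟩
    have := π_injective_of_even he hb
    refine Units.ext ?_
    rw [Units.val_one, ← hX, ← this]
    simp
  have hd1 : ∀ (g : SL(2, F)) (A B : SL(2, F)),
      π g • (QuotientGroup.mk (π A) : L₂ ⧸ upG F) = QuotientGroup.mk (π B) ↔
        (g * A) 0 0 = B 0 0 ∧ (g * A) 1 0 = B 1 0 := by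
    intro g A B
    rw [pt_eq hU htop]
    refine ⟨fun ⟨α, hα, h⟩ => by simpa [hmu α hα] using h, fun h => ⟨1, one_mem _, by simpa using h⟩⟩
  choose A hA using fun i => (QuotientGroup.mk_surjective (I i))
  choose A' hA' using fun i => π_surjective (A i)
  choose B hB using fun i => (QuotientGroup.mk_surjective (J i))
  choose B' hB' using fun i => π_surjective (B i)
  have hIJ : ∀ (g : SL(2, F)) (i : Fin n), π g • I i = J i ↔
      (g * A' i) 0 0 = B' i 0 0 ∧ (g * A' i) 1 0 = B' i 1 0 := by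
    intro g i
    rw [← hA i, ← hA' i, ← hB i, ← hB' i]
    exact hd1 _ _ _
  have hpair : ∀ i j : Fin n, i ≠ j → ∃ g : SL(2, F), π g • I i = J i ∧ π g • I j = J j := by
    intro i j hij
    obtain ⟨g, h⟩ := hp' i j hij
    obtain ⟨g', rfl⟩ := π_surjective g
    exact ⟨g', h⟩
  let D : SL(2, F) → SL(2, F) → F := fun U V => U 0 0 * V 1 0 - U 1 0 * V 0 0
  have hDinv : ∀ i j : Fin n, i ≠ j → D (A' i) (A' j) = D (B' i) (B' j) := by
    intro i j hij
    obtain ⟨g, hi, hj⟩ := hpair i j hij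
    obtain ⟨e1, e2⟩ := (hIJ g i).1 hi
    obtain ⟨e3, e4⟩ := (hIJ g j).1 hj
    simp only [D, ← e1, ← e2, ← e3, ← e4, Matrix.SpecialLinearGroup.coe_mul, Matrix.mul_apply,
      Fin.sum_univ_two]
    have hd := det_eq g
    linear_combination -(A' i 0 0 * A' j 1 0 - A' i 1 0 * A' j 0 0) * hd
  by_cases hind : ∃ i j : Fin n, i ≠ j ∧ D (A' i) (A' j) ≠ 0
  · obtain ⟨i, j, hij, hD⟩ := hind
    obtain ⟨g, hi, hj⟩ := hpair i j hij
    refine ⟨π g, fun k => ?_⟩
    rcases eq_or_ne k i with rfl | hki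
    · exact hi
    rcases eq_or_ne k j with rfl | hkj
    · exact hj
    obtain ⟨e1, e2⟩ := (hIJ g i).1 hi
    obtain ⟨e3, e4⟩ := (hIJ g j).1 hj
    rw [hIJ]
    have hd := det_eq g
    have h1 := hDinv i k hki.symm
    have h2 := hDinv j k hkj.symm
    have hDB : D (B' i) (B' j) ≠ 0 := hDinv i j hij ▸ hD
    simp only [D, ← e1, ← e2, ← e3, ← e4] at h1 h2 hDB
    simp only [Matrix.SpecialLinearGroup.coe_mul, Matrix.mul_apply, Fin.sum_univ_two] at h1 h2 hDB ⊢
    constructor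
    · apply mul_left_cancel₀ hDB
      linear_combination (g 0 0 * A' j 0 0 + g 0 1 * A' j 1 0) * h1
        - (g 0 0 * A' i 0 0 + g 0 1 * A' i 1 0) * h2
        + ((g 0 0 * A' j 0 0 + g 0 1 * A' j 1 0) * (A' i 0 0 * A' k 1 0 - A' i 1 0 * A' k 0 0)
          - (g 0 0 * A' i 0 0 + g 0 1 * A' i 1 0) * (A' j 0 0 * A' k 1 0 - A' j 1 0 * A' k 0 0)) * hd
    · apply mul_left_cancel₀ hDB
      linear_combination (g 1 0 * A' j 0 0 + g 1 1 * A' j 1 0) * h1
        - (g 1 0 * A' i 0 0 + g 1 1 * A' i 1 0) * h2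
        + ((g 1 0 * A' j 0 0 + g 1 1 * A' j 1 0) * (A' i 0 0 * A' k 1 0 - A' i 1 0 * A' k 0 0)
          - (g 1 0 * A' i 0 0 + g 1 1 * A' i 1 0) * (A' j 0 0 * A' k 1 0 - A' j 1 0 * A' k 0 0)) * hd
  · push Not at hind
    obtain ⟨g, hg0, -⟩ := hpair (⟨0, by omega⟩ : Fin n) ⟨1, by omega⟩ (by simp)
    refine ⟨π g, fun k => ?_⟩
    rcases eq_or_ne k ⟨0, by omega⟩ with rfl | hk
    · exact hg0
    set i : Fin n := ⟨0, by omega⟩
    obtain ⟨h, hh0, hhk⟩ := hpair i k hk.symm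
    obtain ⟨e1, e2⟩ := (hIJ g i).1 hg0
    obtain ⟨e3, e4⟩ := (hIJ h i).1 hh0
    obtain ⟨e5, e6⟩ := (hIJ h k).1 hhk
    set W := (A' i)⁻¹ * A' k
    have hW0 : W 1 0 = 0 := by
      simp [W, Matrix.SpecialLinearGroup.coe_inv, Matrix.adjugate_fin_two, Matrix.mul_apply, Fin.sum_univ_two]
      linear_combination hind i k hk.symm
    have hA' : ∀ (u : SL(2, F)) (r : Fin 2), (u * A' k) r 0 = (u * A' i) r 0 * W 0 0 := by
      intro u r
      rw [show u * A' k = u * A' i * W by simp only [W]; group]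
      simp [Matrix.mul_apply, Fin.sum_univ_two, hW0]
    rw [hIJ]
    exact ⟨by rw [hA' g 0, e1, ← e3, ← hA' h 0, e5], by rw [hA' g 1, e2, ← e4, ← hA' h 1, e6]⟩

/-- Elements of order three with product of order three are equal. -/
theorem eq_of_order_three (he : Even q) (h3 : ¬ 3 ∣ q - 1) {x y : L₂} (hx : x ^ 3 = 1) (hx1 : x ≠ 1)
    (hy : y ^ 3 = 1) (hy1 : y ≠ 1) (hxy : (x * y) ^ 3 = 1) (hxy1 : x * y ≠ 1) : y = x := by
  classical
  have h2 := two_zero_of_even he
  have trOne : ∀ Z : SL(2, F), (π Z) ^ 3 = 1 → π Z ≠ 1 → (Z : M₂).trace = 1 := by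
    intro Z hZ hZ1
    have hZ3 : Z ^ 3 = 1 := π_injective_of_even he (by rw [map_pow, hZ, map_one])
    have e : (Z : M₂) * ((Z⁻¹ : SL(2, F)) : M₂) = 1 := by
      rw [← Matrix.SpecialLinearGroup.coe_mul, mul_inv_cancel, Matrix.SpecialLinearGroup.coe_one]
    rw [coe_inv_eq, Matrix.mul_sub, Matrix.mul_smul, Matrix.mul_one, sub_eq_iff_eq_add] at e
    have hZZ : (Z : M₂) * (Z : M₂) = (Z : M₂).trace • (Z : M₂) - 1 := by
      rw [e, add_sub_cancel_left]
    have h3' : (Z : M₂) * (Z : M₂) * (Z : M₂) = 1 := by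
      rw [← Matrix.SpecialLinearGroup.coe_mul, ← Matrix.SpecialLinearGroup.coe_mul, ← pow_two,
        ← pow_succ, hZ3, Matrix.SpecialLinearGroup.coe_one]
    rw [hZZ, Matrix.sub_mul, Matrix.smul_mul, Matrix.one_mul, hZZ, smul_sub, smul_smul] at h3'
    set t := (Z : M₂).trace
    by_contra ht
    have hne : t * t - 1 ≠ 0 := fun h => ht (eq_one_of_sq h2 (by rw [pow_two]; linear_combination h))
    apply ns_of_π_ne_one hZ1 ((t * t - 1)⁻¹ * (1 + t))
    rw [mul_smul, ← sub_eq_zero]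
    have h' : (t * t - 1) • (Z : M₂) = (1 + t) • (1 : M₂) := by
      rw [sub_smul, add_smul, one_smul, one_smul]
      ext i j
      have := congrFun (congrFun h3' i) j
      simp only [Matrix.sub_apply, Matrix.add_apply, Matrix.smul_apply, smul_eq_mul] at this ⊢
      linear_combination this
    rw [← h', smul_smul, inv_mul_cancel₀ hne, one_smul, sub_self]
  obtain ⟨X, rfl⟩ := π_surjective x
  obtain ⟨Y, rfl⟩ := π_surjective y
  have tX := trOne X hx hx1
  have tY := trOne Y hy hy1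
  have tXY := trOne (X * Y) (by rwa [map_mul]) (by rwa [map_mul])
  let C : SL(2, F) := mk (Spec.Two.comp (1 : F)) (comp_det 1)
  obtain ⟨g, hg⟩ := exists_conj X C (by rw [tX]; exact (comp_trace (1 : F)).symm)
    (by rw [tX, one_pow]; intro h; exact one_ne_zero (α := F) (by linear_combination h + (2 : F) * h2))
  set Z := g * Y * g⁻¹ with hZdef
  suffices Z = C by
    have : Y = X := by
      calc Y = g⁻¹ * Z * g := by rw [hZdef]; group
        _ = X := by rw [this, ← hg]; group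
    rw [this]
  have tZ : (Z : M₂).trace = 1 := by rw [hZdef, conj_trace, tY]
  have tCZ : ((C * Z : SL(2, F)) : M₂).trace = 1 := by
    rw [← hg, hZdef, show g * X * g⁻¹ * (g * Y * g⁻¹) = g * (X * Y) * g⁻¹ by group, conj_trace, tXY]
  have hd := det_eq Z
  rw [Matrix.trace_fin_two] at tZ
  simp only [Matrix.trace_fin_two, Matrix.SpecialLinearGroup.coe_mul, Matrix.mul_apply,
    Fin.sum_univ_two] at tCZ
  simp [C, coe_mk, Spec.Two.comp] at tCZ
  set a := Z 0 0
  set b := Z 0 1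
  set c := Z 1 0
  set w := Z 1 1
  have hb : b = c + a := by linear_combination tCZ - tZ
  have hsum : a ^ 2 + a * (c + 1) + (c + 1) ^ 2 = 0 := by
    linear_combination -hd + a * tZ - c * hb + (a ^ 2 + a * c + a + c ^ 2 + c) * h2
      + (-(a * a) - a * c - c * c) * h2
  have hc1 : c = 1 := by
    by_contra hc
    have hv : c + 1 ≠ 0 := fun h => hc (by linear_combination h - h2)
    set r := a / (c + 1)
    have hr : r ^ 2 + r + 1 = 0 := by
      have hmul : r * (c + 1) = a := div_mul_cancel₀ _ hv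
      have : (c + 1) ^ 2 * (r ^ 2 + r + 1) = 0 := by
        linear_combination hsum + (r * (c + 1) + a + (c + 1)) * hmul
      exact (mul_eq_zero.1 this).resolve_left (pow_ne_zero _ hv)
    have hr3 : r ^ 3 = 1 := by linear_combination (r - 1) * hr
    have hr1 : r ≠ 1 := fun h => by
      rw [h] at hr
      exact one_ne_zero (α := F) (by linear_combination hr - h2)
    have hr0 : r ≠ 0 := fun h => by rw [h] at hr3; simp at hr3
    apply h3
    rw [← Nat.card_eq_fintype_card (α := F), ← Nat.card_units]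
    rw [← orderOf_eq_prime (x := Units.mk0 r hr0) (p := 3) (Units.ext (by simp [hr3]))
      (fun h => hr1 (congrArg Units.val h))]
    exact orderOf_dvd_natCard _
  have ha : a = 0 := by
    rw [hc1] at hsum
    have : a ^ 2 = 0 := by linear_combination hsum - (a + 2) * h2
    exact pow_eq_zero_iff two_ne_zero |>.1 this
  rw [ha, zero_add] at tZ
  rw [ha, hc1, add_zero] at hb
  apply Subtype.ext
  ext i j
  fin_cases i <;> fin_cases j <;> simp [C, coe_mk, Spec.Two.comp]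
  · exact ha
  · show b = -1
    first
      | linear_combination hb + h2
      | linear_combination hb - h2
  · exact hc1
  · exact tZ

/-- The action on cosets of a subgroup of order three is binary when `3 ∤ q - 1`, `q` even. -/
theorem three_binary (he : Even q) (h3 : ¬ 3 ∣ q - 1) {H : Subgroup L₂} (hH : Nat.card H = 3) :
    IsBin H := by
  classical
  haveI := Fact.mk Nat.prime_three
  have hpow : ∀ (p : L₂ ⧸ H) (g : L₂), g • p = p → g ^ 3 = 1 := by
    intro p g hg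
    obtain ⟨a, rfl⟩ := QuotientGroup.mk_surjective p
    have hm := smul_mk_eq_iff.1 hg
    have h1 : (a⁻¹ * g * a) ^ 3 = 1 := by
      have := pow_card_eq_one' (x := (⟨_, hm⟩ : H))
      rw [hH] at this
      exact congrArg Subtype.val this
    calc g ^ 3 = a * (a⁻¹ * g * a) ^ 3 * a⁻¹ := by rw [← conj_pow]; group
      _ = 1 := by rw [h1]; group
  intro n I J hn hp
  by_cases hd : ∃ i j : Fin n, i ≠ j ∧ ∀ g : L₂, g • I i = I i → g • I j = I j → g = 1
  · obtain ⟨i, j, hij, htriv⟩ := hd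
    obtain ⟨g₀, hi, hj⟩ := hp i j hij
    refine ⟨g₀, fun k => ?_⟩
    rcases eq_or_ne k i with rfl | hki
    · exact hi
    rcases eq_or_ne k j with rfl | hkj
    · exact hj
    obtain ⟨g₁, h1i, h1k⟩ := hp i k hki.symm
    obtain ⟨g₂, h2j, h2k⟩ := hp j k hkj.symm
    set u := g₀⁻¹ * g₁ with hu
    set v := g₀⁻¹ * g₂ with hv
    have hui : u • I i = I i := by rw [hu, mul_smul, h1i, ← hi, inv_smul_smul]
    have hvj : v • I j = I j := by rw [hv, mul_smul, h2j, ← hj, inv_smul_smul]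
    have huk : u • I k = g₀⁻¹ • J k := by rw [hu, mul_smul, h1k]
    have hvk : v • I k = g₀⁻¹ • J k := by rw [hv, mul_smul, h2k]
    suffices g₀⁻¹ • J k = I k by rw [eq_comm, ← inv_smul_eq_iff, this]
    by_cases hu1 : u = 1
    · rw [← huk, hu1, one_smul]
    by_cases hv1 : v = 1
    · rw [← hvk, hv1, one_smul]
    have hwk : (u⁻¹ * v) • I k = I k := by rw [mul_smul, hvk, ← huk, inv_smul_smul]
    by_cases hw1 : u⁻¹ * v = 1
    · rw [inv_mul_eq_one] at hw1
      exact absurd (htriv u hui (hw1 ▸ hvj)) hu1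
    exfalso
    have e := eq_of_order_three he h3 (x := u⁻¹) (y := v)
      (by rw [inv_pow, hpow _ _ hui, inv_one]) (inv_ne_one.2 hu1) (hpow _ _ hvj) hv1 (hpow _ _ hwk) hw1
    exact hv1 (htriv v (e ▸ inv_smul_eq_iff.2 hui.symm) hvj)
  · push Not at hd
    obtain ⟨g, hg0, -⟩ := hp (⟨0, by omega⟩ : Fin n) ⟨1, by omega⟩ (by simp)
    refine ⟨g, fun k => ?_⟩
    rcases eq_or_ne k ⟨0, by omega⟩ with rfl | hk
    · exact hg0
    set i : Fin n := ⟨0, by omega⟩
    obtain ⟨h, hh0, hhk⟩ := hp i k hk.symm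
    obtain ⟨w, hwi, hwk, hw1⟩ := hd i k hk.symm
    set u := g⁻¹ * h with hu
    have hui : u • I i = I i := by rw [hu, mul_smul, hh0, ← hg0, inv_smul_smul]
    suffices u • I k = I k by
      rw [hu, mul_smul, hhk, inv_smul_eq_iff] at this
      exact this.symm
    -- the stabiliser of `I i` is generated by `w`
    obtain ⟨a, ha⟩ := QuotientGroup.mk_surjective (I i)
    rw [← ha, smul_mk_eq_iff] at hwi hui
    have hgen : Subgroup.zpowers (⟨_, hwi⟩ : H) = ⊤ := zpowers_eq_top_of_prime_card hH (by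
      intro h
      apply hw1
      have h' : a⁻¹ * w * a = 1 := congrArg Subtype.val h
      calc w = a * (a⁻¹ * w * a) * a⁻¹ := by group
        _ = 1 := by rw [h']; group)
    obtain ⟨m, hm⟩ := Subgroup.mem_zpowers_iff.1 (hgen.symm ▸ Subgroup.mem_top (⟨_, hui⟩ : H))
    have hum : u = w ^ m := by
      have := congrArg Subtype.val hm
      simp only [Subgroup.coe_zpow] at this
      calc u = a * (a⁻¹ * u * a) * a⁻¹ := by group
        _ = a * (a⁻¹ * w * a) ^ m * a⁻¹ := by rw [this]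
        _ = w ^ m := by
          rw [← MulAut.conj_apply, map_zpow, MulAut.conj_apply]
          congr 1
          group
    rw [hum]
    exact (MulAction.stabilizer L₂ (I k)).zpow_mem (MulAction.mem_stabilizer_iff.2 hwk) m

end Cfsg.Agent.ClassicalMax.Binary
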