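import Cfsg.Agent.ClassicalMax.BinaryOdd

/-!
# Binary coset actions of `PSL(2, F)`: stabilisers of even order without a full Sylow subgroup
-/

set_option autoImplicit false
set_option linter.unusedSectionVars false

namespace Cfsg.Agent.ClassicalMax.Binary

open Matrix Cfsg.Agent.Spec.Two Cfsg.Agent.RootSub.SL2Gen
open scoped MatrixGroups

variable {F : Type*} [Field F] [Fintype F]

local notation "L₂" => Matrix.ProjectiveSpecialLinearGroup (Fin 2) F
local notation "M₂" => Matrix (Fin 2) (Fin 2) F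
local notation "q" => Fintype.card F
local notation "d" => Nat.gcd 2 (Fintype.card F - 1)

theorem le_normalizer_fixK {H : Subgroup L₂} {x : L₂} {S : Subgroup L₂}
    (hS : ∀ u ∈ S, u * x = x * u) : S ≤ Subgroup.normalizer (fixK H x : Set L₂) := by
  intro u hu
  rw [Subgroup.mem_normalizer_iff]
  refine fun g => ⟨fun hg => conj_mem_fixK_of_comm (hS u hu) hg, fun hg => ?_⟩
  have := conj_mem_fixK_of_comm (hS _ (inv_mem hu)) hg
  rwa [show u⁻¹ * (u * g * u⁻¹) * u⁻¹⁻¹ = g by group] at this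

theorem normalizer_fixK_ne_top (h4 : 4 ≤ q) {H : Subgroup L₂} (hfull : ¬ q ∣ Nat.card H)
    {x a : L₂} (ha : a⁻¹ * x * a ∈ H) (hx1 : x ≠ 1) :
    Subgroup.normalizer (fixK H x : Set L₂) ≠ ⊤ := by
  intro htop
  haveI := isSimple (F := F) h4
  rcases (Subgroup.normalizer_eq_top_iff.1 htop).eq_bot_or_eq_top with h | h
  · have := self_mem_fixK H x
    rw [h, Subgroup.mem_bot] at this
    exact hx1 this
  · have := card_fixK_dvd ha
    rw [h, Subgroup.card_top] at this
    exact hfull (q_dvd_card_G.trans this)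

/-- An involution of `PSL(2, F)`, `q` even, is conjugate to `upP 1`. -/
theorem exists_conj_upP_one (he : Even q) {x : L₂} (hx : orderOf x = 2) :
    ∃ a : L₂, a⁻¹ * x * a = upP 1 := by
  classical
  obtain ⟨p, hp⟩ := CharP.exists F
  obtain ⟨f, hpp, hq⟩ := FiniteField.card F p
  have hp2 : p = 2 :=
    (hpp.eq_two_or_odd').resolve_right (fun h => Nat.not_even_iff_odd.2 h (Nat.even_pow.1 (hq ▸ he)).1)
  subst hp2
  haveI := Fact.mk Nat.prime_two
  obtain ⟨P, hP⟩ := (IsPGroup.of_card ((card_upG (F := F)).trans hq)).exists_le_sylow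
  obtain ⟨Q, hQ⟩ := (IsPGroup.of_card (p := 2) (n := 1)
    ((Nat.card_zpowers x).trans (hx.trans (pow_one 2).symm))).exists_le_sylow
  have hqQ : q ∣ Nat.card Q := by
    rw [Sylow.card_eq_multiplicity Q, ← Sylow.card_eq_multiplicity P, ← card_upG (F := F)]
    exact Subgroup.card_dvd_of_le hP
  obtain ⟨a, ha⟩ := exists_upP_mem hqQ
  have heq : (upG F).map (MulAut.conj a).toMonoidHom = (Q : Subgroup L₂) := by
    refine Subgroup.eq_of_le_of_card_ge ?_ ?_
    · rintro _ ⟨_, ⟨b, rfl⟩, rfl⟩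
      exact ha b
    · rw [Subgroup.card_map_of_injective (f := (MulAut.conj a).toMonoidHom) (MulEquiv.injective _),
        card_upG]
      exact Nat.le_of_dvd Fintype.card_pos (card_dvd_of_isPGroup hq f.pos Q.isPGroup')
  obtain ⟨_, ⟨b, rfl⟩, hb⟩ : x ∈ (upG F).map (MulAut.conj a).toMonoidHom :=
    heq ▸ hQ (Subgroup.mem_zpowers x)
  have hb0 : b ≠ 0 := by
    rintro rfl
    have : x = 1 := by rw [← hb, upP_zero, map_one]
    rw [this, orderOf_one] at hx
    omega
  obtain ⟨r, hr⟩ := FiniteField.isSquare_of_char_two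
    (FiniteField.even_card_iff_char_two.2 (Nat.even_iff.1 he)) b
  have hr0 : r ≠ 0 := fun h => hb0 (by rw [hr, h, mul_zero])
  refine ⟨a * torP (Units.mk0 r hr0), ?_⟩
  have e := torP_conj (Units.mk0 r hr0) (1 : F)
  rw [Units.val_mk0, mul_one, ← hr] at e
  have hb' : x = a * upP b * a⁻¹ := hb.symm
  rw [hb', ← e]
  group

/-- Even characteristic: no binary action for even order stabilisers without a full Sylow subgroup. -/
theorem even_invol_contra (h4 : 4 ≤ q) (he : Even q) {H₀ : Subgroup L₂} (hb₀ : IsBin H₀)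
    (hev : Even (Nat.card H₀)) (hfull₀ : ¬ q ∣ Nat.card H₀) : False := by
  classical
  haveI := Fact.mk Nat.prime_two
  obtain ⟨⟨x₀, hx₀H⟩, hx₀⟩ := exists_prime_orderOf_dvd_card' (G := H₀) 2 hev.two_dvd
  rw [Subgroup.orderOf_mk] at hx₀
  obtain ⟨a, ha⟩ := exists_conj_upP_one he hx₀
  set H := H₀.map (MulAut.conj a⁻¹).toMonoidHom with hHdef
  have hb : IsBin H := isBin_conj hb₀ a⁻¹
  have hfull : ¬ q ∣ Nat.card H := by
    rwa [hHdef, Subgroup.card_map_of_injective (f := (MulAut.conj a⁻¹).toMonoidHom) (MulEquiv.injective _)]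
  have h1H : (1 : L₂)⁻¹ * upP (1 : F) * 1 ∈ H := by
    rw [inv_one, one_mul, mul_one, ← ha]
    exact ⟨x₀, hx₀H, by simp⟩
  set K := fixK H (upP (1 : F)) with hK
  have hKdvd : Nat.card K ∣ Nat.card H := card_fixK_dvd h1H
  have hcommU : ∀ u ∈ upG F, u * upP 1 = upP 1 * u := by
    rintro _ ⟨r, rfl⟩
    rw [upP_add, upP_add, add_comm]
  have hUN : upG F ≤ Subgroup.normalizer (K : Set L₂) := le_normalizer_fixK hcommU
  have hne : K ⊔ upG F ≠ ⊤ := fun htop =>
    normalizer_fixK_ne_top h4 hfull h1H (upP_ne_one one_ne_zero)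
      (eq_top_iff.2 (htop ▸ sup_le Subgroup.le_normalizer hUN))
  have hnotall : ¬ ∀ r : F, upP r ∈ K := by
    intro hall
    apply hfull
    rw [← card_upG (F := F)]
    refine dvd_trans (Subgroup.card_dvd_of_le ?_) hKdvd
    rintro _ ⟨r, rfl⟩
    exact hall r
  have hKB : K ≤ borP F := fun g hg =>
    le_borP hne (fun r => (le_sup_right : upG F ≤ _) ⟨r, rfl⟩) ((le_sup_left : K ≤ _) hg)
  have h2 : (2 : F) = 0 := two_eq_zero_iff.2 he.two_dvd
  have hKU : ∀ g ∈ K, ∃ r : F, g = upP r := by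
    intro g hg
    obtain ⟨X, rfl, hX0⟩ := hKB hg
    by_cases hsq : X 0 0 * X 0 0 = 1
    · refine ⟨X 0 1, ?_⟩
      rw [upP]
      congr 1
      have hX00 : X 0 0 = 1 := eq_one_of_sq h2 (by rw [pow_two, hsq])
      have hd := det_eq X
      rw [hX0, mul_zero, sub_zero, hX00, one_mul] at hd
      apply sl_ext <;> simp [hX0, hX00, hd]
    · exfalso
      apply hnotall
      intro r
      have hs : X 0 0 * X 0 0 - 1 ≠ 0 := sub_ne_zero.2 hsq
      set b := r / (X 0 0 * X 0 0 - 1)
      have e : π X * (upP b * (π X)⁻¹ * (upP b)⁻¹) = upP r := by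
        rw [← mul_assoc, ← mul_assoc, conj_upP_of_mem_borP hX0, upP_inv, upP_add]
        congr 1
        have : b * (X 0 0 * X 0 0 - 1) = r := div_mul_cancel₀ _ hs
        linear_combination this
      rw [← e]
      exact mul_mem hg (conj_mem_fixK_of_comm (hcommU _ ⟨b, rfl⟩) (inv_mem hg))
  have hsqrt : ∀ c : F, c ≠ 0 → ∃ t : Fˣ, (t : F) * t = c := by
    intro c hc
    obtain ⟨r, hr⟩ := FiniteField.isSquare_of_char_two
      (FiniteField.even_card_iff_char_two.2 (Nat.even_iff.1 he)) c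
    exact ⟨Units.mk0 r (fun h => hc (by rw [hr, h, mul_zero])), by rw [Units.val_mk0, ← hr]⟩
  have hscale : ∀ {b r c : F}, c ≠ 0 → upP b ∈ fixK H (upP r) →
      upP (c * b) ∈ fixK H (upP (c * r)) := by
    intro b r c hc hbr
    obtain ⟨t, ht⟩ := hsqrt c hc
    have := conj_mem_fixK (torP t) hbr
    rwa [torP_conj, torP_conj, ht] at this
  have hmul : ∀ {b c : F}, upP b ∈ K → upP c ∈ K → upP (c * b) ∈ K := by
    intro b c hbK hcK
    rcases eq_or_ne c 0 with rfl | hc
    · rw [zero_mul, upP_zero]; exact one_mem _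
    · have := hscale hc hbK
      rw [mul_one] at this
      exact fixK_mono hcK this
  have hinv : ∀ {s : F}, s ≠ 0 → upP s ∈ K → upP s⁻¹ ∈ K := by
    intro s hs hsK
    have hpow : ∀ n : ℕ, upP (s ^ n) ∈ K := by
      intro n
      induction n with
      | zero => rw [pow_zero]; exact self_mem_fixK _ _
      | succ n ih => rw [pow_succ]; exact hmul hsK ih
    have e : s⁻¹ = s ^ (q - 2) := by
      refine (eq_inv_of_mul_eq_one_left ?_).symm
      rw [← pow_succ, show q - 2 + 1 = q - 1 by omega]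
      exact FiniteField.pow_card_sub_one_eq_one s hs
    rw [e]
    exact hpow _
  push Not at hnotall
  obtain ⟨c, hc⟩ := hnotall
  have hc0 : c ≠ 0 := by rintro rfl; exact hc (upP_zero (F := F) ▸ one_mem _)
  have hc1 : c ≠ 1 := by rintro rfl; exact hc (self_mem_fixK _ _)
  obtain ⟨g, hgx, hgy, hgw⟩ := binary_triple hb (upP (1 : F)) (upP c)
  obtain ⟨e, rfl⟩ := hKU g hgx
  have hec := hscale (inv_ne_zero hc0) hgy
  rw [inv_mul_cancel₀ hc0] at hec
  have he0 : e = 0 := by
    by_contra hne0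
    refine hc ?_
    have h := hmul (hinv (mul_ne_zero (inv_ne_zero hc0) hne0) hec) hgx
    rwa [show e * (c⁻¹ * e)⁻¹ = c by field_simp] at h
  subst he0
  rw [upP_zero, inv_one, one_mul, upP_inv, upP_add] at hgw
  set r := -c + 1 with hr
  have hr0 : r ≠ 0 := fun h => hc1 (by linear_combination -(h : -c + 1 = 0))
  have h := hscale (inv_ne_zero hr0) hgw
  rw [mul_one, inv_mul_cancel₀ hr0] at h
  have hrK := hinv (inv_ne_zero hr0) h
  rw [inv_inv] at hrK
  refine hc ?_
  have : upP c = upP (1 : F) * (upP r)⁻¹ := by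
    rw [upP_inv, upP_add, hr]
    congr 1
    ring
  rw [this]
  exact mul_mem (self_mem_fixK _ _) (inv_mem hrK)

section odd

theorem trace_invol {X : SL(2, F)} (ho : Odd q) (hx : orderOf (π X) = 2) :
    (X : M₂).trace = 0 ∧ (X : M₂).trace ^ 2 ≠ 4 ∧ π X * π X = 1 ∧ π X ≠ 1 := by
  have h1 : π X * π X = 1 := by
    have := pow_orderOf_eq_one (π X)
    rwa [hx, pow_two] at this
  have hne : π X ≠ 1 := fun h => by rw [h, orderOf_one] at hx; omega
  have ht := trace_sq_ne_four hne (by rw [hx]; exact ho.coprime_two_left)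
  refine ⟨?_, ht, h1, hne⟩
  by_contra h0
  rw [← map_mul] at h1
  obtain ⟨z, hz⟩ := π_eq_one_iff.1 h1
  have e : (X : M₂) * ((X⁻¹ : SL(2, F)) : M₂) = 1 := by
    rw [← Matrix.SpecialLinearGroup.coe_mul, mul_inv_cancel, Matrix.SpecialLinearGroup.coe_one]
  rw [coe_inv_eq, Matrix.mul_sub, Matrix.mul_smul, Matrix.mul_one, sub_eq_iff_eq_add] at e
  rw [Matrix.SpecialLinearGroup.coe_mul] at hz
  rw [hz] at e
  apply ns_of_π_ne_one hne ((X : M₂).trace⁻¹ * (1 + z))
  rw [mul_smul, add_smul, one_smul, ← e, smul_smul, inv_mul_cancel₀ h0, one_smul]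

theorem sq_neg_one {X : SL(2, F)} (ht : (X : M₂).trace = 0) :
    (X : M₂) * (X : M₂) = -1 := by
  have e : (X : M₂) * ((X⁻¹ : SL(2, F)) : M₂) = 1 := by
    rw [← Matrix.SpecialLinearGroup.coe_mul, mul_inv_cancel, Matrix.SpecialLinearGroup.coe_one]
  rw [coe_inv_eq, ht, zero_smul, zero_sub, Matrix.mul_neg] at e
  rw [← e, neg_neg]

theorem orderOf_eq_two' {g : L₂} (h : g * g = 1) (h1 : g ≠ 1) : orderOf g = 2 :=
  orderOf_eq_prime (p := 2) (by rw [pow_two, h]) h1

theorem torG_commute_self {X : SL(2, F)} (ht : (X : M₂).trace ^ 2 ≠ 4) {t : L₂} (h : t ∈ torG X) :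
    t * π X = π X * t :=
  torG_comm ht h (self_mem_torG X)

/-- The only involution of the torus. -/
theorem torus_invol (ho : Odd q) {X : SL(2, F)} (hx : orderOf (π X) = 2) {t : L₂} (h : t ∈ torG X)
    (htt : t * t = 1) : t = 1 ∨ t = π X := by
  by_contra hcon
  push Not at hcon
  obtain ⟨hX0, ht4, hxx, -⟩ := trace_invol ho hx
  obtain ⟨W, hW, rfl⟩ := h
  obtain ⟨hW0, -, -, -⟩ := trace_invol ho (orderOf_eq_two' htt hcon.1)
  rcases eq_or_eq_inv' ht4 (Subgroup.mem_centralizer_singleton_iff.1 hW) (hW0.trans hX0.symm) with e | e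
  · exact hcon.2 (congrArg π e)
  · exact hcon.2 (by rw [e, map_inv, inv_eq_of_mul_eq_one_right hxx])

theorem refl_lift {X W : SL(2, F)} (hc : π W * π X = π X * π W) (hT : π W ∉ torG X) :
    (W : M₂) * (X : M₂) = -((X : M₂) * (W : M₂)) := by
  rw [← map_mul, ← map_mul, eq_comm, π_eq_iff] at hc
  obtain ⟨c, hc2, he⟩ := hc
  rw [Matrix.SpecialLinearGroup.coe_mul, Matrix.SpecialLinearGroup.coe_mul] at he
  rcases pred_sq_one c hc2 with rfl | rfl
  · rw [one_smul] at he
    exact absurd (Subgroup.mem_map_of_mem π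
      (Subgroup.mem_centralizer_singleton_iff.2 (Subtype.ext he : W * X = X * W))) hT
  · rwa [neg_one_smul] at he

theorem refl_trace (ho : Odd q) {X W : SL(2, F)} (hx : orderOf (π X) = 2)
    (he : (W : M₂) * (X : M₂) = -((X : M₂) * (W : M₂))) : (W : M₂).trace = 0 := by
  obtain ⟨hX0, -, -, -⟩ := trace_invol ho hx
  have h2 : (2 : F) ≠ 0 := fun h => Nat.not_even_iff_odd.2 ho (even_iff_two_dvd.2 (two_eq_zero_iff.1 h))
  rw [Matrix.trace_fin_two] at hX0 ⊢
  have hd := det_eq X
  have e00 := congrFun (congrFun he 0) 0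
  have e01 := congrFun (congrFun he 0) 1
  have e10 := congrFun (congrFun he 1) 0
  have e11 := congrFun (congrFun he 1) 1
  simp [Matrix.mul_apply, Fin.sum_univ_two] at e00 e01 e10 e11
  have hw : X 1 1 = -X 0 0 := by linear_combination hX0
  rw [hw] at hd e01 e10 e11
  set p := W 0 0
  set r := W 0 1
  set s := W 1 0
  set u := W 1 1
  set a := X 0 0
  set b := X 0 1
  set c := X 1 0
  have h1 : b * (p + u) = 0 := by linear_combination e01
  have h3 : a * (p + u) = 0 := by
    apply mul_left_cancel₀ h2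
    linear_combination e00 - e11
  linear_combination (-a) * h3 - c * h1 - (p + u) * hd

/-- Elements commuting with an involution outside its torus are involutions. -/
theorem refl_invol (ho : Odd q) {X : SL(2, F)} (hx : orderOf (π X) = 2) {g : L₂}
    (hc : g * π X = π X * g) (hT : g ∉ torG X) : g * g = 1 ∧ g ≠ 1 := by
  refine ⟨?_, fun h => hT (h ▸ one_mem _)⟩
  obtain ⟨W, rfl⟩ := π_surjective g
  rw [← map_mul, π_eq_one_iff]
  exact ⟨-1, by rw [Matrix.SpecialLinearGroup.coe_mul,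
    sq_neg_one (refl_trace ho hx (refl_lift hc hT)), neg_one_smul]⟩

theorem refl_mul {X : SL(2, F)} {g h : L₂} (hg : g * π X = π X * g) (hgT : g ∉ torG X)
    (hh : h * π X = π X * h) (hhT : h ∉ torG X) : g * h ∈ torG X := by
  obtain ⟨V, rfl⟩ := π_surjective g
  obtain ⟨W, rfl⟩ := π_surjective h
  rw [← map_mul]
  refine Subgroup.mem_map_of_mem π (Subgroup.mem_centralizer_singleton_iff.2 (Subtype.ext ?_))
  simp only [Matrix.SpecialLinearGroup.coe_mul]
  rw [Matrix.mul_assoc, refl_lift hh hhT, Matrix.mul_neg, ← Matrix.mul_assoc, refl_lift hg hgT,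
    Matrix.neg_mul, neg_neg, Matrix.mul_assoc]

theorem exists_refl (ho : Odd q) {X : SL(2, F)} (hx : orderOf (π X) = 2) :
    ∃ g : L₂, g * π X = π X * g ∧ g ∉ torG X := by
  obtain ⟨hX0, ht4, hxx, hx1⟩ := trace_invol ho hx
  have h2 : (2 : F) ≠ 0 := fun h => Nat.not_even_iff_odd.2 ho (even_iff_two_dvd.2 (two_eq_zero_iff.1 h))
  obtain ⟨W, hW⟩ := exists_conj X X⁻¹ (trace_inv X).symm ht4
  refine ⟨π W, ?_, ?_⟩
  · have := congrArg π hW
    rw [map_mul, map_mul, map_inv, map_inv, inv_eq_of_mul_eq_one_right hxx] at this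
    exact mul_inv_eq_iff_eq_mul.1 this
  · intro hmem
    have hm : W ∈ (torG X).comap π := hmem
    rw [comap_torG, Subgroup.mem_centralizer_singleton_iff] at hm
    rw [hm, mul_inv_cancel_right] at hW
    have hsq : (X : M₂) * (X : M₂) = 1 := by
      rw [← Matrix.SpecialLinearGroup.coe_mul]
      nth_rw 2 [hW]
      rw [mul_inv_cancel, Matrix.SpecialLinearGroup.coe_one]
    rw [sq_neg_one hX0] at hsq
    have := congrFun (congrFun hsq 0) 0
    simp at this
    exact h2 (by linear_combination -this)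

/-- Involutions are conjugate. -/
theorem invol_conj (ho : Odd q) {x g : L₂} (hx : orderOf x = 2) (hg : orderOf g = 2) :
    ∃ a : L₂, a * x * a⁻¹ = g := by
  obtain ⟨X, rfl⟩ := π_surjective x
  obtain ⟨W, rfl⟩ := π_surjective g
  obtain ⟨hX0, ht4, -, -⟩ := trace_invol ho hx
  obtain ⟨hW0, -, -, -⟩ := trace_invol ho hg
  obtain ⟨A, hA⟩ := exists_conj X W (hX0.trans hW0.symm) ht4
  exact ⟨π A, by rw [← hA, map_mul, map_mul, map_inv]⟩

/-- The centraliser of two commuting involutions. -/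
theorem four_group (ho : Odd q) {X : SL(2, F)} (hx : orderOf (π X) = 2) {y : L₂}
    (hy : y * π X = π X * y) (hyT : y ∉ torG X) {g : L₂} (hgx : g * π X = π X * g)
    (hgy : g * y = y * g) : g = 1 ∨ g = π X ∨ g = y ∨ g = π X * y := by
  obtain ⟨-, ht4, -, -⟩ := trace_invol ho hx
  obtain ⟨hyy, -⟩ := refl_invol ho hx hy hyT
  by_cases hgT : g ∈ torG X
  · have hygT : y * g ∉ torG X := fun h => hyT (by simpa using mul_mem h (inv_mem hgT))
    obtain ⟨h, -⟩ := refl_invol ho hx (g := y * g)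
      (by rw [mul_assoc, hgx, ← mul_assoc, hy, mul_assoc]) hygT
    have hgg : g * g = 1 := by
      calc g * g = y * y * (g * g) := by rw [hyy, one_mul]
        _ = y * (y * g) * g := by group
        _ = y * (g * y) * g := by rw [hgy]
        _ = y * g * (y * g) := by group
        _ = 1 := h
    rcases torus_invol ho hx hgT hgg with e | e
    · exact Or.inl e
    · exact Or.inr (Or.inl e)
  · have hm := refl_mul hgx hgT hy hyT
    obtain ⟨hgg, -⟩ := refl_invol ho hx hgx hgT
    have hsq : g * y * (g * y) = 1 := by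
      calc g * y * (g * y) = g * (y * g) * y := by group
        _ = g * (g * y) * y := by rw [hgy]
        _ = g * g * (y * y) := by group
        _ = 1 := by rw [hgg, hyy, one_mul]
    have hg' : g = g * y * y := by rw [mul_assoc, hyy, mul_one]
    rcases torus_invol ho hx hm hsq with e | e
    · exact Or.inr (Or.inr (Or.inl (by rw [hg', e, one_mul])))
    · exact Or.inr (Or.inr (Or.inr (by rw [hg', e])))

theorem cayley_two (A : M₂) : A * A = A.trace • A - A.det • (1 : M₂) := by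
  ext i j
  fin_cases i <;> fin_cases j <;>
    simp [Matrix.mul_apply, Fin.sum_univ_two, Matrix.det_fin_two, Matrix.trace_fin_two] <;> ring

/-- An element permuting three commuting involutions cyclically. -/
theorem exists_cycle (ho : Odd q) {X : SL(2, F)} (hx : orderOf (π X) = 2) {y : L₂}
    (hy : y * π X = π X * y) (hyT : y ∉ torG X) :
    ∃ r : L₂, r * π X * r⁻¹ = y ∧ r * y * r⁻¹ = π X * y := by
  obtain ⟨hX0, -, -, -⟩ := trace_invol ho hx
  have h2 : (2 : F) ≠ 0 := fun h => Nat.not_even_iff_odd.2 ho (even_iff_two_dvd.2 (two_eq_zero_iff.1 h))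
  obtain ⟨Y, rfl⟩ := π_surjective y
  have hBA := refl_lift hy hyT
  have hY0 := refl_trace ho hx hBA
  set A : M₂ := (X : M₂) with hA
  set B : M₂ := (Y : M₂) with hB
  have hAA : A * A = -1 := sq_neg_one hX0
  have hBB : B * B = -1 := sq_neg_one hY0
  have t1 : A * (A * B) = -B := by rw [← Matrix.mul_assoc, hAA, Matrix.neg_mul, Matrix.one_mul]
  have t2 : A * B * A = B := by
    rw [Matrix.mul_assoc, hBA, Matrix.mul_neg, t1, neg_neg]
  have t3 : B * (A * B) = A := by
    rw [← Matrix.mul_assoc, hBA, Matrix.neg_mul, Matrix.mul_assoc, hBB, Matrix.mul_neg,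
      Matrix.mul_one, neg_neg]
  have t4 : A * B * B = -A := by rw [Matrix.mul_assoc, hBB, Matrix.mul_neg, Matrix.mul_one]
  have t5 : A * B * (A * B) = -1 := by rw [← Matrix.mul_assoc, t2, hBB]
  have htr : (A * B).trace = 0 := by
    have h := Matrix.trace_mul_comm B A
    rw [hBA, Matrix.trace_neg] at h
    have : (2 : F) * (A * B).trace = 0 := by linear_combination -h
    exact (mul_eq_zero.1 this).resolve_left h2
  set S : M₂ := 1 + A + B + A * B with hS
  have e1 : S * A = B * S := by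
    simp only [hS, Matrix.add_mul, Matrix.mul_add, Matrix.one_mul, Matrix.mul_one, hAA, hBB, hBA, t2, t3]
    abel
  have e2 : S * B = A * B * S := by
    simp only [hS, Matrix.add_mul, Matrix.mul_add, Matrix.one_mul, Matrix.mul_one, hBB, t2, t4, t5]
    abel
  have e3 : S * S = (2 : F) • S - (4 : F) • (1 : M₂) := by
    have e : S * S = S + S - (1 + 1 + 1 + 1) := by
      simp only [hS, Matrix.add_mul, Matrix.mul_add, Matrix.one_mul, Matrix.mul_one, hAA, hBB, hBA,
        t1, t2, t3, t4, t5]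
      abel
    rw [e, two_smul, show (4 : F) = 1 + 1 + 1 + 1 by norm_num, add_smul, add_smul, add_smul, one_smul]
  have hstr : S.trace = 2 := by
    rw [hS, Matrix.trace_add, Matrix.trace_add, Matrix.trace_add, htr, hA, hX0, hB, hY0]
    simp
  have hdet : S.det = 4 := by
    have h := (cayley_two S).symm.trans e3
    rw [hstr] at h
    have h' := congrFun (congrFun h 0) 0
    simp at h'
    linear_combination h'
  let R : SL(2, F) := mk ((2 : F)⁻¹ • S) (by
    rw [Matrix.det_smul, Fintype.card_fin, hdet]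
    field_simp
    norm_num)
  refine ⟨π R, ?_, ?_⟩
  · rw [mul_inv_eq_iff_eq_mul, ← map_mul, ← map_mul]
    congr 1
    apply Subtype.ext
    simp only [R, Matrix.SpecialLinearGroup.coe_mul, coe_mk, Matrix.smul_mul, Matrix.mul_smul, ← hA,
      ← hB, e1]
  · rw [mul_inv_eq_iff_eq_mul, ← map_mul, ← map_mul, ← map_mul]
    congr 1
    apply Subtype.ext
    simp only [R, Matrix.SpecialLinearGroup.coe_mul, coe_mk, Matrix.smul_mul, Matrix.mul_smul, ← hA,
      ← hB, e2]

/-- The argument with three commuting involutions. -/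
theorem invol_triple (ho : Odd q) {H : Subgroup L₂} (hb : IsBin H) {X : SL(2, F)}
    (hx : orderOf (π X) = 2) {y : L₂} (hy : y * π X = π X * y) (hyT : y ∉ torG X)
    (hyK : y ∉ fixK H (π X))
    (hD : π X ∉ fixK H y → π X * y ∉ fixK H (π X) →
      ∀ g, g ∈ fixK H (π X) → g ∈ fixK H y → g = 1 ∨ g = π X ∨ g = y ∨ g = π X * y) : False := by
  obtain ⟨-, -, hxx, -⟩ := trace_invol ho hx
  obtain ⟨hyy, -⟩ := refl_invol ho hx hy hyT
  obtain ⟨r, hr1, hr2⟩ := exists_cycle ho hx hy hyT
  set x := π X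
  have hzK : x * y ∉ fixK H x := fun h => hyK (by
    have := mul_mem (self_mem_fixK H x) h
    rwa [← mul_assoc, hxx, one_mul] at this)
  have hr3 : r * (x * y) * r⁻¹ = x := by
    calc r * (x * y) * r⁻¹ = r * x * r⁻¹ * (r * y * r⁻¹) := by group
      _ = y * (x * y) := by rw [hr1, hr2]
      _ = y * x * y := by group
      _ = x * (y * y) := by rw [hy]; group
      _ = x := by rw [hyy, mul_one]
  have i1 : r⁻¹ * x * r⁻¹⁻¹ = x * y := by
    calc r⁻¹ * x * r⁻¹⁻¹ = r⁻¹ * (r * (x * y) * r⁻¹) * r := by rw [hr3]; group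
      _ = x * y := by group
  have i2 : r⁻¹ * y * r⁻¹⁻¹ = x := by
    calc r⁻¹ * y * r⁻¹⁻¹ = r⁻¹ * (r * x * r⁻¹) * r := by rw [hr1]; group
      _ = x := by group
  have i3 : r⁻¹ * (x * y) * r⁻¹⁻¹ = y := by
    calc r⁻¹ * (x * y) * r⁻¹⁻¹ = r⁻¹ * (r * y * r⁻¹) * r := by rw [hr2]; group
      _ = y := by group
  have hxKy : x ∉ fixK H y := fun h => hzK (by
    have := conj_mem_fixK r⁻¹ h
    rwa [i1, i2] at this)
  obtain ⟨g, hgx, hgy, hgw⟩ := binary_triple hb x y
  have hyx : y⁻¹ * x = x * y := by rw [inv_eq_of_mul_eq_one_right hyy, hy]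
  rw [hyx] at hgw
  rcases hD hxKy hzK g hgx hgy with rfl | rfl | rfl | rfl
  · rw [inv_one, one_mul] at hgw
    have h1 := conj_mem_fixK r⁻¹ hgw
    rw [i1, i3] at h1
    have h2 := conj_mem_fixK r⁻¹ h1
    rw [i3, i2] at h2
    exact hyK h2
  · exact hxKy hgy
  · exact hyK hgx
  · exact hzK hgx

/-- A torus with a Borel overgroup cannot meet a reflection. -/
theorem not_borel (ho : Odd q) {M : Subgroup L₂} (hM : M ≠ ⊤) (hqM : q ∣ Nat.card M) {x g : L₂}
    (hx : orderOf x = 2) (hg : orderOf g = 2) (hgx : g * x = x * g) (hne : x ≠ g)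
    (hxM : x ∈ M) (hgM : g ∈ M) : False := by
  obtain ⟨b, hb⟩ := exists_upP_mem hqM
  set M' := M.comap (MulAut.conj b).toMonoidHom with hM'
  have hM'top : M' ≠ ⊤ := by
    intro h
    apply hM
    rw [← Subgroup.map_comap_eq_self_of_surjective (f := (MulAut.conj b).toMonoidHom)
      (MulEquiv.surjective (MulAut.conj b)) M]
    exact (congrArg (Subgroup.map _) h).trans
      (Subgroup.map_top_of_surjective _ (MulEquiv.surjective (MulAut.conj b)))
  have hB : ∀ m ∈ M, b⁻¹ * m * b ∈ borP F := by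
    intro m hm
    refine le_borP hM'top (fun c => ?_) ?_
    · simpa [hM'] using hb c
    · show b * (b⁻¹ * m * b) * b⁻¹ ∈ M
      rw [show b * (b⁻¹ * m * b) * b⁻¹ = m by group]
      exact hm
  have hord : ∀ m : L₂, orderOf (b⁻¹ * m * b) = orderOf m := by
    intro m
    have := MulEquiv.orderOf_eq (MulAut.conj b⁻¹) m
    simpa using this
  obtain ⟨Y, hY, hY0⟩ := hB x hxM
  obtain ⟨Z, hZ, hZ0⟩ := hB g hgM
  obtain ⟨tY, -, -, -⟩ := trace_invol ho (X := Y) (by rw [hY, hord, hx])
  obtain ⟨tZ, -, -, -⟩ := trace_invol ho (X := Z) (by rw [hZ, hord, hg])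
  have hprod : orderOf (π (Y * Z)) = 2 := by
    rw [map_mul, hY, hZ, show b⁻¹ * x * b * (b⁻¹ * g * b) = b⁻¹ * (x * g) * b by group, hord]
    have hxx : x * x = 1 := by
      have := pow_orderOf_eq_one x
      rwa [hx, pow_two] at this
    have hgg : g * g = 1 := by
      have := pow_orderOf_eq_one g
      rwa [hg, pow_two] at this
    refine orderOf_eq_two' ?_ ?_
    · calc x * g * (x * g) = x * (g * x) * g := by group
        _ = x * (x * g) * g := by rw [hgx]
        _ = x * x * (g * g) := by group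
        _ = 1 := by rw [hxx, hgg, one_mul]
    · intro h
      exact hne ((inv_eq_of_mul_eq_one_right hxx).symm.trans (inv_eq_of_mul_eq_one_right h))
  obtain ⟨tP, ht4, -, -⟩ := trace_invol ho hprod
  have hdY := det_eq Y
  have hdZ := det_eq Z
  rw [hY0, mul_zero, sub_zero] at hdY
  rw [hZ0, mul_zero, sub_zero] at hdZ
  rw [Matrix.trace_fin_two] at tY tZ
  simp [Matrix.trace_fin_two, Matrix.mul_apply, Fin.sum_univ_two, hY0, hZ0] at tP
  rw [eq_neg_of_add_eq_zero_right tY] at hdY tP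
  rw [eq_neg_of_add_eq_zero_right tZ] at hdZ tP
  set a := Y 0 0
  set c := Z 0 0
  have h2 : (2 : F) ≠ 0 := fun h => Nat.not_even_iff_odd.2 ho (even_iff_two_dvd.2 (two_eq_zero_iff.1 h))
  have hac : a * c = 0 := by
    apply mul_left_cancel₀ h2
    linear_combination tP
  rcases mul_eq_zero.1 hac with h | h
  · simp [h] at hdY
  · simp [h] at hdZ

/-- Odd `q ≥ 11`: no binary action for even order stabilisers without a full Sylow subgroup. -/
theorem odd_invol_contra (h11 : 11 ≤ q) (ho : Odd q) {H : Subgroup L₂} (hb : IsBin H)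
    (hev : Even (Nat.card H)) (hfull : ¬ q ∣ Nat.card H) : False := by
  classical
  haveI := Fact.mk Nat.prime_two
  obtain ⟨⟨x, hxH⟩, hx⟩ := exists_prime_orderOf_dvd_card' (G := H) 2 hev.two_dvd
  rw [Subgroup.orderOf_mk] at hx
  obtain ⟨X, rfl⟩ := π_surjective x
  obtain ⟨hX0, ht4, hxx, hx1⟩ := trace_invol ho hx
  have hd2 : d = 2 := Linear.gcd_two_of_odd ho
  have h2T : 2 ∣ Nat.card (torG X) := by
    have := Subgroup.orderOf_dvd_natCard _ (self_mem_torG X)
    rwa [hx] at this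
  have hT6 : 6 ≤ Nat.card (torG X) := by
    have := card_torG ht4
    rw [hd2] at this
    rcases h2T with ⟨k, hk⟩
    rcases ho with ⟨j, hj⟩
    omega
  have ha : (1 : L₂)⁻¹ * π X * 1 ∈ H := by rwa [inv_one, one_mul, mul_one]
  set K := fixK H (π X) with hK
  set C := Subgroup.centralizer ({π X} : Set L₂)
  have hCN : C ≤ Subgroup.normalizer (K : Set L₂) :=
    le_normalizer_fixK fun u hu => Subgroup.mem_centralizer_singleton_iff.1 hu
  have hne : K ⊔ C ≠ ⊤ := fun htop =>
    normalizer_fixK_ne_top (by omega) hfull ha hx1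
      (eq_top_iff.2 (htop ▸ sup_le Subgroup.le_normalizer hCN))
  obtain ⟨M, hM, hle⟩ := (eq_top_or_exists_le_coatom (K ⊔ C)).resolve_left hne
  have hTC : torG X ≤ C := fun t ht =>
    Subgroup.mem_centralizer_singleton_iff.2 (torG_commute_self ht4 ht)
  obtain ⟨g₀, hg₀, hg₀T⟩ := exists_refl ho hx
  obtain ⟨hg₀g, hg₀1⟩ := refl_invol ho hx hg₀ hg₀T
  have hKC : ∀ g ∈ K, g * π X = π X * g := by
    rcases max_torus (by omega) ht4 (by omega) (Or.inr hT6) hM (hTC.trans (le_sup_right.trans hle))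
      with hMN | hMc
    · intro g hg
      have hmem := (Subgroup.mem_normalizer_iff.1 (hMN (le_sup_left.trans hle hg)) _).1
        (self_mem_torG X)
      rcases conj_pm ht4 hmem with e | e
      · exact mul_inv_eq_iff_eq_mul.1 e
      · rw [inv_eq_of_mul_eq_one_right hxx] at e
        exact mul_inv_eq_iff_eq_mul.1 e
    · exact (not_borel ho hM.1 (q_coprime_d.dvd_of_dvd_mul_left (hMc ▸ dvd_mul_right _ _)) hx
        (orderOf_eq_two' hg₀g hg₀1) hg₀ (fun h => hg₀T (h ▸ self_mem_torG X))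
        ((le_sup_right.trans hle) (Subgroup.mem_centralizer_singleton_iff.2 rfl))
        ((le_sup_right.trans hle) (Subgroup.mem_centralizer_singleton_iff.2 hg₀))).elim
  obtain ⟨y, hy, hyT, hyK⟩ : ∃ y : L₂, y * π X = π X * y ∧ y ∉ torG X ∧ y ∉ K := by
    by_contra hall
    push Not at hall
    have hCK : C ≤ K := by
      intro c hc
      have hc' := Subgroup.mem_centralizer_singleton_iff.1 hc
      by_cases hcT : c ∈ torG X
      · have h' : c * g₀ ∉ torG X := fun h => hg₀T (by simpa using mul_mem (inv_mem hcT) h)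
        have h1 := hall _ (show c * g₀ * π X = π X * (c * g₀) by
          rw [mul_assoc, hg₀, ← mul_assoc, hc', mul_assoc]) h'
        simpa using mul_mem h1 (inv_mem (hall g₀ hg₀ hg₀T))
      · exact hall c hc' hcT
    obtain ⟨a, haeq⟩ := invol_conj ho hx (orderOf_eq_two' hg₀g hg₀1)
    set C' := C.map (MulAut.conj a).toMonoidHom with hC'
    have hC'C : C' ≤ C := by
      rintro _ ⟨c, hc, rfl⟩
      have h := conj_mem_fixK a (hCK hc)
      rw [haeq] at h
      exact Subgroup.mem_centralizer_singleton_iff.2 (hKC _ (fixK_mono (hall g₀ hg₀ hg₀T) h))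
    have heq : C' = C := Subgroup.eq_of_le_of_card_ge hC'C (by
      rw [hC', Subgroup.card_map_of_injective (f := (MulAut.conj a).toMonoidHom) (MulEquiv.injective _)])
    haveI := isCyclic_torG ht4
    obtain ⟨τ, hτ⟩ := IsCyclic.exists_ofOrder_eq_natCard (α := torG X)
    rw [← Subgroup.orderOf_coe] at hτ
    have hmem : (τ : L₂) ∈ C' := heq ▸ hTC τ.2
    obtain ⟨c, hc, hce⟩ := hmem
    have hce' : a * c * a⁻¹ = (τ : L₂) := hce
    have hc' := Subgroup.mem_centralizer_singleton_iff.1 hc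
    have hcom : g₀ * (τ : L₂) = τ * g₀ := by
      rw [← hce', ← haeq,
        show a * π X * a⁻¹ * (a * c * a⁻¹) = a * (π X * c) * a⁻¹ by group, ← hc']
      group
    apply hg₀T
    rw [← centralizer_of_mem_torG ht4 τ.2 (show 2 < orderOf (τ : L₂) by omega),
      Subgroup.mem_centralizer_singleton_iff]
    exact hcom
  refine invol_triple ho hb hx hy hyT hyK (fun _ _ g hgx hgy => four_group ho hx hy hyT (hKC g hgx) ?_)
  obtain ⟨hyy, hy1⟩ := refl_invol ho hx hy hyT
  obtain ⟨a, haeq⟩ := invol_conj ho hx (orderOf_eq_two' hyy hy1)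
  have h := conj_mem_fixK a⁻¹ hgy
  rw [show a⁻¹ * y * a⁻¹⁻¹ = π X by rw [← haeq]; group] at h
  have h' := hKC _ h
  rw [← haeq]
  calc g * (a * π X * a⁻¹) = a * (a⁻¹ * g * a⁻¹⁻¹ * π X) * a⁻¹ := by group
    _ = a * (π X * (a⁻¹ * g * a⁻¹⁻¹)) * a⁻¹ := by rw [h']
    _ = a * π X * a⁻¹ * g := by group

end odd

end Cfsg.Agent.ClassicalMax.Binary
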