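import Cfsg.Agent.ClassicalMax.BinaryTorus
import Cfsg.Agent.Linear.Transvection

/-!
# Binary coset actions of `PSL(2, F)`: point stabilisers of odd order without a full Sylow subgroup
-/

set_option autoImplicit false
set_option linter.unusedSectionVars false

namespace Cfsg.Agent.ClassicalMax.Binary

open Matrix Cfsg.Agent.Spec.Two Cfsg.Agent.RootSub.SL2Gen
open scoped MatrixGroups

variable {F : Type*} [Field F] [Fintype F]

local notation "L₂" => Matrix.ProjectiveSpecialLinearGroup (Fin 2) F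
local notation "M₂" => Matrix (Fin 2) (Fin 2) F
local notation "q" => Fintype.card F
local notation "d" => Nat.gcd 2 (Fintype.card F - 1)

theorem exists_sq_add_sq (x : F) : ∃ a b : F, a ^ 2 + b ^ 2 = x := by
  rcases Nat.even_or_odd q with he | ho
  · obtain ⟨a, ha⟩ := FiniteField.isSquare_of_char_two
      (FiniteField.even_card_iff_char_two.2 (Nat.even_iff.1 he)) x
    exact ⟨a, 0, by rw [ha]; ring⟩
  · classical
    obtain ⟨a, b, h⟩ := FiniteField.exists_root_sum_quadratic
      (f := (Polynomial.X : Polynomial F) ^ 2) (g := Polynomial.X ^ 2 - Polynomial.C x)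
      (Polynomial.degree_X_pow 2) (Polynomial.degree_X_pow_sub_C (by norm_num) _) (Nat.odd_iff.1 ho)
    simp at h
    exact ⟨a, b, by linear_combination h⟩

/-- In a torus, the other element of the same trace is the inverse. -/
theorem eq_or_eq_inv' {X Z : SL(2, F)} (ht : (X : M₂).trace ^ 2 ≠ 4) (hc : Z * X = X * Z)
    (htr : (Z : M₂).trace = (X : M₂).trace) : Z = X ∨ Z = X⁻¹ := by
  by_cases h2 : (2 : F) = 0
  swap
  · exact eq_or_eq_inv h2 X Z ht hc htr
  obtain ⟨P, hP, hg, hco⟩ := exists_coord X (ns_of_trace_sq X.2 ht)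
  obtain ⟨v, hM, hdet, htr'⟩ := hco (Z : M₂) (congrArg (fun y : SL(2, F) => (y : M₂)) hc)
  set t := (X : M₂).trace
  rw [Z.2] at hdet
  rw [htr] at htr'
  simp only [qf] at hdet
  have ht0 : t ≠ 0 := fun h => ht (by rw [h]; linear_combination (-2 : F) * h2)
  have hy1 : v.2 = 1 := mul_left_cancel₀ ht0 (by linear_combination -htr' - v.1 * h2)
  have hx : v.1 * (v.1 + t) = 0 := by
    rw [hy1] at hdet
    linear_combination -hdet
  have hu : IsUnit P.det := Ne.isUnit hP
  rcases mul_eq_zero.1 hx with h | h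
  · left
    apply Subtype.ext
    rw [hM, hg]
    congr 2
    ext i j
    fin_cases i <;> fin_cases j <;> simp [lin, Spec.Two.comp, hy1, h]
  · right
    apply Subtype.ext
    rw [hM, coe_inv_eq]
    have hl : lin t v = t • (1 : M₂) - Spec.Two.comp t := by
      ext i j
      fin_cases i <;> fin_cases j <;> simp [lin, Spec.Two.comp, hy1, eq_neg_of_add_eq_zero_left h]
      all_goals first
        | linear_combination (-t) * h2
        | linear_combination (-1 : F) * h2
        | linear_combination (1 : F) * h2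
    rw [hl, Matrix.mul_sub, Matrix.sub_mul, Matrix.mul_smul, Matrix.smul_mul, Matrix.mul_one,
      Matrix.mul_nonsing_inv P hu, ← hg]

theorem conj_pm {X : SL(2, F)} (ht : (X : M₂).trace ^ 2 ≠ 4) {g : L₂}
    (hg : g * π X * g⁻¹ ∈ torG X) : g * π X * g⁻¹ = π X ∨ g * π X * g⁻¹ = (π X)⁻¹ := by
  obtain ⟨G₀, rfl⟩ := π_surjective g
  rw [← map_inv, ← map_mul, ← map_mul] at hg ⊢
  have hm : G₀ * X * G₀⁻¹ ∈ (torG X).comap π := hg
  rw [comap_torG, Subgroup.mem_centralizer_singleton_iff] at hm
  rcases eq_or_eq_inv' ht hm (conj_trace G₀ X) with h | h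
  · exact Or.inl (congrArg π h)
  · exact Or.inr (by rw [h, map_inv])

theorem commute_of_odd {X : SL(2, F)} (ht : (X : M₂).trace ^ 2 ≠ 4) {g : L₂}
    (hodd : Odd (orderOf g)) (hg : g * π X * g⁻¹ ∈ torG X) : g * π X = π X * g := by
  rcases conj_pm ht hg with h | h
  · exact mul_inv_eq_iff_eq_mul.1 h
  · obtain ⟨k, hk⟩ := hodd
    have h2 : Commute (g ^ 2) (π X) := by
      rw [commute_iff_eq, pow_two]
      calc g * g * π X = g * (g * π X * g⁻¹) * g := by group
        _ = g * (π X)⁻¹ * g := by rw [h]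
        _ = (g * π X * g⁻¹)⁻¹ * (g * g) := by group
        _ = π X * (g * g) := by rw [h, inv_inv]
    have h3 := h2.pow_left (k + 1)
    rw [← pow_mul, show 2 * (k + 1) = orderOf g + 1 by omega, pow_succ, pow_orderOf_eq_one,
      one_mul] at h3
    exact h3.eq

theorem isSimple (h4 : 4 ≤ q) : IsSimpleGroup L₂ :=
  Linear.isSimpleGroup_PSL_fin 2 (le_refl 2) (fun _ => by rwa [Nat.card_eq_fintype_card])

theorem q_coprime_d : Nat.Coprime q d := by
  have h : Nat.Coprime q (q - 1) :=
    (Nat.coprime_self_sub_right Fintype.card_pos).2 (Nat.coprime_one_right _)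
  exact Nat.Coprime.coprime_dvd_right (Nat.gcd_dvd_right _ _) h

theorem q_dvd_card_G : q ∣ Nat.card L₂ :=
  q_coprime_d.dvd_of_dvd_mul_left (card_G (F := F) ▸ dvd_mul_of_dvd_left (dvd_mul_right _ _) _)

theorem card_fixK_dvd {H : Subgroup L₂} {x a : L₂} (ha : a⁻¹ * x * a ∈ H) :
    Nat.card (fixK H x) ∣ Nat.card H := by
  rw [← Subgroup.card_map_of_injective (f := (MulAut.conj a⁻¹).toMonoidHom) (MulEquiv.injective _)]
  apply Subgroup.card_dvd_of_le
  rintro _ ⟨g, hg, rfl⟩
  simpa using conj_mem_of_fixK ha hg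

theorem fixK_comm_of_abelian {H : Subgroup L₂} (hab : ∀ u ∈ H, ∀ v ∈ H, u * v = v * u) {x a : L₂}
    (ha : a⁻¹ * x * a ∈ H) {g : L₂} (hg : g ∈ fixK H x) : g * x = x * g := by
  have h := hab _ (conj_mem_of_fixK ha hg) _ ha
  calc g * x = a * (a⁻¹ * g * a * (a⁻¹ * x * a)) * a⁻¹ := by group
    _ = a * (a⁻¹ * x * a * (a⁻¹ * g * a)) * a⁻¹ := by rw [h]
    _ = x * g := by group

theorem not_conj_upP {X : SL(2, F)} (ht : (X : M₂).trace ^ 2 ≠ 4) (a : L₂) (b : F) :
    π X ≠ a * upP b * a⁻¹ := by
  intro h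
  apply ht
  rw [trace_sq_of_isConj (g := uu b) (h := X) (isConj_iff.2 ⟨a, h.symm⟩)]
  simp [Matrix.trace_fin_two]
  norm_num

/-- The fixed-point kernel of a semisimple element lies in its centraliser. -/
theorem fixK_le_torus (h4 : 4 ≤ q) {H : Subgroup L₂} (hHodd : Odd (Nat.card H))
    (hfull : ¬ q ∣ Nat.card H) {X : SL(2, F)} (ht : (X : M₂).trace ^ 2 ≠ 4)
    (ho : 2 < orderOf (π X)) (hX : ∃ a : L₂, a⁻¹ * π X * a ∈ H)
    (hsize : Even q ∨ 6 ≤ Nat.card (torG X)) :
    ∀ g ∈ fixK H (π X), g * π X = π X * g := by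
  classical
  obtain ⟨a, ha⟩ := hX
  set K := fixK H (π X) with hK
  have hKdvd : Nat.card K ∣ Nat.card H := card_fixK_dvd ha
  have hC := centralizer_of_mem_torG ht (self_mem_torG X) ho
  have hnormK : ∀ u ∈ torG X, ∀ g ∈ K, u * g * u⁻¹ ∈ K := fun u hu g hg =>
    conj_mem_fixK_of_comm (torG_comm ht hu (self_mem_torG X)) hg
  have hTK : torG X ≤ Subgroup.normalizer (K : Set L₂) := by
    intro u hu
    rw [Subgroup.mem_normalizer_iff]
    refine fun g => ⟨hnormK u hu g, fun hg => ?_⟩
    have := hnormK _ (inv_mem hu) _ hg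
    rwa [show u⁻¹ * (u * g * u⁻¹) * u⁻¹⁻¹ = g by group] at this
  have hne : K ⊔ torG X ≠ ⊤ := by
    intro htop
    haveI := isSimple (F := F) h4
    have hn : K.Normal := Subgroup.normalizer_eq_top_iff.1
      (eq_top_iff.2 (htop ▸ sup_le Subgroup.le_normalizer hTK))
    rcases hn.eq_bot_or_eq_top with h | h
    · have := self_mem_fixK H (π X)
      rw [← hK, h, Subgroup.mem_bot] at this
      rw [this, orderOf_one] at ho
      omega
    · rw [h, Subgroup.card_top] at hKdvd
      exact hfull (q_dvd_card_G.trans hKdvd)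
  obtain ⟨M, hM, hle⟩ := (eq_top_or_exists_le_coatom (K ⊔ torG X)).resolve_left hne
  have hKM : K ≤ M := le_sup_left.trans hle
  have hTM : torG X ≤ M := le_sup_right.trans hle
  have h3 : 3 ≤ Nat.card (torG X) :=
    le_trans ho (Nat.le_of_dvd Nat.card_pos (Subgroup.orderOf_dvd_natCard _ (self_mem_torG X)))
  intro g hg
  rcases max_torus h4 ht h3 hsize hM hTM with hMN | hMc
  · have hodd : Odd (orderOf g) :=
      hHodd.of_dvd_nat ((Subgroup.orderOf_dvd_natCard _ hg).trans hKdvd)
    exact commute_of_odd ht hodd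
      ((Subgroup.mem_normalizer_iff.1 (hMN (hKM hg)) _).1 (self_mem_torG X))
  · by_contra hne'
    apply hfull
    refine dvd_trans ?_ hKdvd
    have hqM : q ∣ Nat.card M :=
      q_coprime_d.dvd_of_dvd_mul_left (hMc ▸ dvd_mul_right _ _)
    obtain ⟨b, hb⟩ := exists_upP_mem hqM
    set M' := M.comap (MulAut.conj b).toMonoidHom with hM'
    have hM'top : M' ≠ ⊤ := by
      intro h
      apply hM.1
      rw [← Subgroup.map_comap_eq_self_of_surjective (f := (MulAut.conj b).toMonoidHom)
        (MulEquiv.surjective (MulAut.conj b)) M]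
      exact (congrArg (Subgroup.map _) h).trans
        (Subgroup.map_top_of_surjective _ (MulEquiv.surjective (MulAut.conj b)))
    have hB : ∀ m ∈ M, b⁻¹ * m * b ∈ borP F := by
      intro m hm
      refine le_borP hM'top (fun c => ?_) ?_
      · simpa [hM'] using hb c
      · show b * (b⁻¹ * m * b) * b⁻¹ ∈ M
        rw [show b * (b⁻¹ * m * b) * b⁻¹ = m by group]
        exact hm
    choose Y hY hY0 using fun u : torG X => hB u (hTM u.2)
    -- every square is a scaling
    have hinj : Function.Injective fun u : torG X => Y u 0 0 * Y u 0 0 := by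
      intro u v huv
      simp only at huv
      by_contra hne''
      have hd' := det_eq (Y u)
      rw [hY0, mul_zero, sub_zero] at hd'
      have hz : (π (Y v))⁻¹ * π (Y u) * upP 1 = upP 1 * ((π (Y v))⁻¹ * π (Y u)) := by
        have e1 := conj_upP_of_mem_borP (hY0 u) 1
        have e2 := conj_upP_of_mem_borP (hY0 v) 1
        rw [huv] at e1
        have e3 : π (Y u) * upP 1 * (π (Y u))⁻¹ = π (Y v) * upP 1 * (π (Y v))⁻¹ := e1.trans e2.symm
        calc (π (Y v))⁻¹ * π (Y u) * upP 1
            = (π (Y v))⁻¹ * (π (Y u) * upP 1 * (π (Y u))⁻¹) * π (Y u) := by group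
          _ = upP 1 * ((π (Y v))⁻¹ * π (Y u)) := by rw [e3]; group
      obtain ⟨c, hc⟩ := eq_upP_of_commute one_ne_zero hz
      rw [hY, hY] at hc
      have hc' : ((v⁻¹ * u : torG X) : L₂) = b * upP c * b⁻¹ := by
        rw [← hc]; simp only [Subgroup.coe_mul, Subgroup.coe_inv]; group
      have hc0 : c ≠ 0 := by
        intro h0
        rw [h0, upP_zero, mul_one, mul_inv_cancel] at hc'
        exact hne'' (inv_mul_eq_one.1 (Subtype.ext hc' : v⁻¹ * u = 1)).symm
      have hcm := torG_comm ht (self_mem_torG X) (v⁻¹ * u).2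
      rw [hc'] at hcm
      have hcm' : b⁻¹ * π X * b * upP c = upP c * (b⁻¹ * π X * b) := by
        calc b⁻¹ * π X * b * upP c = b⁻¹ * (π X * (b * upP c * b⁻¹)) * b := by group
          _ = b⁻¹ * (b * upP c * b⁻¹ * π X) * b := by rw [hcm]
          _ = upP c * (b⁻¹ * π X * b) := by group
      obtain ⟨e, he⟩ := eq_upP_of_commute hc0 hcm'
      exact not_conj_upP ht b e (by rw [← he]; group)
    let S : Finset F := Finset.univ.image fun u : torG X => Y u 0 0 * Y u 0 0
    let Q : Finset F := Finset.univ.image fun u : Fˣ => (u : F) * u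
    have hSQ : S ⊆ Q := by
      intro s hs
      obtain ⟨u, -, rfl⟩ := Finset.mem_image.1 hs
      have hd' := det_eq (Y u)
      rw [hY0, mul_zero, sub_zero] at hd'
      exact Finset.mem_image.2 ⟨Units.mk0 _ (left_ne_zero_of_mul_eq_one hd'), Finset.mem_univ _, rfl⟩
    have hScard : S.card = Nat.card (torG X) := by
      rw [Finset.card_image_of_injective _ hinj, Finset.card_univ, Nat.card_eq_fintype_card]
    have hQcard : Q.card * d = q - 1 := by
      have e : Q = (Finset.univ.image (powMonoidHom 2 : Fˣ →* Fˣ)).image (Units.val) := by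
        rw [Finset.image_image]
        refine Finset.image_congr fun u _ => ?_
        simp [pow_two]
      rw [e, Finset.card_image_of_injective _ Units.val_injective]
      have h1 : (Finset.univ.image (powMonoidHom 2 : Fˣ →* Fˣ)).card =
          Nat.card (powMonoidHom 2 : Fˣ →* Fˣ).range := by
        rw [← Nat.card_eq_finsetCard]
        exact Nat.card_congr (Equiv.subtypeEquivRight fun u => by simp [MonoidHom.mem_range])
      have h2 := (powMonoidHom 2 : Fˣ →* Fˣ).ker.card_mul_index
      rw [Subgroup.index_ker, IsCyclic.card_powMonoidHom_ker, Nat.card_units,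
        Nat.card_eq_fintype_card, Nat.gcd_comm] at h2
      rw [h1, mul_comm]
      exact h2
    have hSeq : S = Q := Finset.eq_of_subset_of_card_le hSQ (by
      rw [hScard]
      rcases card_torG ht with h | h
      · exact (Nat.eq_of_mul_eq_mul_right d_pos (hQcard.trans (by rw [mul_comm, h]))).le
      · by_contra hgt
        push Not at hgt
        have := Nat.mul_lt_mul_of_pos_right hgt (d_pos (F := F))
        rw [mul_comm _ d, h] at this
        omega)
    -- the commutator
    obtain ⟨G₁, hG₁, hG₁0⟩ := hB g (hKM hg)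
    obtain ⟨X₁, hX₁, hX₁0⟩ := hB _ (hTM (self_mem_torG X))
    obtain ⟨c, hc⟩ := commutator_borP hG₁0 hX₁0
    rw [hG₁, hX₁] at hc
    have hcK : b * upP c * b⁻¹ ∈ K := by
      rw [← hc]
      have : b * (b⁻¹ * g * b * (b⁻¹ * π X * b) * (b⁻¹ * g * b)⁻¹ * (b⁻¹ * π X * b)⁻¹) * b⁻¹ =
          g * (π X * g⁻¹ * (π X)⁻¹) := by group
      rw [this]
      exact mul_mem hg (hnormK _ (self_mem_torG X) _ (inv_mem hg))
    have hc0 : c ≠ 0 := by
      intro h0
      rw [h0, upP_zero] at hc
      apply hne'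
      calc g * π X = b * (b⁻¹ * g * b * (b⁻¹ * π X * b) * (b⁻¹ * g * b)⁻¹ * (b⁻¹ * π X * b)⁻¹) *
            b⁻¹ * (π X * g) := by group
        _ = π X * g := by rw [hc]; group
    have hscale : ∀ e r : F, b * upP r * b⁻¹ ∈ K → b * upP (e * e * r) * b⁻¹ ∈ K := by
      intro e r hr
      rcases eq_or_ne e 0 with rfl | he
      · rw [zero_mul, zero_mul, upP_zero, mul_one, mul_inv_cancel]; exact one_mem _
      · have : e * e ∈ S := hSeq ▸ Finset.mem_image.2 ⟨Units.mk0 e he, Finset.mem_univ _, rfl⟩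
        obtain ⟨u, -, hu⟩ := Finset.mem_image.1 this
        rw [← hu, ← conj_upP_of_mem_borP (hY0 u), hY,
          show b * (b⁻¹ * (u : L₂) * b * upP r * (b⁻¹ * (u : L₂) * b)⁻¹) * b⁻¹ =
            (u : L₂) * (b * upP r * b⁻¹) * (u : L₂)⁻¹ by group]
        exact hnormK _ u.2 _ hr
    have hall : ∀ r : F, b * upP r * b⁻¹ ∈ K := by
      intro r
      obtain ⟨e, f, hef⟩ := exists_sq_add_sq (r / c)
      have : r = e * e * c + f * f * c := by
        calc r = r / c * c := (div_mul_cancel₀ r hc0).symm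
          _ = _ := by rw [← hef]; ring
      rw [this, ← upP_add, show b * (upP (e * e * c) * upP (f * f * c)) * b⁻¹ =
        b * upP (e * e * c) * b⁻¹ * (b * upP (f * f * c) * b⁻¹) by group]
      exact mul_mem (hscale e c hcK) (hscale f c hcK)
    rw [← card_upG (F := F), ← Subgroup.card_map_of_injective
      (f := (MulAut.conj b).toMonoidHom) (MulEquiv.injective _)]
    refine Subgroup.card_dvd_of_le ?_
    rintro _ ⟨_, ⟨r, rfl⟩, rfl⟩
    exact hall r

/-- `π X` is a product of two noncommuting conjugates of itself. -/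
theorem exists_noncomm_triple {X : SL(2, F)} (ht : (X : M₂).trace ^ 2 ≠ 4)
    (ho : 2 < orderOf (π X)) (hexc : ¬ (Even q ∧ (π X) ^ 3 = 1 ∧ ¬ 3 ∣ q - 1)) :
    ∃ A B : SL(2, F), IsConj (π X) (π A) ∧ IsConj (π X) (π B) ∧ π A * π B = π X ∧
      π A * π X ≠ π X * π A := by
  classical
  have main : ∀ W : SL(2, F), π W = π X → (W : M₂).trace ^ 2 ≠ 4 → (W : M₂).trace ≠ -1 →
      ∃ A B : SL(2, F), IsConj (π X) (π A) ∧ IsConj (π X) (π B) ∧ π A * π B = π X ∧
        π A * π X ≠ π X * π A := by
    intro W hW hWt hW1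
    obtain ⟨u, v, huv⟩ := exists_product W W hWt (ns_of_trace_sq W.2 hWt) (Or.inl hWt)
    refine ⟨u * W * u⁻¹, v * W * v⁻¹, ?_, ?_, ?_, ?_⟩
    · rw [map_mul, map_mul, map_inv, hW]; exact isConj_iff.2 ⟨π u, rfl⟩
    · rw [map_mul, map_mul, map_inv, hW]; exact isConj_iff.2 ⟨π v, rfl⟩
    · rw [← map_mul, ← huv, hW]
    · intro hc
      rw [← hW] at hc ho
      have hmem : u * W * u⁻¹ ∈ (torG W).comap π := by
        rw [Subgroup.mem_comap, ← centralizer_π (trace_ne_zero_of_orderOf ho),
          Subgroup.mem_centralizer_singleton_iff]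
        exact hc
      rw [comap_torG, Subgroup.mem_centralizer_singleton_iff] at hmem
      have hBt : ((v * W * v⁻¹ : SL(2, F)) : M₂).trace = (W : M₂).trace := conj_trace v W
      rcases eq_or_eq_inv' hWt hmem (conj_trace u W) with h | h
      · have hB : v * W * v⁻¹ = 1 := by
          have h' := huv
          rw [h] at h'
          exact (mul_eq_left.1 h'.symm)
        rw [hB, Matrix.SpecialLinearGroup.coe_one, Matrix.trace_one, Fintype.card_fin] at hBt
        apply hWt
        rw [← hBt]; norm_num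
      · have hB : v * W * v⁻¹ = W * W := by
          calc v * W * v⁻¹ = (u * W * u⁻¹)⁻¹ * (u * W * u⁻¹ * (v * W * v⁻¹)) := by group
            _ = W * W := by rw [← huv, h, inv_inv]
        have hWW : (W : M₂) * (W : M₂) = (W : M₂).trace • (W : M₂) - 1 := by
          have e : (W : M₂) * ((W⁻¹ : SL(2, F)) : M₂) = 1 := by
            rw [← Matrix.SpecialLinearGroup.coe_mul, mul_inv_cancel, Matrix.SpecialLinearGroup.coe_one]
          rw [coe_inv_eq, Matrix.mul_sub, Matrix.mul_smul, Matrix.mul_one, sub_eq_iff_eq_add] at e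
          rw [e, add_sub_cancel_left]
        rw [hB, Matrix.SpecialLinearGroup.coe_mul, hWW, Matrix.trace_sub, Matrix.trace_smul,
          Matrix.trace_one, Fintype.card_fin, smul_eq_mul] at hBt
        push_cast at hBt
        have : ((W : M₂).trace - 2) * ((W : M₂).trace + 1) = 0 := by linear_combination hBt
        rcases mul_eq_zero.1 this with h1 | h1
        · exact hWt (by rw [sub_eq_zero.1 h1]; norm_num)
        · exact hW1 (eq_neg_of_add_eq_zero_left h1)
  by_cases h1 : (X : M₂).trace = -1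
  swap
  · exact main X rfl ht h1
  by_cases h2 : (2 : F) = 0
  · have he : Even q := even_iff_two_dvd.2 (two_eq_zero_iff.1 h2)
    have hneg : ∀ a : F, -a = a := fun a => by linear_combination (-a) * h2
    have hX3 : (π X) ^ 3 = 1 := by
      have e : (X : M₂) * (X : M₂) * (X : M₂) = 1 := by
        have e : (X : M₂) * ((X⁻¹ : SL(2, F)) : M₂) = 1 := by
          rw [← Matrix.SpecialLinearGroup.coe_mul, mul_inv_cancel, Matrix.SpecialLinearGroup.coe_one]
        rw [coe_inv_eq, h1, neg_one_smul, Matrix.mul_sub, Matrix.mul_neg, Matrix.mul_one,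
          sub_eq_iff_eq_add] at e
        have hXX : (X : M₂) * (X : M₂) = -(X : M₂) - 1 := by rw [e, add_sub_cancel_left]
        rw [hXX, Matrix.sub_mul, Matrix.neg_mul, Matrix.one_mul, hXX]
        abel
      rw [← map_pow, show X ^ 3 = 1 from Subtype.ext (by
        rw [pow_succ, pow_two, Matrix.SpecialLinearGroup.coe_mul, Matrix.SpecialLinearGroup.coe_mul]
        exact e), map_one]
    have h3 : 3 ∣ q - 1 := by
      by_contra h3
      exact hexc ⟨he, hX3, h3⟩
    haveI : Fact (Nat.Prime 3) := ⟨Nat.prime_three⟩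
    obtain ⟨w, hw⟩ := exists_prime_orderOf_dvd_card' (G := Fˣ) 3 (by
      rw [Nat.card_units, Nat.card_eq_fintype_card]; exact h3)
    have hw1 : (w : F) ≠ 1 := fun h => by
      rw [Units.val_eq_one.1 h, orderOf_one] at hw
      omega
    have hw3 : (w : F) ^ 3 = 1 := by
      rw [← Units.val_pow_eq_pow_val, ← hw, pow_orderOf_eq_one, Units.val_one]
    have hquad : (w : F) ^ 2 + w + 1 = 0 := by
      have : ((w : F) - 1) * ((w : F) ^ 2 + w + 1) = 0 := by linear_combination hw3
      exact (mul_eq_zero.1 this).resolve_left (sub_ne_zero.2 hw1)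
    let D : SL(2, F) := mk !![(w : F), 0; 0, (w : F) ^ 2] (by
      rw [Matrix.det_fin_two_of]; linear_combination hw3)
    let A : SL(2, F) := mk !![(w : F) ^ 2, 1; 0, (w : F)] (by
      rw [Matrix.det_fin_two_of]; linear_combination hw3)
    let B : SL(2, F) := mk !![(w : F) ^ 2, -(w : F) ^ 2; 0, (w : F)] (by
      rw [Matrix.det_fin_two_of]; linear_combination hw3)
    have hAB : A * B = D := by
      apply Subtype.ext
      show (!![(w : F) ^ 2, 1; 0, (w : F)] * !![(w : F) ^ 2, -(w : F) ^ 2; 0, (w : F)] : M₂) = _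
      ext i j
      fin_cases i <;> fin_cases j <;> simp [D, mk, Matrix.mul_apply, Fin.sum_univ_two]
      · linear_combination (w : F) * hw3
      · linear_combination -(w : F) * hw3
      · ring
    obtain ⟨g, hg⟩ := exists_conj X D (by
      rw [h1]; show -1 = (!![(w : F), 0; 0, (w : F) ^ 2] : M₂).trace
      rw [Matrix.trace_fin_two_of]; linear_combination -hquad) ht
    obtain ⟨gA, hgA⟩ := exists_conj X (g⁻¹ * A * g) (by
      rw [show g⁻¹ * A * g = g⁻¹ * A * g⁻¹⁻¹ by rw [inv_inv], conj_trace, h1]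
      show -1 = (!![(w : F) ^ 2, 1; 0, (w : F)] : M₂).trace
      rw [Matrix.trace_fin_two_of]; linear_combination -hquad) ht
    obtain ⟨gB, hgB⟩ := exists_conj X (g⁻¹ * B * g) (by
      rw [show g⁻¹ * B * g = g⁻¹ * B * g⁻¹⁻¹ by rw [inv_inv], conj_trace, h1]
      show -1 = (!![(w : F) ^ 2, -(w : F) ^ 2; 0, (w : F)] : M₂).trace
      rw [Matrix.trace_fin_two_of]; linear_combination -hquad) ht
    refine ⟨g⁻¹ * A * g, g⁻¹ * B * g, ?_, ?_, ?_, ?_⟩
    · rw [← hgA, map_mul, map_mul, map_inv]; exact isConj_iff.2 ⟨π gA, rfl⟩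
    · rw [← hgB, map_mul, map_mul, map_inv]; exact isConj_iff.2 ⟨π gB, rfl⟩
    · rw [← map_mul, show g⁻¹ * A * g * (g⁻¹ * B * g) = g⁻¹ * (A * B) * g by group, hAB, ← hg]
      congr 1; group
    · intro hc
      rw [← map_mul, ← map_mul, π_eq_iff] at hc
      obtain ⟨c, hc2, he'⟩ := hc
      rw [eq_one_of_sq h2 hc2, one_smul] at he'
      have e : X * (g⁻¹ * A * g) = g⁻¹ * A * g * X := Subtype.ext he'
      have e1 : D * A = A * D := by
        rw [← hg]
        calc g * X * g⁻¹ * A = g * (X * (g⁻¹ * A * g)) * g⁻¹ := by group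
          _ = A * (g * X * g⁻¹) := by rw [e]; group
      have e0 : !![(w : F), 0; 0, (w : F) ^ 2] * !![(w : F) ^ 2, 1; 0, (w : F)] =
          (!![(w : F) ^ 2, 1; 0, (w : F)] * !![(w : F), 0; 0, (w : F) ^ 2] : M₂) :=
        congrArg Subtype.val e1
      have e2 := congrFun (congrFun e0 0) 1
      simp [Matrix.mul_apply, Fin.sum_univ_two] at e2
      apply hw1
      have : (w : F) * ((w : F) - 1) = 0 := by
        first
          | linear_combination -e2
          | linear_combination e2
      exact sub_eq_zero.1 ((mul_eq_zero.1 this).resolve_left w.ne_zero)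
  · let W : SL(2, F) := mk (-(X : M₂)) (by rw [Matrix.det_neg, Fintype.card_fin]; simp)
    have hWtr : (W : M₂).trace = 1 := by
      show (-(X : M₂)).trace = 1
      rw [Matrix.trace_neg, h1, neg_neg]
    refine main W (π_eq_iff.2 ⟨-1, by ring, ?_⟩) (by rw [hWtr, one_pow]; intro h; apply ht; rw [h1, ← h]; ring) ?_
    · show (X : M₂) = (-1 : F) • (-(X : M₂))
      rw [neg_one_smul, neg_neg]
    · rw [hWtr]; intro h; exact h2 (by linear_combination h)

end Cfsg.Agent.ClassicalMax.Binary
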