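import Cfsg.Agent.ClassicalMax.BinaryOdd

/-!
# Binary coset actions of `PSL(2, F)`: odd order stabilisers
-/

set_option autoImplicit false
set_option linter.unusedSectionVars false

namespace Cfsg.Agent.ClassicalMax.Binary

open Matrix Cfsg.Agent.Spec.Two Cfsg.Agent.RootSub.SL2Gen
open scoped MatrixGroups

variable {F : Type*} [Field F] [Fintype F]

local notation "L₂" => Matrix.ProjectiveSpecialLinearGroup (Fin 2) F
local notation "M₂" => Matrix (Fin 2) (Fin 2) F
local notation "q" => Fintype.card F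
local notation "d" => Nat.gcd 2 (Fintype.card F - 1)

theorem odd_card_not_full {H : Subgroup L₂} (hodd : Odd (Nat.card H)) {x : L₂} (hx : x ∈ H)
    (hx1 : x ≠ 1) : 2 < orderOf x := by
  have h1 : orderOf x ≠ 1 := fun h => hx1 (orderOf_eq_one_iff.1 h)
  have h2 := orderOf_pos x
  have h3 := hodd.of_dvd_nat (Subgroup.orderOf_dvd_natCard _ hx)
  rcases h3 with ⟨k, hk⟩
  omega

/-- Small odd orders give abelian subgroups. -/
theorem small_abelian (h4 : 4 ≤ q) (hq : q = 7 ∨ q = 9 ∨ q = 11) {H : Subgroup L₂}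
    (hodd : Odd (Nat.card H)) (hfull : ¬ q ∣ Nat.card H) :
    ∀ u ∈ H, ∀ v ∈ H, u * v = v * u := by
  classical
  have hG := card_G (F := F)
  have hdvd := Subgroup.card_subgroup_dvd_card H
  have hcases : Nat.card H = 1 ∨ Nat.card H = 3 ∨ Nat.card H = 5 ∨ Nat.card H = 15 := by
    have hpos := Nat.card_pos (α := H)
    obtain ⟨n, hn⟩ : ∃ n, Nat.card H = n := ⟨_, rfl⟩
    rw [hn] at hdvd hodd hfull hpos ⊢
    obtain ⟨N, hN⟩ : ∃ N, Nat.card L₂ = N := ⟨_, rfl⟩
    rw [hN] at hdvd hG
    rcases hq with e | e | e <;> rw [e] at hG hfull <;> norm_num at hG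
    · obtain rfl : N = 168 := by omega
      have hle := Nat.le_of_dvd (by norm_num) hdvd
      have := Nat.mem_divisors.2 ⟨hdvd, by norm_num⟩
      rw [show Nat.divisors 168 = {1,2,3,4,6,7,8,12,14,21,24,28,42,56,84,168} by decide] at this
      simp only [Finset.mem_insert, Finset.mem_singleton] at this
      rcases hodd with ⟨k, hk⟩
      rcases this with h | h | h | h | h | h | h | h | h | h | h | h | h | h | h | h <;>
        subst h <;> omega
    · obtain rfl : N = 360 := by omega
      have := Nat.mem_divisors.2 ⟨hdvd, by norm_num⟩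
      rw [show Nat.divisors 360 = {1,2,3,4,5,6,8,9,10,12,15,18,20,24,30,36,40,45,60,72,90,120,180,360}
        by decide] at this
      simp only [Finset.mem_insert, Finset.mem_singleton] at this
      rcases hodd with ⟨k, hk⟩
      rcases this with h | h | h | h | h | h | h | h | h | h | h | h | h | h | h | h | h | h | h | h |
        h | h | h | h <;> subst h <;> omega
    · obtain rfl : N = 660 := by omega
      have := Nat.mem_divisors.2 ⟨hdvd, by norm_num⟩
      rw [show Nat.divisors 660 = {1,2,3,4,5,6,10,11,12,15,20,22,30,33,44,55,60,66,110,132,165,220,330,660}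
        by decide] at this
      simp only [Finset.mem_insert, Finset.mem_singleton] at this
      rcases hodd with ⟨k, hk⟩
      rcases this with h | h | h | h | h | h | h | h | h | h | h | h | h | h | h | h | h | h | h | h |
        h | h | h | h <;> subst h <;> omega
  suffices IsCyclic H by
    intro u hu v hv
    exact congrArg Subtype.val ((IsCyclic.commutative (α := H)).is_comm.comm ⟨u, hu⟩ ⟨v, hv⟩)
  rcases hcases with h | h | h | h
  · haveI : Subsingleton H := (Nat.card_eq_one_iff_unique.1 h).1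
    infer_instance
  · haveI := Fact.mk Nat.prime_three
    exact isCyclic_of_prime_card h
  · haveI : Fact (Nat.Prime 5) := ⟨by norm_num⟩
    exact isCyclic_of_prime_card h
  · exfalso
    haveI : Fact (Nat.Prime 5) := ⟨by norm_num⟩
    obtain ⟨⟨x, hxH⟩, hx⟩ := exists_prime_orderOf_dvd_card' (G := H) 5 (h ▸ by norm_num)
    rw [Subgroup.orderOf_mk] at hx
    obtain ⟨X, rfl⟩ := π_surjective x
    have hx1 : π X ≠ 1 := fun h => by rw [h, orderOf_one] at hx; omega
    have ht := trace_sq_ne_four hx1 (by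
      rw [hx]
      rcases hq with e | e | e <;> rw [e] <;> norm_num)
    have hz : Nat.card (Subgroup.zpowers (⟨π X, hxH⟩ : H)) = 5 := by
      rw [Nat.card_zpowers, Subgroup.orderOf_mk, hx]
    obtain ⟨P, hP⟩ := (IsPGroup.of_card (p := 5) (n := 1) (hz.trans (pow_one 5).symm)).exists_le_sylow
    have hPc : Nat.card P = 5 := by
      rw [Sylow.card_eq_multiplicity, h, show (15 : ℕ) = 5 * 3 from rfl,
        Nat.factorization_mul (by norm_num) (by norm_num), Nat.Prime.factorization (by norm_num),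
        Nat.Prime.factorization (by norm_num)]
      simp
    have hidx : (P : Subgroup H).index = 3 := by
      have := (P : Subgroup H).card_mul_index
      rw [hPc, h] at this
      omega
    have hn1 : Nat.card (Sylow 5 H) = 1 := by
      have h1 := Sylow.card_dvd_index P
      rw [hidx] at h1
      have h2 := card_sylow_modEq_one 5 H
      have h3 := (Nat.dvd_prime Nat.prime_three).1 h1
      rcases h3 with h3 | h3
      · exact h3
      · rw [h3] at h2; exact absurd h2 (by decide)
    haveI : Subsingleton (Sylow 5 H) := (Nat.card_eq_one_iff_unique.1 hn1).1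
    haveI hPn : (P : Subgroup H).Normal := Sylow.normal_of_subsingleton P
    have hPeq : Subgroup.zpowers (⟨π X, hxH⟩ : H) = P :=
      Subgroup.eq_of_le_of_card_ge hP (by rw [hPc, hz])
    have hle : H ≤ torG X := by
      intro g hg
      rw [← centralizer_π (trace_ne_zero_of_orderOf (by omega)), Subgroup.mem_centralizer_singleton_iff]
      refine commute_of_odd ht (hodd.of_dvd_nat (Subgroup.orderOf_dvd_natCard _ hg)) ?_
      have hmem : (⟨g, hg⟩ : H) * ⟨π X, hxH⟩ * (⟨g, hg⟩ : H)⁻¹ ∈
          Subgroup.zpowers (⟨π X, hxH⟩ : H) := by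
        rw [hPeq]; exact hPn.conj_mem _ (hPeq ▸ Subgroup.mem_zpowers _) _
      obtain ⟨k, hk⟩ := Subgroup.mem_zpowers_iff.1 hmem
      have := congrArg Subtype.val hk
      simp only [Subgroup.coe_zpow, Subgroup.coe_mul, Subgroup.coe_inv] at this
      rw [← this]
      exact zpow_mem (self_mem_torG X) k
    have h15 := Subgroup.card_dvd_of_le hle
    rw [h] at h15
    have h16 := card_torG ht
    have := Nat.le_of_dvd Nat.card_pos h15
    have hdp := d_pos (F := F)
    have : Nat.card (torG X) ≤ d * Nat.card (torG X) := Nat.le_mul_of_pos_left _ hdp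
    omega

/-- Odd order stabilisers with a semisimple element, outside the exception. -/
theorem semisimple_contra (h4 : 4 ≤ q) (h5 : q ≠ 5) {H : Subgroup L₂} (hb : IsBin H)
    (hodd : Odd (Nat.card H)) (hfull : ¬ q ∣ Nat.card H) {X : SL(2, F)} (hX : π X ∈ H)
    (hX1 : π X ≠ 1) (hco : (orderOf (π X)).Coprime q)
    (hexc : ¬ (Even q ∧ (π X) ^ 3 = 1 ∧ ¬ 3 ∣ q - 1)) : False := by
  have ht := trace_sq_ne_four hX1 hco
  have ho := odd_card_not_full hodd hX hX1
  have key : ∀ Z : SL(2, F), IsConj (π X) (π Z) → ∀ g ∈ fixK H (π Z), g * π Z = π Z * g := by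
    intro Z hZ
    obtain ⟨a, ha⟩ := isConj_iff.1 hZ
    have haH : a⁻¹ * π Z * a ∈ H := by
      rw [← ha, show a⁻¹ * (a * π X * a⁻¹) * a = π X by group]; exact hX
    have hoZ : 2 < orderOf (π Z) := by
      rw [← ha, ← MulAut.conj_apply, MulEquiv.orderOf_eq]; exact ho
    have htZ := trace_sq_ne_four (X := Z) (fun h => by rw [h, orderOf_one] at hoZ; omega)
      (by rw [← ha, ← MulAut.conj_apply, MulEquiv.orderOf_eq]; exact hco)
    by_cases hs : Even q ∨ 6 ≤ Nat.card (torG Z)
    · exact fixK_le_torus h4 hodd hfull htZ hoZ ⟨a, haH⟩ hs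
    · intro g hg
      refine fixK_comm_of_abelian (small_abelian h4 ?_ hodd hfull) haH hg
      push Not at hs
      have hqo : Odd q := Nat.not_even_iff_odd.1 hs.1
      have hd2 : d = 2 := Linear.gcd_two_of_odd hqo
      have hc := card_torG htZ
      rw [hd2] at hc
      rcases hqo with ⟨k, hk⟩
      omega
  obtain ⟨A, B, hA, hB, hAB, hne⟩ := exists_noncomm_triple ht ho hexc
  have hw : (π A)⁻¹ * π X = π B := by rw [← hAB, inv_mul_cancel_left]
  refine triple_contra hb (x := π X) (y := π A) (key X (IsConj.refl _)) (key A hA) ?_ ?_ hne.symm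
  · rw [hw]; exact key B hB
  · intro g hg1 hgx hgy
    obtain ⟨a, ha⟩ := isConj_iff.1 hA
    have hoA : 2 < orderOf (π A) := by
      rw [← ha, ← MulAut.conj_apply, MulEquiv.orderOf_eq]; exact ho
    obtain ⟨W, rfl⟩ := π_surjective g
    have h : ∀ Z : SL(2, F), 2 < orderOf (π Z) → π W * π Z = π Z * π W → Z * W = W * Z := by
      intro Z hZ hc
      have hm : W ∈ (torG Z).comap π := by
        rw [Subgroup.mem_comap, ← centralizer_π (trace_ne_zero_of_orderOf hZ),
          Subgroup.mem_centralizer_singleton_iff]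
        exact hc
      rw [comap_torG, Subgroup.mem_centralizer_singleton_iff] at hm
      exact hm.symm
    have hns : ¬ CharTwo.SLScal W := by
      rintro ⟨h1, h2, h3⟩
      refine ns_of_π_ne_one hg1 (W 0 0) ?_
      ext i j
      fin_cases i <;> fin_cases j <;> simp [h1, h2, ← h3]
    rw [← map_mul, ← map_mul, CharTwo.sl_commute_of_commute hns (h X ho hgx) (h A hoA hgy)]

theorem vv_eq_conj {b : F} (hb : b ≠ 0) :
    π (vv (-(2 / b))) * upP (-b) * (π (vv (-(2 / b))))⁻¹ =
      (loP (4 / b))⁻¹ * upP b := by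
  rw [upP, upP, loP, ← map_inv, ← map_inv, ← map_mul, ← map_mul, ← map_mul, vv_inv, vv_inv,
    π_eq_iff]
  refine ⟨-1, by ring, ?_⟩
  simp only [Matrix.SpecialLinearGroup.coe_mul, RootSub.SL2Gen.coe_uu, RootSub.SL2Gen.coe_vv]
  ext i j
  fin_cases i <;> fin_cases j <;> simp [Matrix.mul_apply, Fin.sum_univ_two] <;> field_simp <;>
    (try ring)

/-- Stabilisers that are `p`-groups in odd characteristic. -/
theorem pgroup_contra (hq : Odd q) {H : Subgroup L₂} (hb : IsBin H)
    (hab : ∀ u ∈ H, ∀ v ∈ H, u * v = v * u) {b : F} (hbne : b ≠ 0) (hbH : upP b ∈ H) : False := by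
  have h2 : (2 : F) ≠ 0 := fun h => Nat.not_even_iff_odd.2 hq (even_iff_two_dvd.2 (two_eq_zero_iff.1 h))
  have h4 : (4 : F) ≠ 0 := by rw [show (4 : F) = 2 * 2 by norm_num]; exact mul_ne_zero h2 h2
  have hbH' : upP (-b) ∈ H := upP_inv b ▸ inv_mem hbH
  have hconj : ∀ a : L₂, ∀ z ∈ H, ∀ g ∈ fixK H (a * z * a⁻¹), g * (a * z * a⁻¹) = a * z * a⁻¹ * g :=
    fun a z hz g hg => fixK_comm_of_abelian hab (a := a) (by
      rw [show a⁻¹ * (a * z * a⁻¹) * a = z by group]; exact hz) hg
  -- `loP (4 / b)` is conjugate to `upP (-b)`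
  let J : SL(2, F) := mk !![0, 1; -1, 0] (by rw [Matrix.det_fin_two_of]; ring)
  let s : Fˣ := Units.mk0 (2 / b) (div_ne_zero h2 hbne)
  have hlo : π J * torP s * upP (-b) * (π J * torP s)⁻¹ = loP (4 / b) := by
    rw [show π J * torP s * upP (-b) * (π J * torP s)⁻¹ =
      π J * (torP s * upP (-b) * (torP s)⁻¹) * (π J)⁻¹ by group, torP_conj]
    rw [upP, loP, ← map_inv, ← map_mul, ← map_mul]
    congr 1
    apply Subtype.ext
    rw [conj_uu, RootSub.SL2Gen.coe_vv]
    ext i j
    fin_cases i <;> fin_cases j <;> simp [J, s, mk] <;> field_simp <;> (try ring)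
  refine triple_contra hb (x := upP b) (y := loP (4 / b)) ?_ ?_ ?_ ?_ ?_
  · intro g hg
    have := hconj 1 _ hbH g (by simpa using hg)
    simpa using this
  · rw [← hlo]; exact hconj _ _ hbH'
  · rw [← vv_eq_conj hbne]; exact hconj _ _ hbH'
  · intro g hg hgx hgy
    obtain ⟨c, rfl⟩ := eq_upP_of_commute hbne hgx
    exfalso
    have hc : c ≠ 0 := fun h => hg (by rw [h, upP_zero])
    obtain ⟨e, he⟩ := eq_upP_of_commute hc hgy.symm
    obtain ⟨k, hk, he'⟩ := π_eq_iff.1 he
    have := congrFun (congrFun he' 1) 0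
    simp at this
    rcases this with h | h | h
    · simp [h] at hk
    · exact h4 h
    · exact hbne h
  · intro h
    obtain ⟨e, he⟩ := eq_upP_of_commute hbne h.symm
    obtain ⟨k, hk, he'⟩ := π_eq_iff.1 he
    have := congrFun (congrFun he' 1) 0
    simp at this
    rcases this with h | h | h
    · simp [h] at hk
    · exact h4 h
    · exact hbne h

/-- The classification for stabilisers of odd order without a full Sylow subgroup. -/
theorem odd_not_full (h4 : 4 ≤ q) (h5 : q ≠ 5) {H : Subgroup L₂} (hb : IsBin H)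
    (hodd : Odd (Nat.card H)) (hfull : ¬ q ∣ Nat.card H) (hne : H ≠ ⊥) :
    Even q ∧ ¬ 3 ∣ q - 1 ∧ Nat.card H = 3 := by
  classical
  obtain ⟨p, hp⟩ := CharP.exists F
  obtain ⟨f, hpp, hq⟩ := FiniteField.card F p
  haveI := Fact.mk hpp
  by_cases hsemi : ∃ x ∈ H, x ≠ 1 ∧ (orderOf x).Coprime q
  · obtain ⟨x, hx, hx1, hco⟩ := hsemi
    obtain ⟨X, rfl⟩ := π_surjective x
    obtain ⟨he, hx3, h3⟩ : Even q ∧ (π X) ^ 3 = 1 ∧ ¬ 3 ∣ q - 1 := by
      by_contra hexc
      exact semisimple_contra h4 h5 hb hodd hfull hx hx1 hco hexc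
    refine ⟨he, h3, ?_⟩
    have hcop : ∀ y ∈ H, (orderOf y).Coprime q := fun y hy => by
      have hp2 : p = 2 := by
        have := (Nat.even_pow.1 (hq ▸ he)).1
        exact (hpp.eq_two_or_odd').resolve_right (fun h => Nat.not_even_iff_odd.2 h this)
      rw [hq, hp2]
      exact (Nat.Coprime.pow_right _ ((hodd.of_dvd_nat
        (Subgroup.orderOf_dvd_natCard _ hy)).coprime_two_right))
    have hexp : ∀ y ∈ H, y ^ 3 = 1 := by
      intro y hy
      rcases eq_or_ne y 1 with rfl | hy1
      · exact one_pow 3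
      obtain ⟨Y, rfl⟩ := π_surjective y
      by_contra hy3
      exact semisimple_contra h4 h5 hb hodd hfull hy hy1 (hcop _ hy) (fun h => hy3 h.2.1)
    haveI := Fact.mk Nat.prime_three
    have h3g : IsPGroup 3 H := fun y => ⟨1, Subtype.ext (by simpa using hexp y y.2)⟩
    haveI : Nontrivial H := (Subgroup.nontrivial_iff_ne_bot H).2 hne
    haveI := h3g.center_nontrivial
    obtain ⟨⟨⟨z, hz⟩, hzc⟩, hz1⟩ := exists_ne (1 : Subgroup.center H)
    have hz1' : z ≠ 1 := fun h => hz1 (Subtype.ext (Subtype.ext h))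
    obtain ⟨Z, rfl⟩ := π_surjective z
    have htZ := trace_sq_ne_four hz1' (hcop _ hz)
    have hle : H ≤ torG Z := fun g hg => by
      rw [← centralizer_π (trace_ne_zero_of_orderOf (odd_card_not_full hodd hz hz1')),
        Subgroup.mem_centralizer_singleton_iff]
      exact congrArg Subtype.val (Subgroup.mem_center_iff.1 hzc ⟨g, hg⟩)
    haveI := isCyclic_torG htZ
    haveI : IsCyclic H := isCyclic_of_injective (Subgroup.inclusion hle) (Subgroup.inclusion_injective hle)
    obtain ⟨g, hg⟩ := IsCyclic.exists_ofOrder_eq_natCard (α := H)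
    have hd3 : Nat.card H ∣ 3 := hg ▸ orderOf_dvd_of_pow_eq_one (Subtype.ext (by simpa using hexp g g.2))
    rcases (Nat.dvd_prime Nat.prime_three).1 hd3 with h | h
    · exact absurd (Subgroup.card_eq_one.1 h) hne
    · exact h
  · exfalso
    push Not at hsemi
    have hqodd : Odd q := by
      rcases Nat.even_or_odd q with he | ho
      · exfalso
        obtain ⟨x, hx, hx1⟩ := H.ne_bot_iff_exists_ne_one.1 hne |> fun ⟨x, hx⟩ =>
          (⟨x, x.2, fun h => hx (Subtype.ext h)⟩ : ∃ y ∈ H, y ≠ 1)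
        refine hsemi x hx hx1 ?_
        have hp2 : p = 2 :=
          (hpp.eq_two_or_odd').resolve_right (fun h => Nat.not_even_iff_odd.2 h
            (Nat.even_pow.1 (hq ▸ he)).1)
        rw [hq, hp2]
        exact (Nat.Coprime.pow_right _ ((hodd.of_dvd_nat
          (Subgroup.orderOf_dvd_natCard _ hx)).coprime_two_right))
      · exact ho
    have hpg : IsPGroup p H := by
      intro y
      obtain ⟨k, m, hm, hk⟩ := Nat.exists_eq_pow_mul_and_not_dvd (orderOf_pos y).ne' p hpp.ne_one
      refine ⟨k, ?_⟩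
      by_contra hne1
      refine hsemi ((y ^ p ^ k : H) : L₂) (y ^ p ^ k).2 (fun h => hne1 (Subtype.ext h)) ?_
      rw [Subgroup.orderOf_coe, hq]
      refine Nat.Coprime.pow_right _ ((Nat.Coprime.symm ((hpp.coprime_iff_not_dvd).2 ?_)))
      intro hd
      exact hm (hd.trans (orderOf_dvd_of_pow_eq_one (by rw [← pow_mul, ← hk, pow_orderOf_eq_one])))
    obtain ⟨Q, hQ⟩ := hpg.exists_le_sylow
    obtain ⟨P, hP⟩ := (IsPGroup.of_card ((card_upG (F := F)).trans hq)).exists_le_sylow
    have hPeq : (P : Subgroup L₂) = upG F := (Subgroup.eq_of_le_of_card_ge hP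
      (card_upG (F := F) ▸ Nat.le_of_dvd Fintype.card_pos (card_dvd_of_isPGroup hq f.pos P.isPGroup'))).symm
    obtain ⟨a, ha⟩ := MulAction.exists_smul_eq L₂ Q P
    set H' := H.map (MulAut.conj a).toMonoidHom
    have hH' : H' ≤ upG F := by
      rintro _ ⟨h, hh, rfl⟩
      rw [← hPeq, ← ha, Sylow.coe_subgroup_smul]
      exact Subgroup.smul_mem_pointwise_smul h (MulAut.conj a) (Q : Subgroup L₂) (hQ hh)
    obtain ⟨⟨x, hx⟩, hx1⟩ := H.ne_bot_iff_exists_ne_one.1 hne
    obtain ⟨b, hb'⟩ := hH' (Subgroup.mem_map_of_mem _ hx)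
    refine pgroup_contra hqodd (isBin_conj hb a) ?_ (b := b) ?_ (hb' ▸ Subgroup.mem_map_of_mem _ hx)
    · intro u hu v hv
      obtain ⟨r, rfl⟩ := hH' hu
      obtain ⟨s, rfl⟩ := hH' hv
      rw [upP_add, upP_add, add_comm]
    · intro h0
      apply hx1
      apply Subtype.ext
      have : a * x * a⁻¹ = 1 := by
        rw [h0, upP_zero] at hb'
        exact hb'.symm
      calc x = a⁻¹ * (a * x * a⁻¹) * a := by group
        _ = 1 := by rw [this]; group

end Cfsg.Agent.ClassicalMax.Binary
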