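import Cfsg.Agent.ClassicalMax.BinaryInvol
import Cfsg.Agent.S0265

/-!
# Binary coset actions of `PSL(2, 7)` and `PSL(2, 9)`: stabilisers of even order
-/

set_option autoImplicit false
set_option linter.unusedSectionVars false

namespace Cfsg.Agent.ClassicalMax.Binary

open Matrix Cfsg.Agent.Spec.Two Cfsg.Agent.RootSub.SL2Gen
open scoped MatrixGroups

variable {F : Type*} [Field F] [Fintype F]

local notation "L₂" => Matrix.ProjectiveSpecialLinearGroup (Fin 2) F
local notation "M₂" => Matrix (Fin 2) (Fin 2) F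
local notation "q" => Fintype.card F
local notation "d" => Nat.gcd 2 (Fintype.card F - 1)

theorem card_centralizer_invol (ho : Odd q) {X : SL(2, F)} (hx : orderOf (π X) = 2) :
    Nat.card (Subgroup.centralizer ({π X} : Set L₂)) = 2 * Nat.card (torG X) := by
  classical
  obtain ⟨hX0, ht4, -, -⟩ := trace_invol ho hx
  have h2 : (2 : F) ≠ 0 := fun h => Nat.not_even_iff_odd.2 ho (even_iff_two_dvd.2 (two_eq_zero_iff.1 h))
  have hd2 : d = 2 := Linear.gcd_two_of_odd ho
  have hS : 2 * Nat.card (torG X) = Nat.card (Subgroup.centralizer ({X} : Set SL(2, F))) := by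
    have h1 := (Subgroup.centralizer ({X} : Set SL(2, F))).card_mul_index
    have h2' := (torG X).card_mul_index
    rw [← comap_torG X, Subgroup.index_comap_of_surjective _ π_surjective, comap_torG X,
      card_SL_eq, ← h2', ← mul_assoc, hd2] at h1
    exact (Nat.eq_of_mul_eq_mul_right (Nat.pos_of_ne_zero Subgroup.index_ne_zero_of_finite) h1).symm
  have h := index_mul X (ns_of_trace_sq X.2 ht4)
  rw [if_neg (by push Not; exact ⟨hX0, h2⟩), ← card_centralizer_eq X (ns_of_trace_sq X.2 ht4), ← hS,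
    ← card_G, hd2, ← Subgroup.card_mul_index (Subgroup.centralizer ({π X} : Set L₂))] at h
  have hi := Nat.pos_of_ne_zero (Subgroup.index_ne_zero_of_finite
    (H := Subgroup.centralizer ({π X} : Set L₂)))
  refine Nat.eq_of_mul_eq_mul_right (Nat.mul_pos two_pos hi) ?_
  calc Nat.card (Subgroup.centralizer ({π X} : Set L₂)) *
        (2 * (Subgroup.centralizer ({π X} : Set L₂)).index)
      = 2 * (Nat.card (Subgroup.centralizer ({π X} : Set L₂)) *
          (Subgroup.centralizer ({π X} : Set L₂)).index) := by ring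
    _ = _ := h.symm
    _ = _ := by ring

theorem small_torus (ho : Odd q) (hq : q = 7 ∨ q = 9) {X : SL(2, F)} (hx : orderOf (π X) = 2) :
    Nat.card (torG X) = 4 := by
  obtain ⟨-, ht4, -, -⟩ := trace_invol ho hx
  have h2 : 2 ∣ Nat.card (torG X) := by
    have := Subgroup.orderOf_dvd_natCard _ (self_mem_torG X)
    rwa [hx] at this
  have := card_torG ht4
  rw [show d = 2 from Linear.gcd_two_of_odd ho] at this
  rcases h2 with ⟨k, hk⟩
  omega

/-- Maximal subgroups of `PSL(2, 7)` and `PSL(2, 9)` of order divisible by `8`. -/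
theorem small_max (ho : Odd q) (hq : q = 7 ∨ q = 9) {M : Subgroup L₂} (hM : IsCoatom M)
    (h8 : 8 ∣ Nat.card M) : Nat.card M ≤ 24 := by
  classical
  obtain ⟨p, hp⟩ := CharP.exists F
  obtain ⟨f, hpp, hf⟩ := FiniteField.card F p
  haveI := Fact.mk hpp
  rcases S5892.result p ho (by omega) M hM with h | ⟨h13, -⟩ | ⟨h7, h9, -⟩ |
    ⟨F₀, iF, iFF, hc, ⟨e⟩⟩ | ⟨F₀, iF, iFF, r, hr, hrodd, hc, -⟩ | ⟨-, -, ⟨e⟩⟩ | ⟨-, -, -, ⟨e⟩⟩ |
    ⟨-, -, ⟨e⟩⟩
  · exfalso
    rcases h8 with ⟨k, hk⟩
    rcases hq with e | e <;> rw [e] at h <;> omega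
  · omega
  · omega
  · rw [Nat.card_congr e.toEquiv, S0265.result, Linear.card_SL_two]
    have h0 := Fintype.one_lt_card (α := F₀)
    have h3 : Fintype.card F₀ = 3 := by
      rw [pow_two] at hc
      have h5 : Fintype.card F₀ < 4 := by
        by_contra hcon
        have := Nat.mul_le_mul (not_lt.1 hcon) (not_lt.1 hcon)
        omega
      generalize Fintype.card F₀ = n at h0 h5 hc
      interval_cases n <;> omega
    simp [h3]
  · exfalso
    have h0 := Fintype.one_lt_card (α := F₀)
    have h3r : 3 ≤ r := by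
      rcases hrodd with ⟨j, hj⟩
      have := hr.two_le
      omega
    rcases Nat.lt_or_ge (Fintype.card F₀) 3 with hlt | hge
    · have h2 : Fintype.card F₀ = 2 := by omega
      rw [h2] at hc
      have : (2 : ℕ) ^ 3 ≤ 2 ^ r := Nat.pow_le_pow_right two_pos h3r
      rcases hq with e | e <;> rw [e] at hc
      · omega
      · have h4 : r ≤ 3 := by
          by_contra hcon
          have : (2 : ℕ) ^ 4 ≤ 2 ^ r := Nat.pow_le_pow_right two_pos (not_le.1 hcon)
          omega
        rw [show r = 3 by omega] at hc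
        norm_num at hc
    · have : 3 ^ 3 ≤ Fintype.card F₀ ^ r :=
        (Nat.pow_le_pow_left hge 3).trans (Nat.pow_le_pow_right (by omega) h3r)
      omega
  · exfalso
    rw [Nat.card_congr e.toEquiv, nat_card_alternatingGroup, Nat.card_fin] at h8
    norm_num [Nat.factorial] at h8
  · rw [Nat.card_congr e.toEquiv, nat_card_alternatingGroup, Nat.card_fin]
    norm_num [Nat.factorial]
  · rw [Nat.card_congr e.toEquiv, Nat.card_perm, Nat.card_fin]
    norm_num [Nat.factorial]

/-- A subgroup of a centraliser of order `8` missing a four group is trivial if normalised by it. -/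
theorem small_trivial (ho : Odd q) {Z : SL(2, F)} (hz : orderOf (π Z) = 2)
    (hT : Nat.card (torG Z) = 4) {v : L₂} (hv : v * π Z = π Z * v) (hvT : v ∉ torG Z)
    {D : Subgroup L₂} (hDv : ∀ e ∈ D, v * e * v⁻¹ ∈ D) (hzD : π Z ∉ D) (hvD : v ∉ D)
    (hzvD : π Z * v ∉ D) {e : L₂} (heD : e ∈ D) (hez : e * π Z = π Z * e) : e = 1 := by
  obtain ⟨-, ht4, hzz, -⟩ := trace_invol ho hz
  obtain ⟨hvv, -⟩ := refl_invol ho hz hv hvT
  have hDT : ∀ t ∈ D, t ∈ torG Z → t = 1 := by
    intro t htD htT
    have h4 : t ^ 4 = 1 := by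
      rw [← hT]
      exact congrArg Subtype.val (pow_card_eq_one' (x := (⟨t, htT⟩ : torG Z)))
    rcases torus_invol ho hz (mul_mem htT htT)
      (by rw [show t * t * (t * t) = t ^ 4 by simp only [pow_succ, pow_zero, one_mul, mul_assoc], h4]) with h | h
    · rcases torus_invol ho hz htT h with h' | h'
      · exact h'
      · exact absurd (h' ▸ htD) hzD
    · exact absurd (h ▸ mul_mem htD htD) hzD
  by_cases heT : e ∈ torG Z
  · exact hDT e heD heT
  obtain ⟨hee, -⟩ := refl_invol ho hz hez heT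
  set e' := v * e * v⁻¹
  have he'z : e' * π Z = π Z * e' := by
    have hvi : v⁻¹ * π Z = π Z * v⁻¹ := (Commute.inv_left (hv : Commute v (π Z))).eq
    calc v * e * v⁻¹ * π Z = v * e * (π Z * v⁻¹) := by rw [mul_assoc _ v⁻¹, hvi]
      _ = v * (e * π Z) * v⁻¹ := by group
      _ = v * (π Z * e) * v⁻¹ := by rw [hez]
      _ = v * π Z * (e * v⁻¹) := by group
      _ = π Z * (v * e * v⁻¹) := by rw [hv]; group
  have he'T : e' ∉ torG Z := by
    intro h
    have := hDT _ (hDv e heD) h
    apply heT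
    rw [conj_eq_one_iff.1 this]
    exact one_mem _
  have h1 := hDT _ (mul_mem (hDv e heD) heD) (refl_mul he'z he'T hez heT)
  have hev : e * v = v * e := by
    have : e' = e := (mul_eq_one_iff_eq_inv.1 h1).trans (inv_eq_of_mul_eq_one_right hee)
    exact (mul_inv_eq_iff_eq_mul.1 this).symm
  rcases four_group ho hz hv hvT hez hev with h | h | h | h
  · exact h
  · exact absurd (h ▸ heD) hzD
  · exact absurd (h ▸ heD) hvD
  · exact absurd (h ▸ heD) hzvD

/-- `q = 7` and `q = 9`. -/
theorem small_invol_contra (hq : q = 7 ∨ q = 9) {H : Subgroup L₂} (hb : IsBin H)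
    (hev : Even (Nat.card H)) (hfull : ¬ q ∣ Nat.card H) : False := by
  classical
  have ho : Odd q := by rcases hq with e | e <;> rw [e] <;> decide
  haveI := Fact.mk Nat.prime_two
  obtain ⟨⟨x, hxH⟩, hx⟩ := exists_prime_orderOf_dvd_card' (G := H) 2 hev.two_dvd
  rw [Subgroup.orderOf_mk] at hx
  obtain ⟨X, rfl⟩ := π_surjective x
  obtain ⟨-, ht4, hxx, hx1⟩ := trace_invol ho hx
  have hT := small_torus ho hq hx
  have ha : (1 : L₂)⁻¹ * π X * 1 ∈ H := by rwa [inv_one, one_mul, mul_one]
  set K := fixK H (π X) with hK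
  set C := Subgroup.centralizer ({π X} : Set L₂) with hC
  have hC8 : Nat.card C = 8 := by rw [hC, card_centralizer_invol ho hx, hT]
  have hTC : torG X ≤ C := fun t ht =>
    Subgroup.mem_centralizer_singleton_iff.2 (torG_commute_self ht4 ht)
  obtain ⟨g₀, hg₀, hg₀T⟩ := exists_refl ho hx
  obtain ⟨y, hy, hyT, hyK⟩ : ∃ y : L₂, y * π X = π X * y ∧ y ∉ torG X ∧ y ∉ K := by
    by_contra hall
    push Not at hall
    have hCK : C ≤ K := by
      intro c hc
      have hc' := Subgroup.mem_centralizer_singleton_iff.1 hc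
      by_cases hcT : c ∈ torG X
      · have h' : c * g₀ ∉ torG X := fun h => hg₀T (by simpa using mul_mem (inv_mem hcT) h)
        have h1 := hall _ (show c * g₀ * π X = π X * (c * g₀) by
          rw [mul_assoc, hg₀, ← mul_assoc, hc', mul_assoc]) h'
        simpa using mul_mem h1 (inv_mem (hall g₀ hg₀ hg₀T))
      · exact hall c hc' hcT
    set N := Subgroup.normalizer (K : Set L₂) with hN
    have hCN : C ≤ N := hCK.trans Subgroup.le_normalizer
    let R := {g : L₂ // g ∈ (C : Set L₂) \ (torG X : Set L₂)}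
    have hR : Nat.card R = 4 := by
      have h := Set.ncard_sdiff_add_ncard_of_subset (s := (torG X : Set L₂)) (t := (C : Set L₂)) hTC
      rw [← Nat.card_coe_set_eq, ← Nat.card_coe_set_eq, ← Nat.card_coe_set_eq] at h
      have e1 : Nat.card ((torG X : Set L₂) : Type _) = 4 := hT
      have e2 : Nat.card ((C : Set L₂) : Type _) = 8 := hC8
      rw [e1, e2] at h
      show Nat.card (((C : Set L₂) \ (torG X : Set L₂) : Set L₂) : Type _) = 4
      omega
    have htrans : ∀ r : R, ∃ a : L₂, a * π X * a⁻¹ = r ∧ a ∈ N := by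
      rintro ⟨g, hgC, hgT⟩
      have hg := Subgroup.mem_centralizer_singleton_iff.1 hgC
      obtain ⟨hgg, hg1⟩ := refl_invol ho hx hg hgT
      obtain ⟨a, ha'⟩ := invol_conj ho hx (orderOf_eq_two' hgg hg1)
      refine ⟨a, ha', ?_⟩
      have hle : K.map (MulAut.conj a).toMonoidHom ≤ K := by
        rintro _ ⟨k, hk, rfl⟩
        have h := conj_mem_fixK a hk
        rw [ha'] at h
        exact fixK_mono (hall g hg hgT) h
      have heq : K.map (MulAut.conj a).toMonoidHom = K := Subgroup.eq_of_le_of_card_ge hle (by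
        rw [Subgroup.card_map_of_injective (f := (MulAut.conj a).toMonoidHom) (MulEquiv.injective _)])
      rw [hN, Subgroup.mem_normalizer_iff]
      intro k
      refine ⟨fun hk => heq ▸ Subgroup.mem_map_of_mem (MulAut.conj a).toMonoidHom hk, fun hk => ?_⟩
      obtain ⟨k', hk', e⟩ := heq.symm ▸ hk
      rwa [show k' = k from MulEquiv.injective (MulAut.conj a) e] at hk'
    choose a ha1 ha2 using htrans
    have h32 : 32 ≤ Nat.card N := by
      have hinj : Function.Injective fun p : R × C =>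
          (⟨a p.1 * p.2, mul_mem (ha2 p.1) (hCN p.2.2)⟩ : N) := by
        rintro ⟨r, c⟩ ⟨r', c'⟩ h
        have h' : a r * c = a r' * c' := congrArg Subtype.val h
        have hc : ∀ (r : R) (c : C), a r * c * π X * (a r * c)⁻¹ = r := by
          intro r c
          rw [← ha1 r]
          calc a r * c * π X * (a r * c)⁻¹ = a r * ((c : L₂) * π X) * (c : L₂)⁻¹ * (a r)⁻¹ := by group
            _ = a r * π X * (a r)⁻¹ := by
              rw [Subgroup.mem_centralizer_singleton_iff.1 c.2]; group
        have hr : r = r' := Subtype.ext (by rw [← hc r c, h', hc r' c'])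
        subst hr
        exact Prod.ext rfl (Subtype.ext (mul_left_cancel h'))
      have := Nat.card_le_card_of_injective _ hinj
      rwa [Nat.card_prod, hR, hC8] at this
    obtain ⟨M, hM, hle⟩ := (eq_top_or_exists_le_coatom N).resolve_left
      (normalizer_fixK_ne_top (by omega) hfull ha hx1)
    have h24 := small_max ho hq hM (hC8 ▸ Subgroup.card_dvd_of_le (hCN.trans hle))
    have := Subgroup.card_le_of_le hle
    omega
  refine invol_triple ho hb hx hy hyT hyK (fun hxKy hzK g hgx hgy => Or.inl ?_)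
  obtain ⟨hyy, hy1⟩ := refl_invol ho hx hy hyT
  set D := K ⊓ fixK H y with hD
  have hgD : g ∈ D := ⟨hgx, hgy⟩
  have hxD : π X ∉ D := fun h => hxKy h.2
  have hyD : y ∉ D := fun h => hyK h.1
  have hzD : π X * y ∉ D := fun h => hzK h.1
  have hvx : ∀ e ∈ D, π X * e * (π X)⁻¹ ∈ D := fun e he =>
    ⟨conj_mem_fixK_of_comm rfl he.1, conj_mem_fixK_of_comm hy.symm he.2⟩
  have hvy : ∀ e ∈ D, y * e * y⁻¹ ∈ D := fun e he =>
    ⟨conj_mem_fixK_of_comm hy he.1, conj_mem_fixK_of_comm rfl he.2⟩
  -- centralisers in `D` are trivial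
  have cx : ∀ e ∈ D, e * π X = π X * e → e = 1 := fun e he h =>
    small_trivial ho hx hT hy hyT hvy hxD hyD hzD he h
  have key : ∀ w : L₂, w * w = 1 → w ≠ 1 → π X * w = w * π X → π X ≠ w → w ∉ D → w * π X ∉ D →
      ∀ e ∈ D, e * w = w * e → e = 1 := by
    intro w hw hw1 hxw hne hwD hwxD e he hew
    obtain ⟨W, rfl⟩ := π_surjective w
    have hWo := orderOf_eq_two' hw hw1
    refine small_trivial ho hWo (small_torus ho hq hWo) hxw ?_ hvx hwD hxD hwxD he hew
    intro hmem
    rcases torus_invol ho hWo hmem hxx with h | h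
    · exact hx1 h
    · exact hne h
  have cy : ∀ e ∈ D, e * y = y * e → e = 1 :=
    key y hyy hy1 hy.symm (fun h => hyT (h ▸ self_mem_torG X)) hyD (by rwa [hy])
  have hzz : π X * y * (π X * y) = 1 := by
    rw [← mul_assoc, mul_assoc (π X) y, hy, ← mul_assoc, hxx, one_mul, hyy]
  have cz : ∀ e ∈ D, e * (π X * y) = π X * y * e → e = 1 :=
    key (π X * y) hzz
      (fun h => hyT (by
        rw [show y = (π X)⁻¹ * (π X * y) by group, h, mul_one]; exact inv_mem (self_mem_torG X)))
      (by rw [mul_assoc, hy])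
      (fun h => hy1 (mul_eq_left.1 h.symm)) hzD
      (by rw [mul_assoc, hy, ← mul_assoc, hxx, one_mul]; exact hyD)
  -- both involutions act as inversion
  have inv_act : ∀ v : L₂, v * v = 1 → (hv : ∀ e ∈ D, v * e * v⁻¹ ∈ D) →
      (∀ e ∈ D, e * v = v * e → e = 1) → v * g * v⁻¹ = g⁻¹ := by
    intro v hvv hv hfix
    let φ : D →* D :=
      { toFun := fun e => ⟨v * e * v⁻¹, hv e e.2⟩
        map_one' := Subtype.ext (by simp)
        map_mul' := fun e e' => Subtype.ext (by simp only [Subgroup.coe_mul]; group) }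
    have hfpf : MonoidHom.FixedPointFree φ := fun e he => Subtype.ext (hfix e e.2
      (mul_inv_eq_iff_eq_mul.1 (congrArg Subtype.val he)).symm)
    have hinvol : Function.Involutive φ := fun e => Subtype.ext (by
      show v * (v * e * v⁻¹) * v⁻¹ = (e : L₂)
      rw [inv_eq_of_mul_eq_one_right hvv]
      simp only [← mul_assoc, hvv, one_mul]
      rw [mul_assoc, hvv, mul_one])
    exact congrArg Subtype.val (congrFun (hfpf.coe_eq_inv_of_involutive hinvol) ⟨g, hgD⟩)
  have ix := inv_act (π X) hxx hvx cx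
  have iy := inv_act y hyy hvy cy
  refine cz g hgD ?_
  have : π X * y * g * (π X * y)⁻¹ = g := by
    rw [show π X * y * g * (π X * y)⁻¹ = π X * (y * g * y⁻¹) * (π X)⁻¹ by group, iy,
      show π X * g⁻¹ * (π X)⁻¹ = (π X * g * (π X)⁻¹)⁻¹ by group, ix, inv_inv]
  exact (mul_inv_eq_iff_eq_mul.1 this).symm

end Cfsg.Agent.ClassicalMax.Binary
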