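import Cfsg.Agent.ClassicalMax.BinaryBasic
import Cfsg.Agent.ClassicalMax.BinarySzCount
import Cfsg.Agent.S2251

/-!
# Binary coset actions of the Suzuki groups
-/

set_option autoImplicit false
set_option linter.unusedSectionVars false
set_option linter.style.haveILetI false

namespace Cfsg.Agent.ClassicalMax.BinarySz

open Cfsg Cfsg.Agent.ClassicalMax.Binary Cfsg.Agent.Suzuki MulAction
open scoped commutatorElement Pointwise

section generic

variable {G : Type*} [Group G]

theorem isBin_bot : IsBin (⊥ : Subgroup G) := by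
  intro n I J hn hp
  have hfree : ∀ (g g' : G) (p : G ⧸ (⊥ : Subgroup G)), g • p = g' • p → g = g' := by
    intro g g' p h
    obtain ⟨u, rfl⟩ := QuotientGroup.mk_surjective p
    change (QuotientGroup.mk (g * u) : G ⧸ _) = QuotientGroup.mk (g' * u) at h
    rw [QuotientGroup.eq, Subgroup.mem_bot, inv_mul_eq_one] at h
    exact mul_right_cancel h
  obtain ⟨g, hg, -⟩ := hp (⟨0, by omega⟩ : Fin n) ⟨1, by omega⟩ (by simp)
  refine ⟨g, fun k => ?_⟩
  rcases eq_or_ne k ⟨0, by omega⟩ with rfl | hk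
  · exact hg
  · obtain ⟨g', h0, hk'⟩ := hp _ k hk.symm
    rw [hfree g g' _ (hg.trans h0.symm)]
    exact hk'

/-- A group of exponent two containing every involution commuting with one of its involutions. -/
theorem involution_binary {H : Subgroup G} (hexp : ∀ h ∈ H, h * h = 1)
    (hcl : ∀ u v : G, u ∈ H → u ≠ 1 → v * v = 1 → v * u = u * v → v ∈ H) : IsBin H := by
  classical
  have hsq : ∀ (p : G ⧸ H) (g : G), g • p = p → g * g = 1 := by
    intro p g hg
    obtain ⟨a, rfl⟩ := QuotientGroup.mk_surjective p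
    have h := hexp _ (smul_mk_eq_iff.1 hg)
    calc g * g = a * (a⁻¹ * g * a * (a⁻¹ * g * a)) * a⁻¹ := by group
      _ = 1 := by rw [h]; group
  have habel : ∀ (p : G ⧸ H) (u v : G), u • p = p → v • p = p → v * u = u * v := by
    intro p u v hu hv
    have huv : (u * v) • p = p := by rw [mul_smul, hv, hu]
    have h := hsq p _ huv
    calc v * u = u * u * (v * u) * (v * v) := by rw [hsq p u hu, hsq p v hv, one_mul, mul_one]
      _ = u * (u * v * (u * v)) * v := by group
      _ = u * v := by rw [h, mul_one]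
  have hfix : ∀ (p : G ⧸ H) (u v : G), u • p = p → u ≠ 1 → v * v = 1 → v * u = u * v → v • p = p := by
    intro p u v hu hu1 hv hc
    obtain ⟨a, rfl⟩ := QuotientGroup.mk_surjective p
    refine smul_mk_eq_iff.2 (hcl (a⁻¹ * u * a) _ (smul_mk_eq_iff.1 hu) (fun h => hu1 ?_) ?_ ?_)
    · calc u = a * (a⁻¹ * u * a) * a⁻¹ := by group
        _ = 1 := by rw [h]; group
    · calc a⁻¹ * v * a * (a⁻¹ * v * a) = a⁻¹ * (v * v) * a := by group
        _ = 1 := by rw [hv]; group
    · calc a⁻¹ * v * a * (a⁻¹ * u * a) = a⁻¹ * (v * u) * a := by group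
        _ = a⁻¹ * u * a * (a⁻¹ * v * a) := by rw [hc]; group
  intro n I J hn hp
  by_cases hd : ∃ i j : Fin n, i ≠ j ∧ ∀ g : G, g • I i = I i → g • I j = I j → g = 1
  · obtain ⟨i, j, hij, htriv⟩ := hd
    obtain ⟨g₀, hi, hj⟩ := hp i j hij
    refine ⟨g₀, fun k => ?_⟩
    rcases eq_or_ne k i with rfl | hki
    · exact hi
    rcases eq_or_ne k j with rfl | hkj
    · exact hj
    obtain ⟨g₁, h1i, h1k⟩ := hp i k hki.symm
    obtain ⟨g₂, h2j, h2k⟩ := hp j k hkj.symm
    set u := g₀⁻¹ * g₁ with hu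
    set v := g₀⁻¹ * g₂ with hv
    have hui : u • I i = I i := by rw [hu, mul_smul, h1i, ← hi, inv_smul_smul]
    have hvj : v • I j = I j := by rw [hv, mul_smul, h2j, ← hj, inv_smul_smul]
    have huk : u • I k = g₀⁻¹ • J k := by rw [hu, mul_smul, h1k]
    have hvk : v • I k = g₀⁻¹ • J k := by rw [hv, mul_smul, h2k]
    suffices g₀⁻¹ • J k = I k by rw [eq_comm, ← inv_smul_eq_iff, this]
    by_cases hu1 : u = 1
    · rw [← huk, hu1, one_smul]
    by_cases hv1 : v = 1
    · rw [← hvk, hv1, one_smul]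
    have hwk : (u⁻¹ * v) • I k = I k := by rw [mul_smul, hvk, ← huk, inv_smul_smul]
    exfalso
    have hu2 := hsq _ _ hui
    have hv2 := hsq _ _ hvj
    have hw2 := hsq _ _ hwk
    rw [inv_eq_of_mul_eq_one_right hu2] at hw2
    have hc : v * u = u * v := by
      calc v * u = u * u * (v * u) * (v * v) := by rw [hu2, hv2, one_mul, mul_one]
        _ = u * (u * v * (u * v)) * v := by group
        _ = u * v := by rw [hw2, mul_one]
    exact hv1 (htriv v (hfix _ u v hui hu1 hv2 hc) hvj)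
  · push Not at hd
    obtain ⟨g, hg0, -⟩ := hp (⟨0, by omega⟩ : Fin n) ⟨1, by omega⟩ (by simp)
    refine ⟨g, fun k => ?_⟩
    rcases eq_or_ne k ⟨0, by omega⟩ with rfl | hk
    · exact hg0
    set i : Fin n := ⟨0, by omega⟩
    obtain ⟨h, hh0, hhk⟩ := hp i k hk.symm
    obtain ⟨w, hwi, hwk, hw1⟩ := hd i k hk.symm
    have hui : (g⁻¹ * h) • I i = I i := by rw [mul_smul, hh0, ← hg0, inv_smul_smul]
    have := hfix _ w _ hwk hw1 (hsq _ _ hui) (habel _ w _ hwi hui)
    rw [mul_smul, hhk, inv_smul_eq_iff] at this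
    exact this.symm

theorem isBin_map {G' : Type*} [Group G'] (e : G ≃* G') {H : Subgroup G} (hb : IsBin H) :
    IsBin (H.map e.toMonoidHom) := by
  set K := H.map e.toMonoidHom
  have hK : ∀ u v : G, (QuotientGroup.mk (e u) : G' ⧸ K) = QuotientGroup.mk (e v) ↔
      (QuotientGroup.mk u : G ⧸ H) = QuotientGroup.mk v := by
    intro u v
    rw [QuotientGroup.eq, QuotientGroup.eq, ← map_inv, ← map_mul]
    exact Subgroup.mem_map_iff_mem (f := e.toMonoidHom) e.injective
  intro n I J hn hp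
  choose i' hi using fun k => QuotientGroup.mk_surjective (I k)
  choose j' hj using fun k => QuotientGroup.mk_surjective (J k)
  have key : ∀ (g : G) (k : Fin n), e g • I k = J k ↔
      g • (QuotientGroup.mk (e.symm (i' k)) : G ⧸ H) = QuotientGroup.mk (e.symm (j' k)) := by
    intro g k
    rw [← hi, ← hj]
    change (QuotientGroup.mk (e g * i' k) : G' ⧸ K) = _ ↔
      (QuotientGroup.mk (g * e.symm (i' k)) : G ⧸ H) = _
    rw [← hK, map_mul, MulEquiv.apply_symm_apply, MulEquiv.apply_symm_apply]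
  obtain ⟨g, hg⟩ := hb n (fun k => QuotientGroup.mk (e.symm (i' k)))
    (fun k => QuotientGroup.mk (e.symm (j' k))) hn
    (fun i j hij => by
      obtain ⟨g, h1, h2⟩ := hp i j hij
      rw [← e.apply_symm_apply g] at h1 h2
      exact ⟨e.symm g, (key _ i).1 h1, (key _ j).1 h2⟩)
  exact ⟨e g, fun k => (key g k).2 (hg k)⟩

theorem center_map {G' : Type*} [Group G'] (e : G ≃* G') (P : Subgroup G) :
    ((Subgroup.center P).map P.subtype).map e.toMonoidHom =
      (Subgroup.center (P.map e.toMonoidHom)).map (P.map e.toMonoidHom).subtype := by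
  ext x
  constructor
  · rintro ⟨_, ⟨⟨z, hz⟩, hzc, rfl⟩, rfl⟩
    refine ⟨⟨e z, Subgroup.mem_map_of_mem _ hz⟩, Subgroup.mem_center_iff.2 ?_, rfl⟩
    rintro ⟨_, y, hy, rfl⟩
    have h := congrArg Subtype.val (Subgroup.mem_center_iff.1 hzc ⟨y, hy⟩)
    exact Subtype.ext (show e y * e z = e z * e y by rw [← map_mul, ← map_mul]; exact congrArg e h)
  · rintro ⟨⟨_, z, hz, rfl⟩, hzc, rfl⟩
    refine ⟨z, ⟨⟨z, hz⟩, Subgroup.mem_center_iff.2 ?_, rfl⟩, rfl⟩
    rintro ⟨y, hy⟩
    have h := congrArg Subtype.val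
      (Subgroup.mem_center_iff.1 hzc ⟨e y, Subgroup.mem_map_of_mem _ hy⟩)
    exact Subtype.ext (e.injective (show e (y * z) = e (z * y) by rw [map_mul, map_mul]; exact h))

theorem card_map_conj (H : Subgroup G) (a : G) :
    Nat.card (H.map (MulAut.conj a).toMonoidHom) = Nat.card H :=
  Subgroup.card_map_of_injective (f := (MulAut.conj a).toMonoidHom) (MulAut.conj a).injective

theorem mem_map_conj {H : Subgroup G} {a g : G} :
    g ∈ H.map (MulAut.conj a).toMonoidHom ↔ a⁻¹ * g * a ∈ H := by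
  constructor
  · rintro ⟨h, hh, rfl⟩
    simpa [MulAut.conj_apply, mul_assoc] using hh
  · intro h
    exact ⟨_, h, by simp [MulAut.conj_apply, mul_assoc]⟩

end generic

variable {F : Type*} [Field F] [Fintype F] {m : ℕ} [hS : SuzukiField F m]

set_option quotPrecheck false in
local notation "G₀" => { x // x ∈ Cfsg.Sz F m }

theorem part_conj {U : Subgroup G₀} (hU : U ∈ partSet F m) (c : G₀) :
    U.map (MulAut.conj c).toMonoidHom ∈ partSet F m := by
  rcases hU with ⟨P, rfl⟩ | hc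
  · exact Or.inl ⟨c • P, rfl⟩
  · exact (IsCycPart.conj hc c).mem_partSet

theorem mem_normalizer_of_part {U : Subgroup G₀} (hU : U ∈ partSet F m) {x c : G₀} (hx : x ∈ U)
    (hx1 : x ≠ 1) (h : c * x * c⁻¹ ∈ U) : c ∈ Subgroup.normalizer (U : Set G₀) := by
  have e : U.map (MulAut.conj c).toMonoidHom = U :=
    part_eq_of_mem (part_conj hU c) hU (mem_map_conj.2 (by group; exact hx)) h (fun h' => hx1 (by
      calc x = c⁻¹ * (c * x * c⁻¹) * c := by group
        _ = 1 := by rw [h']; group))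
  rw [Subgroup.mem_normalizer_iff]
  intro g
  conv_rhs => rw [← e, mem_map_conj]
  rw [show c⁻¹ * (c * g * c⁻¹) * c = g by group]

/-- No binary action if some element lies in a part with all that it fixes, and has a triangle. -/
theorem part_contra {H U : Subgroup G₀} (hb : IsBin H) (hU : U ∈ partSet F m) {x : G₀} (hx : x ∈ U)
    (hx1 : x ≠ 1) (hK : ∀ g ∈ fixK H x, g ∈ U) {y : G₀}
    (hy : y ∉ Subgroup.normalizer (U : Set G₀)) (hc : IsConj (x * (y * x * y⁻¹)) x) : False := by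
  obtain ⟨c, hc'⟩ := isConj_iff.1 hc.symm
  have key : ∀ e : G₀, ∀ g ∈ fixK H (e * x * e⁻¹), e⁻¹ * g * e ∈ U := by
    intro e g hg
    have h := conj_mem_fixK e⁻¹ hg
    rw [show e⁻¹ * (e * x * e⁻¹) * e⁻¹⁻¹ = x by group, inv_inv] at h
    exact hK _ h
  have conj_ne : ∀ e : G₀, e * x * e⁻¹ ≠ 1 := fun e h => hx1 (by
    calc x = e⁻¹ * (e * x * e⁻¹) * e := by group
      _ = 1 := by rw [h]; group)
  have hcN : c ∉ Subgroup.normalizer (U : Set G₀) := by
    intro h
    have h1 : c * x * c⁻¹ ∈ U := (Subgroup.mem_normalizer_iff.1 h x).1 hx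
    rw [hc'] at h1
    exact hy (mem_normalizer_of_part hU hx hx1 (by simpa using mul_mem (inv_mem hx) h1))
  obtain ⟨g, hgg, hgx, hgw⟩ := binary_triple hb (c * x * c⁻¹) x
  have hg1 : g = 1 := by
    by_contra hne
    have e := part_eq_of_mem (part_conj hU c) hU (mem_map_conj.2 (key c g hgg)) (hK g hgx) hne
    exact hcN (mem_normalizer_of_part hU hx hx1 (e ▸ Subgroup.mem_map_of_mem (MulAut.conj c).toMonoidHom hx))
  subst hg1
  rw [inv_one, one_mul, show x⁻¹ * (c * x * c⁻¹) = y * x * y⁻¹ by rw [hc']; group] at hgw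
  have h1 := key y _ hgw
  rw [hc', show y⁻¹ * (x * (y * x * y⁻¹)) * y = y⁻¹ * x * y * x by group] at h1
  have h2 : y⁻¹ * x * y⁻¹⁻¹ ∈ U := by
    rw [inv_inv]
    simpa using mul_mem h1 (inv_mem hx)
  have h3 := mem_normalizer_of_part hU hx hx1 h2
  exact hy (by simpa using inv_mem h3)

theorem mem_stab_iff {g : G₀} :
    g ∈ Subgroup.normalizer (unip F m : Set G₀) ↔ g • oInf F m = oInf F m := by
  rw [normalizer_unip, mem_stabilizer_iff]

theorem unip_part : unip F m ∈ partSet F m := Or.inl ⟨unipSylow F m, rfl⟩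

theorem sylow_normalizer (P : Sylow 2 G₀) : ∃ k : G₀, ∀ g : G₀,
    (g ∈ (P : Subgroup G₀) ↔ k⁻¹ * g * k ∈ unip F m) ∧
    (g ∈ Subgroup.normalizer ((P : Subgroup G₀) : Set G₀) ↔ (k⁻¹ * g * k) • oInf F m = oInf F m) := by
  obtain ⟨k, rfl⟩ := MulAction.exists_smul_eq G₀ (unipSylow F m) P
  refine ⟨k, fun g => ⟨mem_smul_unipSylow, ?_⟩⟩
  rw [← mem_stab_iff, ← coe_unipSylow, Sylow.coe_subgroup_smul, Subgroup.mem_normalizer_iff,
    Subgroup.mem_normalizer_iff]
  have hmem : ∀ z : G₀, z ∈ MulAut.conj k • (unipSylow F m : Subgroup G₀) ↔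
      k⁻¹ * z * k ∈ (unipSylow F m : Subgroup G₀) := fun z => by
    rw [← Sylow.coe_subgroup_smul, mem_smul_unipSylow, coe_unipSylow]
  simp only [hmem]
  constructor
  · intro h z
    have := h (k * z * k⁻¹)
    convert this using 2 <;> group
  · intro h z
    have := h (k⁻¹ * z * k)
    convert this using 2 <;> group

/-- A cyclic part cannot lie in a smaller Suzuki group. -/
theorem cyc_not_subfield {U S : Subgroup G₀} (hU : IsCycPart U) {K : Type} [Field K] [Fintype K]
    {k : ℕ} (hk1 : 1 ≤ k) (hkm : k < m) (hK : Fintype.card K = 2 ^ (2 * k + 1))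
    (hdvd : 2 * k + 1 ∣ 2 * m + 1) (e : S ≃* Cfsg.Sz K k) (hUS : U ≤ S) : False := by
  haveI : SuzukiField K k := ⟨hk1, hK⟩
  haveI := hU.1
  obtain ⟨u, hu⟩ := IsCyclic.exists_ofOrder_eq_natCard (α := U)
  set v : Cfsg.Sz K k := e ⟨(u : G₀), hUS u.2⟩ with hv
  have hord : orderOf v = Nat.card U := by
    rw [hv, MulEquiv.orderOf_eq, Subgroup.orderOf_mk, Subgroup.orderOf_coe, hu]
  have h2 := hU.two_lt_card
  have hv1 : v ≠ 1 := fun h => by rw [h, orderOf_one] at hord; omega
  obtain ⟨V, ⟨hV, hvV⟩, -⟩ := exists_unique_part hv1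
  have h3 : 3 * (2 * k + 1) ≤ 2 * m + 1 := by
    obtain ⟨t, ht⟩ := hdvd
    rcases t with _ | _ | _ | t
    · omega
    · omega
    · omega
    · nlinarith
  have hbig : 2 * 2 ^ (2 * k + 1) + 2 < Nat.card U := by
    have h4 : 2 ^ (2 * k + 1) * 4 ≤ 2 ^ (2 * m) := by
      calc 2 ^ (2 * k + 1) * 4 = 2 ^ (2 * k + 3) := by
            rw [show 2 * k + 3 = 2 * k + 1 + 2 by rfl, pow_add 2 (2 * k + 1) 2]; norm_num [-pow_succ]
        _ ≤ 2 ^ (2 * m) := Nat.pow_le_pow_right two_pos (by omega)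
    have h5 : 2 * 2 ^ (m + 1) ≤ 2 ^ (2 * m + 1) := by
      rw [← pow_succ']; exact Nat.pow_le_pow_right two_pos (by omega)
    have h6 : 2 ^ (2 * m + 1) = 2 * 2 ^ (2 * m) := pow_succ' 2 (2 * m)
    have h7 := Nat.two_pow_pos (2 * k + 1)
    have h := hU.2
    simp only [Set.mem_insert_iff, Set.mem_singleton_iff] at h
    omega
  rcases hV with ⟨P, rfl⟩ | hc
  · obtain ⟨j, hj⟩ := two_pow_of_mem_sylow hvV
    rw [hord] at hj
    rcases Nat.eq_zero_or_pos j with rfl | hj0
    · omega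
    · exact hU.odd_card (hj ▸ dvd_pow_self 2 hj0.ne')
  · have hle := Nat.le_of_dvd Nat.card_pos (Subgroup.orderOf_dvd_natCard V hvV)
    rw [hord] at hle
    have h := hc.2
    simp only [Set.mem_insert_iff, Set.mem_singleton_iff] at h
    have := pow_le_pow_q (F := K) (m := k)
    have := Nat.two_pow_pos k
    omega

/-- The elementary abelian group of order `q` lies only in Borel subgroups. -/
theorem le_borel {M : Subgroup G₀} (hM : M ≠ ⊤) (hZ : unipZ F m ≤ M) :
    ∀ g ∈ M, g • oInf F m = oInf F m := by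
  classical
  haveI := Fact.mk Nat.prime_two
  rcases S2251.result hS.one_le hS.card M hM with ⟨P, hle⟩ | ⟨U, hUc, hUcard, hle⟩ |
    ⟨K, iK, iKF, k, hk1, hkm, hK, hdvd, S, ⟨e⟩, hle⟩
  · intro g hg
    have hz : gT 0 1 ∈ (P : Subgroup G₀) := by
      obtain ⟨k, hk⟩ := sylow_normalizer P
      have hN := (hk _).2.1 (hle (hZ (show gT 0 1 ∈ unipZ F m from ⟨1, rfl⟩)))
      rw [(hk _).1]
      obtain ⟨a, b, l, hab⟩ := exists_gT_gD_of_fix hN
      have hsq : (k⁻¹ * gT 0 1 * k) * (k⁻¹ * gT 0 1 * k) = 1 := by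
        calc (k⁻¹ * gT 0 1 * k) * (k⁻¹ * gT 0 1 * k) = k⁻¹ * (gT 0 1 * gT 0 1) * k := by group
          _ = 1 := by
            rw [gT_mul, map_zero, zero_mul, add_zero, add_zero, CharTwo.add_self_eq_zero, gT_zero]
            group
      rw [hab, gT_gD_mul, gT_mul, ← gT_zero, show (gT 0 0 : G₀) = gT 0 0 * gD 1 by rw [gD_one, mul_one]]
        at hsq
      obtain ⟨-, -, hl⟩ := gT_mul_gD_inj hsq
      have : l = 1 := Units.ext (Suzuki.sq_eq_one (by rw [pow_two, ← Units.val_mul, hl, Units.val_one]))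
      rw [hab, this, gD_one, mul_one]
      exact gT_mem_unip a b
    have e : (P : Subgroup G₀) = unip F m :=
      part_eq_of_mem (Or.inl ⟨P, rfl⟩) unip_part hz (gT_mem_unip 0 1) (fun h => by
        have := gT_eq_one h; exact one_ne_zero this.2)
    have := hle hg
    rw [e] at this
    exact mem_stab_iff.1 this
  · exfalso
    have hU : IsCycPart U := ⟨hUc, hUcard⟩
    obtain ⟨w, hw, hcard⟩ := hU.card_normalizer
    have h1 : Fintype.card F ∣ w * Nat.card U := by
      rw [← hcard, ← card_unipZ (F := F) (m := m)]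
      exact Subgroup.card_dvd_of_le (hZ.trans hle)
    have h2 : (Fintype.card F).Coprime (Nat.card U) := by
      rw [hS.card]
      exact Nat.Coprime.pow_left _ (Nat.prime_two.coprime_iff_not_dvd.2 hU.odd_card)
    have h3 := Nat.le_of_dvd (by rcases hw with ⟨-, rfl⟩ | ⟨-, rfl⟩ | ⟨-, rfl⟩ <;> norm_num)
      (h2.dvd_of_dvd_mul_right h1)
    have := eight_le_card (F := F) (m := m)
    rcases hw with ⟨-, rfl⟩ | ⟨-, rfl⟩ | ⟨-, rfl⟩ <;> omega
  · exfalso
    haveI : SuzukiField K k := ⟨hk1, hK⟩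
    have h1 : Fintype.card F ∣ Nat.card (Cfsg.Sz K k) := by
      rw [← Nat.card_congr e.toEquiv, ← card_unipZ (F := F) (m := m)]
      exact Subgroup.card_dvd_of_le (hZ.trans hle)
    rw [card_sz, mul_assoc, hS.card] at h1
    have hodd : Nat.Coprime (2 ^ (2 * m + 1))
        (((2 ^ (2 * k + 1)) ^ 2 + 1) * (2 ^ (2 * k + 1) - 1)) := by
      have he : 2 ∣ 2 ^ (2 * k + 1) := dvd_pow_self 2 (by omega)
      have he2 : 2 ∣ (2 ^ (2 * k + 1)) ^ 2 := dvd_pow he two_ne_zero
      have := Nat.two_pow_pos (2 * k + 1)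
      refine Nat.Coprime.pow_left _ (Nat.Coprime.mul_right ?_ ?_) <;>
        rw [Nat.prime_two.coprime_iff_not_dvd] <;> omega
    have h2 := hodd.dvd_of_dvd_mul_right h1
    rw [← pow_mul, Nat.pow_dvd_pow_iff_le_right (by norm_num)] at h2
    obtain ⟨t, ht⟩ := hdvd
    rcases t with _ | _ | _ | t
    · omega
    · omega
    · omega
    · nlinarith

/-- Elements of order two lie in conjugates of the centre of `unip`. -/
theorem exists_conj_gT_one {x : G₀} (hx : orderOf x = 2) : ∃ k : G₀, k⁻¹ * x * k = gT 0 1 := by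
  classical
  haveI := Fact.mk Nat.prime_two
  obtain ⟨P, hP⟩ := (IsPGroup.of_card (p := 2) (n := 1)
    ((Nat.card_zpowers x).trans (hx.trans (pow_one 2).symm))).exists_le_sylow
  obtain ⟨k, rfl⟩ := MulAction.exists_smul_eq G₀ (unipSylow F m) P
  obtain ⟨a, b, hab⟩ := mem_smul_unipSylow.1 (hP (Subgroup.mem_zpowers x))
  have hord : orderOf (gT a b : G₀) = 2 := by
    rw [← hab, ← hx]
    simpa [MulAut.conj_apply, mul_assoc] using MulEquiv.orderOf_eq (MulAut.conj k⁻¹) x
  have ha : a = 0 := by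
    by_contra ha
    rw [orderOf_gT ha] at hord
    omega
  subst ha
  have hb : b ≠ 0 := fun h => by rw [h, gT_zero, orderOf_one] at hord; omega
  have hinj : Function.Injective fun l : Fˣ => (th F m l * l : F) ^ 2 := by
    intro l l' h
    have h' := sq_injective (F := F) (m := m) h
    have h1 : th F m ((l / l' : Fˣ) : F) * ((l / l' : Fˣ) : F) = 1 := by
      rw [Units.val_div_eq_div_val, map_div₀, div_mul_div_comm, h', div_self]
      exact mul_ne_zero (by simp) l'.ne_zero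
    exact div_eq_one.1 (Units.ext (th_mul_self_eq_one h1))
  obtain ⟨l, hl⟩ : ∃ l : Fˣ, (th F m l * l : F) ^ 2 = b⁻¹ := by
    let f : Fˣ → Fˣ := fun l => Units.mk0 ((th F m l * l : F) ^ 2)
      (pow_ne_zero 2 (mul_ne_zero (by simp) l.ne_zero))
    have hf : Function.Injective f := fun l l' h => hinj (congrArg Units.val h)
    obtain ⟨l, hl⟩ := Finite.injective_iff_surjective.1 hf (Units.mk0 b⁻¹ (inv_ne_zero hb))
    exact ⟨l, congrArg Units.val hl⟩
  refine ⟨k * (gD l)⁻¹, ?_⟩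
  rw [show (k * (gD l)⁻¹)⁻¹ * x * (k * (gD l)⁻¹) = gD l * (k⁻¹ * x * k) * (gD l)⁻¹ by group, hab,
    gD_conj_gT, mul_inv_cancel_right, mul_zero, ← mul_pow, hl, inv_mul_cancel₀ hb]

theorem mu_ne_one {l : Fˣ} (hl : l ≠ 1) : th F m (l : F) ^ 2 * (l : F) ^ 2 ≠ 1 := fun h =>
  hl (Units.ext (th_mul_self_eq_one (Suzuki.sq_eq_one (by rw [mul_pow, h]))))

theorem exists_mu (c : F) (hc : c ≠ 0) :
    ∃ l : Fˣ, th F m (l : F) ^ 2 * (l : F) ^ 2 = c := by
  let f : Fˣ → Fˣ := fun l => Units.mk0 (th F m (l : F) ^ 2 * (l : F) ^ 2)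
    (mul_ne_zero (pow_ne_zero 2 (by simp)) (pow_ne_zero 2 l.ne_zero))
  have hf : Function.Injective f := by
    intro l l' h
    have h' : th F m (l : F) ^ 2 * (l : F) ^ 2 = th F m (l' : F) ^ 2 * (l' : F) ^ 2 :=
      congrArg Units.val h
    by_contra hne
    refine mu_ne_one (l := l / l') (fun h1 => hne (div_eq_one.1 h1)) ?_
    rw [Units.val_div_eq_div_val, map_div₀, div_pow, div_pow, div_mul_div_comm, h', div_self]
    exact mul_ne_zero (pow_ne_zero 2 (by simp)) (pow_ne_zero 2 l'.ne_zero)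
  obtain ⟨l, hl⟩ := Finite.injective_iff_surjective.1 hf (Units.mk0 c hc)
  exact ⟨l, congrArg Units.val hl⟩

theorem gD_conj' (l : Fˣ) (a b : F) :
    (gD l * gT a b * (gD l)⁻¹ : G₀) =
      gT ((l : F) ^ 2 * a) (th F m l ^ 2 * (l : F) ^ 2 * b) := by
  rw [gD_conj_gT, mul_inv_cancel_right]

theorem gT_zero_commute (c a b : F) : (gT 0 c * gT a b : G₀) = gT a b * gT 0 c := by
  rw [gT_mul, gT_mul, map_zero, zero_mul, mul_zero, add_zero, add_zero, zero_add, add_zero]
  congr 1
  ring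

/-- A stabiliser of even order contains the centre of a Sylow subgroup. -/
theorem unipZ_le {H : Subgroup G₀} (hb : IsBin H) (hH : H ≠ ⊤) (hx : gT 0 1 ∈ H) :
    unipZ F m ≤ H := by
  classical
  haveI := sz_isSimple (F := F) (m := m)
  set K := fixK H (gT 0 1 : G₀) with hK
  have hKH : K ≤ H := fun g hg => by
    simpa using conj_mem_of_fixK (a := (1 : G₀)) (by simpa using hx) hg
  have hcomm : ∀ u ∈ unip F m, u * gT 0 1 = gT 0 1 * u := by
    rintro _ ⟨a, b, rfl⟩
    exact (gT_zero_commute 1 a b).symm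
  have hUN : unip F m ≤ Subgroup.normalizer (K : Set G₀) := by
    intro u hu
    rw [Subgroup.mem_normalizer_iff]
    refine fun g => ⟨fun hg => conj_mem_fixK_of_comm (hcomm u hu) hg, fun hg => ?_⟩
    have := conj_mem_fixK_of_comm (hcomm _ (inv_mem hu)) hg
    rwa [show u⁻¹ * (u * g * u⁻¹) * u⁻¹⁻¹ = g by group] at this
  have hne : K ⊔ unip F m ≠ ⊤ := by
    intro htop
    have hn : K.Normal := Subgroup.normalizer_eq_top_iff.1
      (eq_top_iff.2 (htop ▸ sup_le Subgroup.le_normalizer hUN))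
    rcases hn.eq_bot_or_eq_top with h | h
    · have := self_mem_fixK H (gT 0 1 : G₀)
      rw [← hK, h, Subgroup.mem_bot] at this
      exact one_ne_zero (gT_eq_one this).2
    · exact hH (eq_top_iff.2 (h ▸ hKH))
  have hKB : ∀ g ∈ K, g • oInf F m = oInf F m := fun g hg =>
    le_borel hne (fun z hz => (le_sup_right : unip F m ≤ _) (unipZ_le_unip hz)) g
      ((le_sup_left : K ≤ _) hg)
  by_contra hnot
  have hnotK : ¬ ∀ r : F, gT 0 r ∈ K := fun hall => hnot (by
    rintro _ ⟨r, rfl⟩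
    exact hKH (hall r))
  have hKU : ∀ g ∈ K, g ∈ unip F m := by
    intro g hg
    obtain ⟨a, b, l, rfl⟩ := exists_gT_gD_of_fix (hKB g hg)
    by_cases hl : l = 1
    · rw [hl, gD_one, mul_one]; exact gT_mem_unip a b
    · exfalso
      apply hnotK
      intro r
      have hs : th F m (l : F) ^ 2 * (l : F) ^ 2 - 1 ≠ 0 := sub_ne_zero.2 (mu_ne_one hl)
      set c := r / (th F m (l : F) ^ 2 * (l : F) ^ 2 - 1)
      have e : gT a b * gD l * (gT 0 c * (gT a b * gD l)⁻¹ * (gT 0 c)⁻¹) = (gT 0 r : G₀) := by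
        rw [show gT a b * gD l * (gT 0 c * (gT a b * gD l)⁻¹ * (gT 0 c)⁻¹) =
          gT a b * (gD l * gT 0 c * (gD l)⁻¹) * (gT a b : G₀)⁻¹ * (gT 0 c)⁻¹ by group,
          gD_conj', mul_zero, ← gT_zero_commute, mul_inv_cancel_right, gT_inv, gT_mul, map_zero,
          zero_mul, add_zero, add_zero, add_zero]
        congr 1
        have : c * (th F m (l : F) ^ 2 * (l : F) ^ 2 - 1) = r := div_mul_cancel₀ _ hs
        linear_combination this + c * (CharTwo.two_eq_zero (R := F))
      rw [← e]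
      exact mul_mem hg (conj_mem_fixK_of_comm (hcomm _ (gT_mem_unip 0 c)) (inv_mem hg))
  have hscale : ∀ {b r c : F}, c ≠ 0 → gT 0 b ∈ fixK H (gT 0 r) →
      gT 0 (c * b) ∈ fixK H (gT 0 (c * r) : G₀) := by
    intro b r c hc hbr
    obtain ⟨t, ht⟩ := exists_mu (m := m) c hc
    have := conj_mem_fixK (gD t) hbr
    rwa [gD_conj', gD_conj', mul_zero, ht] at this
  have hmul : ∀ {b c : F}, gT 0 b ∈ K → gT 0 c ∈ K → gT 0 (c * b) ∈ K := by
    intro b c hbK hcK
    rcases eq_or_ne c 0 with rfl | hc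
    · rw [zero_mul, gT_zero]; exact one_mem _
    · have := hscale hc hbK
      rw [mul_one] at this
      exact fixK_mono hcK this
  have hinv : ∀ {s : F}, s ≠ 0 → gT 0 s ∈ K → gT 0 s⁻¹ ∈ K := by
    intro s hs hsK
    have hpow : ∀ n : ℕ, gT 0 (s ^ n) ∈ K := by
      intro n
      induction n with
      | zero => rw [pow_zero]; exact self_mem_fixK _ _
      | succ n ih => rw [pow_succ]; exact hmul hsK ih
    have h8 := eight_le_card (F := F) (m := m)
    have e : s⁻¹ = s ^ (Fintype.card F - 2) := by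
      refine (eq_inv_of_mul_eq_one_left ?_).symm
      rw [← pow_succ, show Fintype.card F - 2 + 1 = Fintype.card F - 1 by omega]
      exact FiniteField.pow_card_sub_one_eq_one s hs
    rw [e]
    exact hpow _
  push Not at hnotK
  obtain ⟨c, hc⟩ := hnotK
  have hc0 : c ≠ 0 := by rintro rfl; exact hc (gT_zero (F := F) (m := m) ▸ one_mem _)
  have hc1 : c ≠ 1 := by rintro rfl; exact hc (self_mem_fixK _ _)
  have hboth : ∀ e : F, gT 0 e ∈ K → gT 0 e ∈ fixK H (gT 0 c : G₀) → e = 0 := by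
    intro e he hey
    by_contra hne0
    have hec := hscale (inv_ne_zero hc0) hey
    rw [inv_mul_cancel₀ hc0] at hec
    refine hc ?_
    have h := hmul (hinv (mul_ne_zero (inv_ne_zero hc0) hne0) hec) he
    rwa [show e * (c⁻¹ * e)⁻¹ = c by field_simp] at h
  obtain ⟨g, hgx, hgy, hgw⟩ := binary_triple hb (gT 0 1 : G₀) (gT 0 c)
  obtain ⟨a, e, rfl⟩ := hKU g hgx
  have ha : a = 0 := by
    have h1 := mul_mem hgx hgx
    have h2 := mul_mem hgy hgy
    have e1 : (gT a e * gT a e : G₀) = gT 0 (th F m a * a) := by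
      rw [gT_mul, CharTwo.add_self_eq_zero, CharTwo.add_self_eq_zero, zero_add]
    rw [e1] at h1 h2
    rcases mul_eq_zero.1 (hboth _ h1 h2) with h | h
    · simpa using h
    · exact h
  subst ha
  have he0 := hboth e hgx hgy
  subst he0
  rw [gT_zero, inv_one, one_mul, gT_inv, gT_mul, map_zero, zero_mul, add_zero, add_zero,
    add_zero] at hgw
  have hr0 : c + 1 ≠ 0 := fun h => hc1 (by linear_combination h - CharTwo.two_eq_zero (R := F))
  have h := hscale (inv_ne_zero hr0) hgw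
  rw [mul_one, inv_mul_cancel₀ hr0] at h
  have hrK := hinv (inv_ne_zero hr0) h
  rw [inv_inv] at hrK
  refine hc ?_
  have : (gT 0 c : G₀) = gT 0 (c + 1) * gT 0 1 := by
    rw [gT_mul, map_zero, zero_mul, add_zero, add_zero]
    congr 1
    linear_combination -(CharTwo.two_eq_zero (R := F))
  rw [this]
  exact mul_mem hrK (self_mem_fixK _ _)

/-- Elements of a part have that part as centraliser. -/
theorem cyc_centralizer {U : Subgroup G₀} (hU : IsCycPart U) {x : G₀} (hx : x ∈ U) (hx1 : x ≠ 1)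
    {g : G₀} (hg : g ∈ U) : g * x = x * g := by
  haveI := hU.1
  exact congrArg Subtype.val
    ((IsCyclic.commutative (α := U)).is_comm.comm (⟨g, hg⟩ : U) ⟨x, hx⟩)

/-- The forward direction for stabilisers of odd order. -/
theorem odd_contra {H₀ : Subgroup G₀} (hb₀ : IsBin H₀) (hne : H₀ ≠ ⊥)
    (hodd₀ : Odd (Nat.card H₀)) (hH₀ : H₀ ≠ ⊤) : False := by
  classical
  haveI := sz_isSimple (F := F) (m := m)
  obtain ⟨⟨g, hgH⟩, hg1⟩ := H₀.ne_bot_iff_exists_ne_one.1 hne
  have hg1' : g ≠ 1 := fun h => hg1 (Subtype.ext h)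
  have hu : g ∉ conjCover (unip F m) := by
    rintro ⟨-, k, hk⟩
    obtain ⟨n, hn⟩ := two_pow_of_mem_sylow ((mem_smul_unipSylow (k := k)).2 hk)
    have hd := Subgroup.orderOf_dvd_natCard H₀ hgH
    rw [hn] at hd
    rcases Nat.eq_zero_or_pos n with rfl | hn0
    · exact hg1' (orderOf_eq_one_iff.1 hn)
    · exact Nat.not_even_iff_odd.2 (hodd₀.of_dvd_nat hd) (even_two.pow_of_ne_zero hn0.ne')
  obtain ⟨k, U, y, hU, hxU, hC, hy, hconj⟩ := triangle_semisimple hg1' hu
  set H := H₀.map (MulAut.conj k⁻¹).toMonoidHom with hH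
  have hb : IsBin H := isBin_conj hb₀ k⁻¹
  have hodd : Odd (Nat.card H) := by rwa [hH, card_map_conj]
  set x := k⁻¹ * g * k
  have hxH : x ∈ H := mem_map_conj.2 (by simpa [x, mul_assoc] using hgH)
  have hx1 : x ≠ 1 := fun h => hg1' (by
    calc g = k * x * k⁻¹ := by simp only [x]; group
      _ = 1 := by rw [h]; group)
  set K := fixK H x with hK
  have hKH : K ≤ H := fun g hg => by
    simpa using conj_mem_of_fixK (a := (1 : G₀)) (by simpa using hxH) hg
  have hcomm : ∀ u ∈ U, u * x = x * u := fun u hu => cyc_centralizer hU hxU hx1 hu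
  have hUN : U ≤ Subgroup.normalizer (K : Set G₀) := by
    intro u hu
    rw [Subgroup.mem_normalizer_iff]
    refine fun g => ⟨fun hg => conj_mem_fixK_of_comm (hcomm u hu) hg, fun hg => ?_⟩
    have := conj_mem_fixK_of_comm (hcomm _ (inv_mem hu)) hg
    rwa [show u⁻¹ * (u * g * u⁻¹) * u⁻¹⁻¹ = g by group] at this
  have hne' : K ⊔ U ≠ ⊤ := by
    intro htop
    have hn : K.Normal := Subgroup.normalizer_eq_top_iff.1
      (eq_top_iff.2 (htop ▸ sup_le Subgroup.le_normalizer hUN))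
    rcases hn.eq_bot_or_eq_top with h | h
    · have := self_mem_fixK H x
      rw [← hK, h, Subgroup.mem_bot] at this
      exact hx1 this
    · apply hH₀
      apply Subgroup.eq_top_of_card_eq
      rw [← card_map_conj H₀ k⁻¹, ← hH, (eq_top_iff.2 (h ▸ hKH) : H = ⊤), Subgroup.card_top]
  have hoddK : ∀ z ∈ K, ¬ 2 ∣ orderOf z := fun z hz h =>
    Nat.not_even_iff_odd.2 (hodd.of_dvd_nat (Subgroup.orderOf_dvd_natCard H (hKH hz)))
      (even_iff_two_dvd.2 h)
  refine part_contra hb hU.mem_partSet hxU hx1 (fun z hz => ?_) hy hconj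
  rcases S2251.result hS.one_le hS.card _ hne' with ⟨P, hle⟩ | ⟨V, hVc, hVcard, hle⟩ |
    ⟨K', iK, iKF, j, hj1, hjm, hK', hdvd, S, ⟨e⟩, hle⟩
  · obtain ⟨c, hc⟩ := sylow_normalizer P
    have hzN := (hc z).2.1 (hle (le_sup_left (a := K) hz))
    have hxN := (hc x).2.1 (hle (le_sup_right (b := U) hxU))
    have hcomK : z * x * z⁻¹ * x⁻¹ ∈ K := by
      rw [show z * x * z⁻¹ * x⁻¹ = z * (x * z⁻¹ * x⁻¹) by group]
      exact mul_mem hz (conj_mem_fixK_of_comm rfl (inv_mem hz))
    have hcom := borel_commutator_mem hzN hxN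
    have e2 : c⁻¹ * (z * x * z⁻¹ * x⁻¹) * c = ⁅c⁻¹ * z * c, c⁻¹ * x * c⁆ := by
      rw [commutatorElement_def]; group
    rw [← e2, ← (hc _).1] at hcom
    obtain ⟨n, hn⟩ := two_pow_of_mem_sylow hcom
    rcases Nat.eq_zero_or_pos n with rfl | hn0
    · have h1 := orderOf_eq_one_iff.1 (hn.trans (pow_zero 2))
      rw [← hC, Subgroup.mem_centralizer_singleton_iff]
      calc z * x = (z * x * z⁻¹ * x⁻¹) * (x * z) := by group
        _ = x * z := by rw [h1, one_mul]
    · exact absurd (hn ▸ dvd_pow_self 2 hn0.ne') (hoddK _ hcomK)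
  · have hV : IsCycPart V := ⟨hVc, hVcard⟩
    have hxV : x ∈ V := hV.mem_of_odd (hle (le_sup_right (b := U) hxU))
      (fun h => hU.odd_card (h.trans (Subgroup.orderOf_dvd_natCard U hxU)))
    rw [part_eq_of_mem hU.mem_partSet hV.mem_partSet hxU hxV hx1]
    exact hV.mem_of_odd (hle (le_sup_left (a := K) hz)) (hoddK z hz)
  · exact (cyc_not_subfield hU hj1 hjm hK' hdvd e ((le_sup_right (b := U)).trans hle)).elim

/-- No torus part inside a binary stabiliser containing the centre of a Sylow subgroup. -/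
theorem no_torus {H : Subgroup G₀} (hb : IsBin H) (hH : H ≠ ⊤) (hZ : unipZ F m ≤ H) {a b : F}
    {l : Fˣ} (hh : gT a b * gD l ∈ H) (hl : l ≠ 1) : False := by
  classical
  have hHB := le_borel hH hZ
  -- conjugate to a torus element
  have hl2 : (l : F) ^ 2 + 1 ≠ 0 := fun h => hl (Units.ext (Suzuki.sq_eq_one
    (by linear_combination h - CharTwo.two_eq_zero (R := F))))
  set c := a / ((l : F) ^ 2 + 1)
  have hc : c * ((l : F) ^ 2 + 1) = a := div_mul_cancel₀ _ hl2
  obtain ⟨b', hb'⟩ : ∃ b' : F, (gT c 0 : G₀)⁻¹ * (gT a b * gD l) * gT c 0 = gT 0 b' * gD l := by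
    rw [show (gT c 0 : G₀)⁻¹ * (gT a b * gD l) * gT c 0 =
      (gT c 0 : G₀)⁻¹ * gT a b * (gD l * gT c 0 * (gD l)⁻¹) * gD l by group,
      gD_conj', gT_inv, gT_mul, gT_mul]
    rw [show c + a + (l : F) ^ 2 * c = 0 by
      linear_combination -hc + (c + (l : F) ^ 2 * c) * (CharTwo.two_eq_zero (R := F))]
    exact ⟨_, rfl⟩
  set μ := th F m (l : F) ^ 2 * (l : F) ^ 2
  have hμ : μ + 1 ≠ 0 := fun h => mu_ne_one hl
    (show μ = 1 by linear_combination h - CharTwo.two_eq_zero (R := F))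
  set e := b' / (μ + 1)
  have he : e * (μ + 1) = b' := div_mul_cancel₀ _ hμ
  set k : G₀ := gT c 0 * gT 0 e
  have hd : k⁻¹ * (gT a b * gD l) * k = gD l := by
    rw [show k⁻¹ * (gT a b * gD l) * k =
      (gT 0 e : G₀)⁻¹ * ((gT c 0)⁻¹ * (gT a b * gD l) * gT c 0) * gT 0 e by simp only [k]; group,
      hb', show (gT 0 e : G₀)⁻¹ * (gT 0 b' * gD l) * gT 0 e =
        (gT 0 e : G₀)⁻¹ * gT 0 b' * (gD l * gT 0 e * (gD l)⁻¹) * gD l by group,
      gD_conj', gT_inv, gT_mul, gT_mul]
    simp only [map_zero, zero_mul, mul_zero, add_zero]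
    rw [show e + b' + μ * e = 0 by
      linear_combination -he + (e + μ * e) * (CharTwo.two_eq_zero (R := F)), gT_zero, one_mul]
  set H' := H.map (MulAut.conj k⁻¹).toMonoidHom
  have hd' : gD l ∈ H' := mem_map_conj.2 (by rw [← hd]; group; exact hh)
  have hk : k • oInf F m = oInf F m := by
    simp only [k, mul_smul, gT_smul_oInf]
  have hB' : ∀ g ∈ H', g • oInf F m = oInf F m := by
    intro g hg
    have := hHB _ (mem_map_conj.1 hg)
    have hki : k⁻¹ • oInf F m = oInf F m := inv_smul_eq_iff.2 hk.symm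
    rw [inv_inv, mul_smul, mul_smul, hki, ← eq_inv_smul_iff, hki] at this
    exact this
  have hx1 : (gD l : G₀) ≠ 1 := fun h => hl (gD_inj (h.trans gD_one.symm))
  have hKT : ∀ g ∈ fixK H' (gD l), g ∈ torus F m := by
    intro g hg
    have h1 := hB' g (by simpa using conj_mem_of_fixK (a := (1 : G₀)) (by simpa using hd') hg)
    have hw : (gW F m)⁻¹ * gD l * gW F m ∈ H' := by
      rw [gW_inv, gW_mul_gD, mul_assoc, gW_mul_gW, mul_one, ← gD_inv]
      exact inv_mem hd'
    have h2 := hB' _ (conj_mem_of_fixK hw hg)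
    rw [mul_smul, mul_smul, gW_smul_oInf, inv_smul_eq_iff, gW_smul_oInf] at h2
    obtain ⟨l', rfl⟩ := eq_gD_of_fix h1 h2
    exact gD_mem_torus l'
  obtain ⟨T⟩ := SzChar.exists_table (F := F) (m := m)
  have hC := centralizer_torus_eq (gD_mem_torus (m := m) l) hx1
  obtain ⟨w, hw, hcard⟩ := (torus_isCycPart (F := F) (m := m)).card_normalizer
  obtain ⟨y, hy, hconj⟩ := exists_triangle (gD l : G₀)
    (Subgroup.normalizer (torus F m : Set G₀)) (by
      refine lt_of_lt_of_le ?_ (mul_le_mul_of_nonneg_left (N_split_ge T hl) (Nat.cast_nonneg _))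
      rw [hC, card_normalizer_torus, card_torus, card_sz_real, Nat.cast_mul,
        Nat.cast_sub Fintype.card_pos, Nat.cast_one, Nat.cast_ofNat, ← SzChar.rq]
      have hq := SzChar.Table.two_le_rq (F := F) (m := m)
      have h455 : (455 : ℝ) ≤ (SzChar.rq F ^ 2 + 1) * (SzChar.rq F - 1) := by
        nlinarith [show (65 : ℝ) ≤ SzChar.rq F ^ 2 + 1 by nlinarith]
      have hq2 : (0 : ℝ) < SzChar.rq F ^ 2 := by positivity
      nlinarith [mul_le_mul_of_nonneg_left h455 hq2.le])
  exact part_contra (isBin_conj hb k⁻¹) torus_isCycPart.mem_partSet (gD_mem_torus l) hx1 hKT hy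
    hconj

/-- Inside the Borel subgroup the stabiliser is the centre of the Sylow subgroup. -/
theorem borel_case {H : Subgroup G₀} (hb : IsBin H) (hH : H ≠ ⊤) (hZ : unipZ F m ≤ H) :
    H = unipZ F m := by
  classical
  have hHB := le_borel hH hZ
  refine le_antisymm (fun h hh => ?_) hZ
  obtain ⟨a, b, l, rfl⟩ := exists_gT_gD_of_fix (hHB h hh)
  by_cases hl : l = 1
  swap
  · exact (no_torus hb hH hZ hh hl).elim
  subst hl
  rw [gD_one, mul_one] at hh ⊢
  by_cases ha : a = 0
  · exact ⟨b, by rw [ha]⟩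
  exfalso
  -- every element of `H` is unipotent
  obtain ⟨y, hy, hconj⟩ := triangle_four (m := m) ha b
  rw [← normalizer_unip] at hy
  refine part_contra hb unip_part (gT_mem_unip a b) (SzChar.gT_ne_one_of_left ha b) (fun g hg => ?_) hy hconj
  have hgH : g ∈ H := by simpa using conj_mem_of_fixK (a := (1 : G₀)) (by simpa using hh) hg
  obtain ⟨a', b', l', rfl⟩ := exists_gT_gD_of_fix (hHB g hgH)
  by_cases hl' : l' = 1
  · rw [hl', gD_one, mul_one]; exact gT_mem_unip a' b'
  · exact (no_torus hb hH hZ hgH hl').elim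

/-- The binary coset actions. -/
theorem isBin_iff {H : Subgroup G₀} (hH : H ≠ ⊤) :
    IsBin H ↔ H = ⊥ ∨ ∃ k : G₀, H = (unipZ F m).map (MulAut.conj k).toMonoidHom := by
  classical
  constructor
  · intro hb
    by_cases hne : H = ⊥
    · exact Or.inl hne
    right
    rcases Nat.even_or_odd (Nat.card H) with hev | hodd
    swap
    · exact (odd_contra hb hne hodd hH).elim
    haveI := Fact.mk Nat.prime_two
    obtain ⟨⟨x, hxH⟩, hx⟩ := exists_prime_orderOf_dvd_card' (G := H) 2 hev.two_dvd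
    rw [Subgroup.orderOf_mk] at hx
    obtain ⟨k, hk⟩ := exists_conj_gT_one hx
    set H' := H.map (MulAut.conj k⁻¹).toMonoidHom with hH'
    have hx' : gT 0 1 ∈ H' := mem_map_conj.2 (by rw [← hk]; group; exact hxH)
    have hH'top : H' ≠ ⊤ := by
      intro h
      apply hH
      apply Subgroup.eq_top_of_card_eq
      rw [← card_map_conj H k⁻¹, ← hH', h, Subgroup.card_top]
    have hb' : IsBin H' := isBin_conj hb k⁻¹
    have e := borel_case hb' hH'top (unipZ_le hb' hH'top hx')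
    refine ⟨k, ?_⟩
    rw [← e, hH']
    ext g
    rw [mem_map_conj, mem_map_conj, inv_inv]
    group
  · rintro (rfl | ⟨k, rfl⟩)
    · exact isBin_bot
    · refine isBin_conj (involution_binary ?_ ?_) k
      · rintro _ ⟨c, rfl⟩
        rw [gT_mul, map_zero, zero_mul, add_zero, add_zero, CharTwo.add_self_eq_zero, gT_zero]
      · rintro u v ⟨c, rfl⟩ hu hv hc
        obtain ⟨a, b, rfl⟩ := centralizer_unip_le (gT_mem_unip 0 c) hu
          (Subgroup.mem_centralizer_singleton_iff.2 hc)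
        have ha : a = 0 := by
          by_contra ha
          have := orderOf_le_of_pow_eq_one two_pos (show (gT a b : G₀) ^ 2 = 1 by rw [pow_two, hv])
          rw [orderOf_gT ha] at this
          omega
        exact ⟨b, by rw [ha]⟩

end Cfsg.Agent.ClassicalMax.BinarySz
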