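import Cfsg.Agent.ClassicalMax.BinaryBasic
import Cfsg.Agent.S5892
import Cfsg.Agent.S5893
import Cfsg.Agent.PSLTwo25.DicksonPSL

/-!
# Tori of `PSL(2, F)` and their proper overgroups
-/

set_option autoImplicit false
set_option linter.unusedSectionVars false

namespace Cfsg.Agent.ClassicalMax.Binary

open Matrix Cfsg.Agent.Spec.Two Cfsg.Agent.RootSub.SL2Gen
open scoped MatrixGroups

variable {F : Type*} [Field F] [Fintype F]

local notation "L₂" => Matrix.ProjectiveSpecialLinearGroup (Fin 2) F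
local notation "M₂" => Matrix (Fin 2) (Fin 2) F
local notation "q" => Fintype.card F
local notation "d" => Nat.gcd 2 (Fintype.card F - 1)

theorem d_pos : 0 < d := Nat.gcd_pos_of_pos_left _ two_pos

theorem card_G : d * Nat.card L₂ = q * (q - 1) * (q + 1) := Linear.card_PSL_two_mul

theorem card_SL_eq : Nat.card SL(2, F) = d * Nat.card L₂ := by
  rw [card_G, Linear.card_SL_two]

theorem center_le_centralizer (X : SL(2, F)) :
    Subgroup.center SL(2, F) ≤ Subgroup.centralizer ({X} : Set SL(2, F)) := fun c hc =>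
  Subgroup.mem_centralizer_singleton_iff.2 (Subgroup.mem_center_iff.1 hc X).symm

/-- The image in `PSL(2, F)` of a centraliser in `SL(2, F)`. -/
def torG (X : SL(2, F)) : Subgroup L₂ := (Subgroup.centralizer ({X} : Set SL(2, F))).map π

theorem comap_torG (X : SL(2, F)) :
    (torG X).comap π = Subgroup.centralizer ({X} : Set SL(2, F)) := by
  rw [torG, Subgroup.comap_map_eq, QuotientGroup.ker_mk', sup_eq_left]
  exact center_le_centralizer X

theorem self_mem_torG (X : SL(2, F)) : π X ∈ torG X :=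
  Subgroup.mem_map_of_mem _ (Subgroup.mem_centralizer_singleton_iff.2 rfl)

theorem card_torG {X : SL(2, F)} (ht : (X : M₂).trace ^ 2 ≠ 4) :
    d * Nat.card (torG X) = q - 1 ∨ d * Nat.card (torG X) = q + 1 := by
  have h : d * Nat.card (torG X) = Nat.card (Subgroup.centralizer ({X} : Set SL(2, F))) := by
    have h1 := (Subgroup.centralizer ({X} : Set SL(2, F))).card_mul_index
    have h2 := (torG X).card_mul_index
    rw [← comap_torG X, Subgroup.index_comap_of_surjective _ π_surjective, comap_torG X,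
      card_SL_eq, ← h2, ← mul_assoc] at h1
    exact (Nat.eq_of_mul_eq_mul_right (Nat.pos_of_ne_zero Subgroup.index_ne_zero_of_finite) h1).symm
  rw [h, card_centralizer_eq X (ns_of_trace_sq X.2 ht)]
  by_cases hr : ∃ r : F, r ^ 2 - (X : M₂).trace * r + 1 = 0
  · obtain ⟨r, hr⟩ := hr
    exact Or.inl (card_qf_split hr ht)
  · push Not at hr
    exact Or.inr (card_qf_nonsplit hr)

theorem isCyclic_torG {X : SL(2, F)} (ht : (X : M₂).trace ^ 2 ≠ 4) : IsCyclic (torG X) := by
  have := isCyclic_centralizer X ht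
  exact isCyclic_of_surjective _ ((π (F := F)).subgroupMap_surjective _)

theorem torG_comm {X : SL(2, F)} (ht : (X : M₂).trace ^ 2 ≠ 4) {a b : L₂} (ha : a ∈ torG X)
    (hb : b ∈ torG X) : a * b = b * a := by
  have := isCyclic_torG ht
  have h : (⟨a, ha⟩ : torG X) * ⟨b, hb⟩ = ⟨b, hb⟩ * ⟨a, ha⟩ :=
    (IsCyclic.commutative (α := torG X)).is_comm.comm _ _
  exact congrArg Subtype.val h

theorem trace_ne_zero_of_orderOf {X : SL(2, F)} (h : 2 < orderOf (π X)) :
    (X : M₂).trace ≠ 0 ∨ (2 : F) = 0 := by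
  left
  intro ht
  have h1 : π X * π X = 1 := by
    have e : π X⁻¹ = π X := π_eq_iff.2 ⟨-1, by ring, by
      rw [coe_inv_eq, ht, zero_smul, zero_sub, smul_neg, neg_one_smul, neg_neg]⟩
    conv_lhs => arg 1; rw [← e]
    rw [map_inv, inv_mul_cancel]
  have := orderOf_le_of_pow_eq_one two_pos (by rw [pow_two, h1] : π X ^ 2 = 1)
  omega

theorem centralizer_π {X : SL(2, F)} (h : (X : M₂).trace ≠ 0 ∨ (2 : F) = 0) :
    Subgroup.centralizer ({π X} : Set L₂) = torG X := by
  rw [torG, ← comap_eq_of X h, Subgroup.map_comap_eq_self_of_surjective π_surjective]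

/-- An element of order `> 2` of a torus has the torus as its centraliser. -/
theorem centralizer_of_mem_torG {X : SL(2, F)} (ht : (X : M₂).trace ^ 2 ≠ 4) {z : L₂}
    (hz : z ∈ torG X) (h2 : 2 < orderOf z) : Subgroup.centralizer ({z} : Set L₂) = torG X := by
  obtain ⟨Z, hZ, rfl⟩ := hz
  have hne : π Z ≠ 1 := fun h => by rw [h, orderOf_one] at h2; omega
  rw [centralizer_π (trace_ne_zero_of_orderOf h2), torG, torG,
    centralizer_eq_of_commute X Z (ns_of_trace_sq X.2 ht) (ns_of_π_ne_one hne)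
      (Subgroup.mem_centralizer_singleton_iff.1 hZ)]

theorem trace_sq_ne_four {X : SL(2, F)} (h1 : π X ≠ 1) (hco : (orderOf (π X)).Coprime q) :
    (X : M₂).trace ^ 2 ≠ 4 := by
  classical
  intro ht
  have hns := ns_of_π_ne_one h1
  have hcond : (X : M₂).trace ≠ 0 ∨ (2 : F) = 0 := by
    by_cases h2 : (2 : F) = 0
    · exact Or.inr h2
    · left; intro h0
      rw [h0] at ht
      exact h2 (pow_eq_zero_iff two_ne_zero |>.1 (by linear_combination -ht : (2 : F) ^ 2 = 0))
  have h := index_mul X hns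
  rw [if_pos hcond, one_mul, card_qf_parabolic ht] at h
  have hd : Nat.card {s : F // s ^ 2 = 1} = d := by
    rw [card_sq_one]
    rcases Nat.even_or_odd q with he | ho
    · rw [if_pos (two_eq_zero_iff.2 he.two_dvd), Linear.gcd_two_of_even he]
    · rw [if_neg fun h => Nat.not_even_iff_odd.2 ho (even_iff_two_dvd.2 (two_eq_zero_iff.1 h)),
        Linear.gcd_two_of_odd ho]
  rw [hd, ← card_G, ← Subgroup.card_mul_index (Subgroup.centralizer ({π X} : Set L₂))] at h
  have hC : Nat.card (Subgroup.centralizer ({π X} : Set L₂)) = q := by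
    set C := Subgroup.centralizer ({π X} : Set L₂)
    have hi : 0 < d * C.index :=
      Nat.mul_pos d_pos (Nat.pos_of_ne_zero Subgroup.index_ne_zero_of_finite)
    refine Nat.eq_of_mul_eq_mul_left hi ?_
    calc d * C.index * Nat.card C = d * (Nat.card C * C.index) := by ring
      _ = C.index * (d * q) := h.symm
      _ = d * C.index * q := by ring
  have hord : orderOf (π X) ∣ q := hC ▸ Subgroup.orderOf_dvd_natCard _
    (Subgroup.mem_centralizer_singleton_iff.2 rfl)
  have h5 := Nat.Coprime.eq_one_of_dvd hco hord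
  exact h1 (orderOf_eq_one_iff.1 h5)

/-- The upper unitriangular subgroup. -/
def upG (F : Type*) [Field F] : Subgroup (Matrix.ProjectiveSpecialLinearGroup (Fin 2) F) where
  carrier := Set.range upP
  one_mem' := ⟨0, upP_zero⟩
  mul_mem' := by rintro _ _ ⟨a, rfl⟩ ⟨b, rfl⟩; exact ⟨a + b, (upP_add a b).symm⟩
  inv_mem' := by rintro _ ⟨a, rfl⟩; exact ⟨-a, (upP_inv a).symm⟩

theorem card_upG : Nat.card (upG F) = q := by
  rw [← Nat.card_eq_fintype_card (α := F)]
  exact (Nat.card_congr (Equiv.ofInjective upP fun a b => upP_inj)).symm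

theorem card_dvd_of_isPGroup {p f : ℕ} [Fact p.Prime] (hq : q = p ^ f) (hf : 0 < f)
    {P : Subgroup L₂} (hP : IsPGroup p P) : Nat.card P ∣ q := by
  obtain ⟨a, ha⟩ := IsPGroup.iff_card.1 hP
  have hp := (Fact.out : p.Prime)
  have hdvd : Nat.card P ∣ q * ((q - 1) * (q + 1)) := by
    rw [← mul_assoc, ← card_G]
    exact Dvd.dvd.mul_left (Subgroup.card_subgroup_dvd_card P) d
  refine Nat.Coprime.dvd_of_dvd_mul_right ?_ hdvd
  rw [ha]
  refine Nat.Coprime.pow_left _ (Nat.Coprime.mul_right ?_ ?_) <;> rw [hp.coprime_iff_not_dvd] <;>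
    intro h <;> have hpq : p ∣ q := hq ▸ dvd_pow_self p hf.ne'
  · have h' := Nat.dvd_sub hpq h
    rw [Nat.sub_sub_self Fintype.card_pos] at h'
    exact hp.not_dvd_one h'
  · exact hp.not_dvd_one ((Nat.dvd_add_right hpq).1 h)

/-- A subgroup of order divisible by `q` contains a conjugate of `upG`. -/
theorem exists_upP_mem {M : Subgroup L₂} (h : q ∣ Nat.card M) :
    ∃ a : L₂, ∀ b : F, a * upP b * a⁻¹ ∈ M := by
  obtain ⟨p, hp⟩ := CharP.exists F
  obtain ⟨f, hpp, hq⟩ := FiniteField.card F p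
  haveI := Fact.mk hpp
  obtain ⟨K, hK⟩ := Sylow.exists_subgroup_card_pow_prime (G := M) p (n := (f : ℕ)) (hq ▸ h)
  set K' := K.map M.subtype with hK'
  have hK'c : Nat.card K' = q := by
    rw [hK', Subgroup.card_map_of_injective M.subtype_injective, hK, hq]
  obtain ⟨Q, hQ⟩ := (IsPGroup.of_card (hK'c.trans hq)).exists_le_sylow
  obtain ⟨P, hP⟩ := (IsPGroup.of_card ((card_upG (F := F)).trans hq)).exists_le_sylow
  have hQeq : (Q : Subgroup L₂) = K' := (Subgroup.eq_of_le_of_card_ge hQ
    (hK'c ▸ Nat.le_of_dvd Fintype.card_pos (card_dvd_of_isPGroup hq f.pos Q.isPGroup'))).symm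
  have hPeq : (P : Subgroup L₂) = upG F := (Subgroup.eq_of_le_of_card_ge hP
    (card_upG (F := F) ▸ Nat.le_of_dvd Fintype.card_pos (card_dvd_of_isPGroup hq f.pos P.isPGroup'))).symm
  obtain ⟨a, ha⟩ := MulAction.exists_smul_eq L₂ P Q
  refine ⟨a, fun b => ?_⟩
  have hmem : a * upP b * a⁻¹ ∈ (Q : Subgroup L₂) := by
    rw [← ha, Sylow.coe_subgroup_smul, Subgroup.mem_pointwise_smul_iff_inv_smul_mem]
    simp only [MulAut.smul_def, ← map_inv, MulAut.conj_apply, hPeq]
    exact ⟨b, by group⟩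
  rw [hQeq] at hmem
  exact Subgroup.map_subtype_le K hmem

/-- A proper overgroup of a torus normalises it or has the order of a Borel subgroup. -/
theorem max_torus (h4 : 4 ≤ q) {X : SL(2, F)} (ht : (X : M₂).trace ^ 2 ≠ 4)
    (h3 : 3 ≤ Nat.card (torG X)) (hsize : Even q ∨ 6 ≤ Nat.card (torG X))
    {M : Subgroup L₂} (hM : IsCoatom M) (hTM : torG X ≤ M) :
    M ≤ Subgroup.normalizer (torG X : Set L₂) ∨ d * Nat.card M = q * (q - 1) := by
  classical
  haveI := isCyclic_torG ht
  obtain ⟨τ, hτ⟩ := IsCyclic.exists_ofOrder_eq_natCard (α := torG X)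
  rw [← Subgroup.orderOf_coe] at hτ
  set z : L₂ := (τ : L₂) with hz
  have hzM : z ∈ M := hTM τ.2
  have hC := centralizer_of_mem_torG ht τ.2 (show 2 < orderOf z by omega)
  have hord : orderOf (⟨z, hzM⟩ : M) = Nat.card (torG X) := by rw [Subgroup.orderOf_mk, hτ]
  -- dihedral subgroups
  have dih : ∀ k : ℕ, Nonempty (M ≃* DihedralGroup k) →
      M ≤ Subgroup.normalizer (torG X : Set L₂) := by
    rintro k ⟨e⟩
    obtain ⟨i, hi⟩ : ∃ i, e ⟨z, hzM⟩ = DihedralGroup.r i := by
      cases hez : e ⟨z, hzM⟩ with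
      | r i => exact ⟨i, rfl⟩
      | sr i =>
        exfalso
        have h2 := DihedralGroup.orderOf_sr i
        rw [← hez, MulEquiv.orderOf_eq, hord] at h2
        omega
    have hiff : ∀ u : M, (u : L₂) ∈ torG X ↔ e u * DihedralGroup.r i = DihedralGroup.r i * e u := by
      intro u
      rw [← hC, Subgroup.mem_centralizer_singleton_iff, ← hi, ← map_mul, ← map_mul, e.injective.eq_iff,
        Subtype.ext_iff]
      rfl
    have hrot : ∀ u : M, (u : L₂) ∈ torG X → ∃ j, e u = DihedralGroup.r j := by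
      intro u hu
      cases hu' : e u with
      | r j => exact ⟨j, rfl⟩
      | sr j =>
        exfalso
        have h := (hiff u).1 hu
        rw [hu', DihedralGroup.sr_mul_r, DihedralGroup.r_mul_sr] at h
        have h' : j + i = j - i := DihedralGroup.sr.inj h
        have h2 : i + i = 0 := by linear_combination h'
        have hsq : DihedralGroup.r i ^ 2 = 1 := by
          rw [pow_two, DihedralGroup.r_mul_r, h2, DihedralGroup.r_zero]
        have := orderOf_le_of_pow_eq_one two_pos hsq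
        rw [← hi, MulEquiv.orderOf_eq, hord] at this
        omega
    intro g hg
    have hnorm : ∀ u : L₂, u ∈ torG X → ∀ g ∈ M, g * u * g⁻¹ ∈ torG X := by
      intro u hu g hg
      refine (hiff ⟨g * u * g⁻¹, mul_mem (mul_mem hg (hTM hu)) (inv_mem hg)⟩).2 ?_
      obtain ⟨j, hj⟩ := hrot ⟨u, hTM hu⟩ hu
      have e1 : (⟨g * u * g⁻¹, mul_mem (mul_mem hg (hTM hu)) (inv_mem hg)⟩ : M) =
          ⟨g, hg⟩ * ⟨u, hTM hu⟩ * (⟨g, hg⟩ : M)⁻¹ := rfl
      rw [e1, map_mul, map_mul, map_inv, hj]
      cases e (⟨g, hg⟩ : M) <;> simp [DihedralGroup.r_mul_r, DihedralGroup.sr_mul_r,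
        DihedralGroup.sr_mul_sr, add_comm, add_left_comm, sub_eq_add_neg]
    rw [Subgroup.mem_normalizer_iff]
    intro u
    refine ⟨fun hu => hnorm u hu g hg, fun hu => ?_⟩
    have := hnorm _ hu g⁻¹ (inv_mem hg)
    rwa [show g⁻¹ * (g * u * g⁻¹) * g⁻¹⁻¹ = u by group] at this
  have hcard := card_torG ht
  have small : ∀ {Y : Type} [Group Y] (B : ℕ), (∀ y : Y, orderOf y ≤ B) → Nonempty (M ≃* Y) →
      Nat.card (torG X) ≤ B := by
    intro Y _ B hB ⟨e⟩
    rw [← hord, ← MulEquiv.orderOf_eq e]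
    exact hB _
  rcases Nat.even_or_odd q with he | ho
  · have hd1 : d = 1 := Linear.gcd_two_of_even he
    rw [hd1, one_mul] at hcard
    rcases S5893.result he h4 M hM with h | h | h | ⟨F₀, iF, iFF, r, hr, hne, hc, ⟨e⟩⟩
    · exact Or.inr (by rw [hd1, one_mul, h])
    · exact Or.inl (dih _ h)
    · exact Or.inl (dih _ h)
    · exfalso
      have hb := small (Fintype.card F₀ + 1) (fun y => by
        rw [← orderOf_injective Matrix.ProjectiveSpecialLinearGroup.toPGL
          Matrix.ProjectiveSpecialLinearGroup.toPGL_injective y]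
        exact PSLTwo25.DicksonPSL.orderOf_le_card_succ _) ⟨e⟩
      have h0 := Fintype.one_lt_card (α := F₀)
      have h2 : Fintype.card F₀ ^ 2 ≤ q := hc ▸ Nat.pow_le_pow_right (by omega) hr.two_le
      have heven : Even (Fintype.card F₀) := (Nat.even_pow.1 (hc ▸ he)).1
      obtain ⟨k, hk⟩ := heven
      have : 4 * Fintype.card F₀ ≤ Fintype.card F₀ ^ 2 := by
        rw [pow_two]; exact Nat.mul_le_mul_right _ (by omega)
      omega
  · have h6 : 6 ≤ Nat.card (torG X) := hsize.resolve_left (fun h => Nat.not_even_iff_odd.2 ho h)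
    have hd2 : d = 2 := Linear.gcd_two_of_odd ho
    rw [hd2] at hcard
    obtain ⟨p, hp⟩ := CharP.exists F
    obtain ⟨f, hpp, hq⟩ := FiniteField.card F p
    haveI := Fact.mk hpp
    rcases S5892.result p ho (by omega) M hM with h | ⟨-, k, -, h⟩ | ⟨-, -, k, -, h⟩ |
      ⟨F₀, iF, iFF, hc, ⟨e⟩⟩ | ⟨F₀, iF, iFF, r, hr, hrodd, hc, ⟨e⟩⟩ | ⟨-, -, h⟩ | ⟨-, -, -, h⟩ |
      ⟨-, -, h⟩
    · exact Or.inr (by rw [hd2]; exact h)
    · exact Or.inl (dih _ h)
    · exact Or.inl (dih _ h)
    · exfalso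
      have hb := small (Fintype.card F₀ + 1) (fun y => PSLTwo25.DicksonPSL.orderOf_le_card_succ y) ⟨e⟩
      have h0 := Fintype.one_lt_card (α := F₀)
      rw [hc, pow_two] at hcard
      have : 5 * Fintype.card F₀ ≤ Fintype.card F₀ * Fintype.card F₀ :=
        Nat.mul_le_mul_right _ (by omega)
      omega
    · exfalso
      have hb := small (Fintype.card F₀ + 1) (fun y => by
        rw [← orderOf_injective Matrix.ProjectiveSpecialLinearGroup.toPGL
          Matrix.ProjectiveSpecialLinearGroup.toPGL_injective y]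
        exact PSLTwo25.DicksonPSL.orderOf_le_card_succ _) ⟨e⟩
      have h3r : 3 ≤ r := by
        rcases hrodd with ⟨j, hj⟩
        have := hr.two_le
        omega
      have h2 : Fintype.card F₀ ^ 3 ≤ q := hc ▸ Nat.pow_le_pow_right (by omega) h3r
      have : 25 * Fintype.card F₀ ≤ Fintype.card F₀ ^ 3 := by
        rw [pow_succ]
        exact Nat.mul_le_mul_right _ (Nat.pow_le_pow_left (by omega : 5 ≤ Fintype.card F₀) 2)
      omega
    · have := small 5 PSLTwo25.DicksonPSL.orderOf_alt_five h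
      omega
    · have := small 3 PSLTwo25.DicksonPSL.orderOf_alt_four h
      omega
    · have := small 4 PSLTwo25.DicksonPSL.orderOf_perm_four h
      omega

end Cfsg.Agent.ClassicalMax.Binary
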