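import Mathlib

set_option autoImplicit false
set_option linter.style.haveILetI false

namespace Cfsg.Agent.ClassicalMax

open MulAction

variable {G Ω : Type*} [Group G] [Finite G] [MulAction G Ω] [Fintype Ω]

omit [Fintype Ω] in
/-- Orbits of a Sylow subgroup in a transitive action absorb the p-part of the degree. -/
lemma pow_dvd_sylow_orbit (htr : IsPretransitive G Ω) {p : ℕ} [Fact p.Prime]
    (P : Sylow p G) {k : ℕ} (hk : p ^ k ∣ Nat.card Ω) (ω : Ω) :
    p ^ k ∣ (stabilizer (P : Subgroup G) ω).index := by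
  have hp : p.Prime := Fact.out
  haveI := htr
  set S := stabilizer (P : Subgroup G) ω
  obtain ⟨b, hb⟩ := IsPGroup.iff_card.mp (P.2.to_subgroup S)
  have hle : S.map (P : Subgroup G).subtype ≤ stabilizer G ω := by
    rintro x ⟨y, hy, rfl⟩
    exact hy
  have h1 : Nat.card S ∣ Nat.card (stabilizer G ω) := by
    have := Subgroup.card_dvd_of_le hle
    rwa [Subgroup.card_map_of_injective (Subgroup.subtype_injective _)] at this
  have h2 : p ^ (b + k) ∣ Nat.card G := by
    rw [← Subgroup.card_mul_index (stabilizer G ω), index_stabilizer_of_transitive, pow_add]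
    exact mul_dvd_mul (hb ▸ h1) hk
  have h3 : p ^ (b + k) ∣ Nat.card (P : Subgroup G) := by
    rw [P.card_eq_multiplicity]
    exact pow_dvd_pow p ((hp.pow_dvd_iff_le_factorization Nat.card_pos.ne').mp h2)
  rw [← Subgroup.card_mul_index S, hb, pow_add] at h3
  exact Nat.dvd_of_mul_dvd_mul_left (pow_pos hp.pos b) h3

/-- A transitive action of prime power degree has a fixed-point-free element of order p. -/
theorem exists_derangement_prime_pow [FaithfulSMul G Ω] (htr : IsPretransitive G Ω) {p k : ℕ}
    [Fact p.Prime] (hk : 1 ≤ k) (hΩ : Fintype.card Ω = p ^ k) :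
    ∃ g : G, orderOf g = p ∧ ∀ ω : Ω, g • ω ≠ ω := by
  have hp : p.Prime := Fact.out
  haveI := htr
  obtain ⟨P⟩ : Nonempty (Sylow p G) := inferInstance
  have htrP : ∀ ω ω' : Ω, ∃ g : (P : Subgroup G), g • ω = ω' := by
    intro ω ω'
    have h := pow_dvd_sylow_orbit htr P (k := k) (by rw [Nat.card_eq_fintype_card, hΩ]) ω
    rw [index_stabilizer] at h
    have hpos : 0 < (orbit (P : Subgroup G) ω).ncard :=
      (Set.ncard_pos (Set.toFinite _)).mpr ⟨ω, mem_orbit_self ω⟩
    have hge := Nat.le_of_dvd hpos h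
    have heq : orbit (P : Subgroup G) ω = Set.univ := by
      refine Set.eq_of_subset_of_ncard_le (Set.subset_univ _) ?_ (Set.toFinite _)
      rw [Set.ncard_univ, Nat.card_eq_fintype_card, hΩ]
      exact hge
    have hmem : ω' ∈ orbit (P : Subgroup G) ω := by rw [heq]; exact Set.mem_univ _
    exact hmem
  haveI : Nontrivial (P : Subgroup G) := by
    haveI : Nontrivial Ω := Fintype.one_lt_card_iff_nontrivial.mp
      (by rw [hΩ]; exact Nat.one_lt_pow (by omega) hp.one_lt)
    obtain ⟨a, b, hab⟩ := exists_pair_ne Ω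
    obtain ⟨g, hg⟩ := htrP a b
    exact ⟨⟨g, 1, fun h => hab (by rw [← hg, h, one_smul])⟩⟩
  haveI : Nontrivial (Subgroup.center (P : Subgroup G)) := P.2.center_nontrivial
  obtain ⟨n, hn, hcard⟩ := (P.2.to_subgroup (Subgroup.center (P : Subgroup G))).nontrivial_iff_card.mp
    inferInstance
  obtain ⟨z, hz⟩ := exists_prime_orderOf_dvd_card' (G := Subgroup.center (P : Subgroup G)) p
    (by rw [hcard]; exact dvd_pow_self p hn.ne')
  refine ⟨((z : (P : Subgroup G)) : G), by rw [Subgroup.orderOf_coe, Subgroup.orderOf_coe, hz], ?_⟩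
  intro ω hω
  have hz1 : ((z : (P : Subgroup G)) : G) = 1 := by
    apply eq_of_smul_eq_smul (α := Ω)
    intro ω'
    obtain ⟨g, rfl⟩ := htrP ω ω'
    have hcomm : ((z : (P : Subgroup G)) : G) * (g : G) = (g : G) * ((z : (P : Subgroup G)) : G) := by
      have := Subgroup.mem_center_iff.mp z.2 g
      exact (congrArg Subtype.val this).symm
    rw [one_smul, Subgroup.smul_def, ← mul_smul, hcomm, mul_smul, hω]
  have : orderOf z = 1 := by
    rw [← Subgroup.orderOf_coe, ← Subgroup.orderOf_coe, hz1, orderOf_one]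
  rw [hz] at this
  exact hp.ne_one this

/-- A transitive action of degree m * p with 1 ≤ m ≤ p has a fixed-point-free element of order p. -/
theorem exists_derangement_small_multiple [FaithfulSMul G Ω] (htr : IsPretransitive G Ω) {p m : ℕ}
    [Fact p.Prime] (hm : 1 ≤ m) (hmp : m ≤ p) (hΩ : Fintype.card Ω = m * p) :
    ∃ g : G, orderOf g = p ∧ ∀ ω : Ω, g • ω ≠ ω := by
  classical
  have hp : p.Prime := Fact.out
  rcases eq_or_lt_of_le hmp with rfl | hlt
  · exact exists_derangement_prime_pow htr (k := 2) (by norm_num) (by rw [hΩ]; ring)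
  obtain ⟨P⟩ : Nonempty (Sylow p G) := inferInstance
  let S : Ω → Subgroup (P : Subgroup G) := fun ω => stabilizer (P : Subgroup G) ω
  have hidx : ∀ ω, (S ω).index = p := by
    intro ω
    obtain ⟨e, he⟩ := P.2.index (S ω)
    have hdvd : p ^ 1 ∣ (S ω).index :=
      pow_dvd_sylow_orbit htr P (by rw [Nat.card_eq_fintype_card, hΩ, pow_one]; exact dvd_mul_left p m) ω
    have hle : (S ω).index ≤ m * p := by
      rw [index_stabilizer, ← hΩ, ← Nat.card_eq_fintype_card, ← Set.ncard_univ]
      exact Set.ncard_le_ncard (Set.subset_univ _) (Set.toFinite _)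
    rw [he] at hdvd hle ⊢
    have h1 : 1 ≤ e := Nat.pow_dvd_pow_iff_le_right hp.one_lt |>.mp hdvd
    have h2 : e < 2 := by
      by_contra hc
      have : p ^ 2 ≤ p ^ e := Nat.pow_le_pow_right hp.pos (by omega)
      nlinarith [hp.pos]
    obtain rfl : e = 1 := by omega
    simp
  haveI hnormal : ∀ ω, (S ω).Normal := by
    intro ω
    have hne : (S ω) ≠ ⊤ := by
      intro h
      have := hidx ω
      rw [h, Subgroup.index_top] at this
      exact hp.ne_one this.symm
    apply Subgroup.normal_of_index_eq_minFac_card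
    rw [hidx ω]
    obtain ⟨n, hn⟩ := IsPGroup.iff_card.mp P.2
    rw [hn, hp.pow_minFac]
    rintro rfl
    have hdiv : p ∣ p ^ 0 := by
      rw [← hn]
      conv_lhs => rw [← hidx ω]
      exact (S ω).index_dvd_card
    exact hp.one_lt.ne' (Nat.dvd_one.mp (by simpa using hdiv))
  have hconst : ∀ (g : (P : Subgroup G)) (ω : Ω), S (g • ω) = S ω := by
    intro g ω
    show stabilizer (P : Subgroup G) (g • ω) = S ω
    rw [stabilizer_smul_eq_stabilizer_map_conj]
    exact (Subgroup.normal_iff_map_conj_eq.mp (hnormal ω)) g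
  -- one representative per orbit
  let Q := orbitRel.Quotient (P : Subgroup G) Ω
  haveI : Fintype Q := Fintype.ofFinite _
  have hQ : Fintype.card Q = m := by
    have h := MulAction.selfEquivSigmaOrbits (P : Subgroup G) Ω
    have h2 : Fintype.card Ω = ∑ q : Q, Nat.card (orbit (P : Subgroup G) q.out) := by
      rw [← Nat.card_eq_fintype_card, Nat.card_congr h, Nat.card_sigma]
    have h3 : ∀ q : Q, Nat.card (orbit (P : Subgroup G) q.out) = p := by
      intro q
      rw [Nat.card_coe_set_eq, ← index_stabilizer]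
      exact hidx _
    simp only [h3, Finset.sum_const, Finset.card_univ, smul_eq_mul, hΩ] at h2
    exact (Nat.eq_of_mul_eq_mul_right hp.pos h2).symm
  haveI : Fintype (P : Subgroup G) := Fintype.ofFinite _
  let B : Finset (P : Subgroup G) :=
    Finset.univ.biUnion fun q : Q => Finset.univ.filter (fun g => g ∈ S q.out)
  have hB : B.card < Fintype.card (P : Subgroup G) := by
    have hpiece : ∀ q : Q, p * (Finset.univ.filter (fun g => g ∈ S q.out)).card
        = Fintype.card (P : Subgroup G) := by
      intro q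
      rw [← Nat.card_eq_fintype_card, ← Subgroup.card_mul_index (S q.out), hidx, mul_comm]
      congr 1
      rw [Nat.card_eq_fintype_card, ← Fintype.card_subtype]
    have hmul : p * B.card ≤ m * Fintype.card (P : Subgroup G) := by
      calc p * B.card ≤ p * ∑ q : Q, (Finset.univ.filter (fun g => g ∈ S q.out)).card :=
            Nat.mul_le_mul_left _ Finset.card_biUnion_le
        _ = m * Fintype.card (P : Subgroup G) := by
            rw [Finset.mul_sum]
            simp only [hpiece, Finset.sum_const, Finset.card_univ, smul_eq_mul, hQ]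
    have hlt' : m * Fintype.card (P : Subgroup G) < p * Fintype.card (P : Subgroup G) :=
      Nat.mul_lt_mul_of_pos_right hlt Fintype.card_pos
    exact lt_of_mul_lt_mul_left (hmul.trans_lt hlt') (Nat.zero_le _)
  obtain ⟨g, hg⟩ : ∃ g, g ∉ B := by
    by_contra h
    push Not at h
    exact hB.ne (by rw [Finset.eq_univ_of_forall h, Finset.card_univ])
  have hgne : ∀ ω : Ω, g ∉ S ω := by
    intro ω hω
    obtain ⟨x, hx⟩ : (⟦ω⟧ : Q).out ∈ orbit (P : Subgroup G) ω := Quotient.mk_out (s := orbitRel _ Ω) ω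
    apply hg
    refine Finset.mem_biUnion.mpr ⟨⟦ω⟧, Finset.mem_univ _, Finset.mem_filter.mpr ⟨Finset.mem_univ _, ?_⟩⟩
    have hx' : x • ω = (⟦ω⟧ : Q).out := hx
    rw [← hx', hconst]
    exact hω
  refine ⟨(g : G), ?_, fun ω => hgne ω⟩
  haveI : Nontrivial Ω := Fintype.one_lt_card_iff_nontrivial.mp (by
    rw [hΩ]; exact lt_of_lt_of_le hp.one_lt (Nat.le_mul_of_pos_left _ hm))
  refine orderOf_eq_prime ?_ ?_
  · apply eq_of_smul_eq_smul (α := Ω)
    intro ω
    have hmem : g ^ p ∈ S ω := by simpa [hidx ω] using (S ω).pow_index_mem g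
    rw [one_smul]
    exact hmem
  · intro h1
    obtain ⟨ω, -⟩ := exists_pair_ne Ω
    exact hgne ω (by show g • ω = ω; rw [Subgroup.smul_def, h1, one_smul])

end Cfsg.Agent.ClassicalMax
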