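import Mathlib

/-!
Data for a subgroup isomorphic to `L_2(11)` of `SU_5(2)`.
-/

set_option autoImplicit false

namespace Cfsg.Agent.ClassicalMax.SUFive

open Matrix

/-- The field with four elements. -/
abbrev E := QuadraticAlgebra (ZMod 2) 1 1

/-- An element from a code. -/
def e (a : ℕ) : E := ⟨(a % 2 : ℕ), (a / 2 % 2 : ℕ)⟩

/-- Conjugation. -/
def cj (z : E) : E := ⟨z.re + z.im, z.im⟩

/-- A vector from a code. -/
def vv (c : ℕ) (i : Fin 5) : E := e (c / 4 ^ (i : ℕ) % 4)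

/-- Powers of an element of order eleven. -/
def gp : Fin 11 → Matrix (Fin 5) (Fin 5) E :=
  ![!![e 1, e 0, e 0, e 0, e 0; e 0, e 1, e 0, e 0, e 0; e 0, e 0, e 1, e 0, e 0; e 0, e 0, e 0, e 1, e 0; e 0, e 0, e 0, e 0, e 1],
    !![e 3, e 3, e 2, e 3, e 1; e 2, e 1, e 2, e 1, e 2; e 3, e 3, e 1, e 1, e 1; e 3, e 3, e 1, e 3, e 2; e 2, e 3, e 3, e 2, e 3],
    !![e 2, e 1, e 2, e 3, e 2; e 2, e 3, e 3, e 2, e 1; e 1, e 2, e 3, e 1, e 2; e 1, e 1, e 3, e 1, e 3; e 2, e 3, e 1, e 1, e 1],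
    !![e 3, e 2, e 1, e 3, e 2; e 1, e 2, e 0, e 2, e 0; e 2, e 1, e 2, e 2, e 2; e 1, e 1, e 0, e 3, e 0; e 2, e 1, e 1, e 2, e 3],
    !![e 3, e 0, e 1, e 0, e 1; e 1, e 0, e 3, e 0, e 1; e 0, e 1, e 0, e 0, e 0; e 3, e 0, e 3, e 0, e 2; e 0, e 0, e 0, e 1, e 0],
    !![e 3, e 2, e 3, e 1, e 1; e 3, e 2, e 2, e 2, e 1; e 2, e 1, e 2, e 1, e 2; e 3, e 1, e 3, e 2, e 1; e 3, e 3, e 1, e 3, e 2],
    !![e 2, e 2, e 3, e 2, e 2; e 3, e 3, e 1, e 1, e 2; e 2, e 3, e 3, e 2, e 1; e 1, e 3, e 1, e 3, e 2; e 1, e 1, e 3, e 1, e 3],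
    !![e 2, e 1, e 0, e 2, e 0; e 0, e 0, e 1, e 0, e 0; e 1, e 2, e 0, e 2, e 0; e 0, e 0, e 0, e 0, e 1; e 1, e 1, e 0, e 3, e 0],
    !![e 2, e 1, e 3, e 1, e 3; e 3, e 3, e 1, e 1, e 1; e 1, e 0, e 3, e 0, e 1; e 2, e 3, e 3, e 2, e 3; e 3, e 0, e 3, e 0, e 2],
    !![e 3, e 3, e 1, e 1, e 3; e 1, e 2, e 3, e 1, e 2; e 3, e 2, e 2, e 2, e 1; e 2, e 3, e 1, e 1, e 1; e 3, e 1, e 3, e 2, e 1],
    !![e 2, e 3, e 2, e 2, e 3; e 2, e 1, e 2, e 2, e 2; e 3, e 3, e 1, e 1, e 2; e 2, e 1, e 1, e 2, e 3; e 1, e 3, e 1, e 3, e 2]]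

/-- Powers of an element inducing the Frobenius automorphism. -/
def hp : Fin 5 → Matrix (Fin 5) (Fin 5) E :=
  ![!![e 1, e 0, e 0, e 0, e 0; e 0, e 1, e 0, e 0, e 0; e 0, e 0, e 1, e 0, e 0; e 0, e 0, e 0, e 1, e 0; e 0, e 0, e 0, e 0, e 1],
    !![e 1, e 0, e 0, e 0, e 0; e 0, e 3, e 1, e 0, e 2; e 0, e 1, e 2, e 1, e 0; e 0, e 0, e 2, e 1, e 3; e 0, e 2, e 0, e 2, e 1],
    !![e 1, e 0, e 0, e 0, e 0; e 0, e 0, e 1, e 2, e 3; e 0, e 1, e 0, e 3, e 1; e 0, e 3, e 1, e 2, e 0; e 0, e 3, e 1, e 0, e 3],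
    !![e 1, e 0, e 0, e 0, e 0; e 0, e 0, e 1, e 2, e 2; e 0, e 1, e 0, e 1, e 1; e 0, e 3, e 2, e 3, e 0; e 0, e 2, e 1, e 0, e 2],
    !![e 1, e 0, e 0, e 0, e 0; e 0, e 2, e 1, e 0, e 3; e 0, e 1, e 3, e 3, e 0; e 0, e 0, e 1, e 1, e 3; e 0, e 3, e 0, e 2, e 1]]

/-- The inverse of the Krylov matrix. -/
def kinv : Matrix (Fin 5) (Fin 5) E := !![e 1, e 0, e 2, e 1, e 3; e 0, e 1, e 1, e 2, e 3; e 0, e 2, e 0, e 3, e 3; e 0, e 3, e 1, e 1, e 3; e 0, e 3, e 3, e 3, e 3]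

/-- An involution. -/
def xm : Matrix (Fin 5) (Fin 5) E := !![e 1, e 0, e 0, e 0, e 0; e 0, e 0, e 1, e 0, e 0; e 0, e 1, e 0, e 0, e 0; e 0, e 0, e 0, e 0, e 3; e 0, e 0, e 0, e 2, e 0]

/-- An invariant set of vectors. -/
def orb : Fin 55 → ℕ := ![4, 16, 21, 26, 31, 38, 55, 82, 115, 116, 147, 162, 164, 201, 205, 209, 261, 289, 305, 324, 341, 346, 350, 388, 405, 411, 415, 491, 510, 518, 527, 540, 579, 598, 661, 671, 678, 697, 720, 725, 742, 758, 775, 778, 792, 853, 858, 877, 887, 898, 919, 976, 981, 999, 1015]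

/-- The action on the set. -/
def pg : Fin 55 → Fin 55 := ![54, 46, 33, 22, 7, 16, 12, 38, 23, 52, 24, 25, 18, 31, 27, 4, 34, 14, 50, 37, 44, 1, 53, 42, 36, 45, 11, 48, 17, 19, 40, 3, 35, 13, 15, 39, 49, 51, 43, 29, 20, 30, 5, 8, 9, 41, 28, 21, 0, 32, 2, 10, 26, 6, 47]

/-- The action on the set. -/
def ph : Fin 55 → Fin 55 := ![31, 12, 37, 49, 26, 40, 32, 41, 30, 1, 42, 46, 19, 39, 13, 20, 52, 18, 24, 23, 17, 3, 29, 9, 15, 27, 54, 53, 22, 7, 48, 51, 4, 36, 45, 8, 43, 34, 44, 16, 21, 28, 25, 11, 0, 47, 33, 2, 50, 5, 35, 38, 14, 10, 6]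

/-- The action on the set. -/
def px : Fin 55 → Fin 55 := ![1, 0, 2, 5, 6, 3, 4, 29, 30, 31, 42, 43, 44, 17, 18, 16, 15, 13, 14, 38, 39, 40, 41, 51, 52, 53, 54, 27, 28, 7, 8, 9, 32, 33, 45, 48, 46, 47, 19, 20, 21, 22, 10, 11, 12, 34, 36, 37, 35, 49, 50, 23, 24, 25, 26]

lemma gp_zero : gp 0 = 1 := by decide +kernel

lemma gp_succ : ∀ i, gp 1 * gp i = gp (i + 1) := by decide +kernel

lemma hp_zero : hp 0 = 1 := by decide +kernel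

lemma hp_succ : ∀ i, hp 1 * hp i = hp (i + 1) := by decide +kernel

lemma unitary : (gp 1)ᵀ * (gp 1).map cj = 1 ∧ (hp 1)ᵀ * (hp 1).map cj = 1 ∧ xmᵀ * xm.map cj = 1 ∧
    ((1 : Matrix (Fin 5) (Fin 5) E).submatrix (Equiv.swap (0 : Fin 5) 1) id)ᵀ *
      ((1 : Matrix (Fin 5) (Fin 5) E).submatrix (Equiv.swap (0 : Fin 5) 1) id).map cj = 1 := by decide +kernel

lemma det_one : (gp 1).det = 1 ∧ (hp 1).det = 1 ∧ xm.det = 1 ∧
    ((1 : Matrix (Fin 5) (Fin 5) E).submatrix (Equiv.swap (0 : Fin 5) 1) id).det = 1 := by decide +kernel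

lemma gp_one_ne : gp 1 ≠ 1 := by decide +kernel

lemma trace_cases : ∀ i, (gp i).trace = (gp 1).trace → ∃ j, hp j * gp 1 = gp i * hp j := by decide +kernel

lemma xm_not : ∀ i, xm * gp 1 ≠ gp i * xm := by decide +kernel

lemma krylov : (Matrix.of fun i (j : Fin 5) => gp (Fin.castLE (by norm_num) j) i 0) * kinv = 1 := by decide +kernel

lemma gp_orb : ∀ k i, (gp 1 *ᵥ vv (orb k)) i = vv (orb (pg k)) i := by decide +kernel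

lemma hp_orb : ∀ k i, (hp 1 *ᵥ vv (orb k)) i = vv (orb (ph k)) i := by decide +kernel

lemma xm_orb : ∀ k i, (xm *ᵥ vv (orb k)) i = vv (orb (px k)) i := by decide +kernel

lemma swap_orb : ∃ k, ∀ l, ∃ i, vv (orb k) (Equiv.swap (0 : Fin 5) 1 i) ≠ vv (orb l) i := by decide +kernel

end Cfsg.Agent.ClassicalMax.SUFive
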