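import Mathlib
import Cfsg.Prelude.Def_GeometricClasses
import Cfsg.Agent.GeoClasses.Basic
import Cfsg.Agent.MaxSub.FieldSub

/-!
Tools showing that a classical group relative to a form lies in no geometric member: transvections
normalise no field extension, tensor decomposition or class-two group, and perfect groups inside
subfield groups have their traces in the subfield.
-/

set_option autoImplicit false
set_option linter.style.haveILetI false

namespace Cfsg.Agent.ClassicalMax

open Matrix Cfsg.Geo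
open scoped MatrixGroups Matrix Kronecker commutatorElement

variable {ι : Type} [Fintype ι] [DecidableEq ι] {F : Type*} [Field F]

/-- A maximal subgroup below `X` is `X ⊓ Ω` when `Ω` is not below `X`. -/
theorem eq_inf_max {G : Type*} [Group G] {Ω H X : Subgroup G} (hH : IsMaximalIn Ω H) (hle : H ≤ X)
    (hX : ¬ Ω ≤ X) : H = X ⊓ Ω :=
  ((hH.2 (X ⊓ Ω) (le_inf hle hH.1.le) inf_le_right).resolve_right fun h => hX (inf_eq_right.mp h)).symm

/-- A maximal subgroup of a perfect matrix group does not cover it modulo scalars. -/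
theorem sup_scalars_ne_of_perfect {Ω H : Subgroup (GL ι F)} (hperf : ⁅Ω, Ω⁆ = Ω) (hH : IsMaximalIn Ω H) :
    H ⊔ (scalars ι F ⊓ Ω) ≠ Ω := by
  intro h
  set Z := scalars ι F ⊓ Ω
  apply hH.1.not_ge
  rw [← hperf]
  have hcen : ∀ z ∈ Z, ∀ g : GL ι F, z * g = g * z := by
    intro z hz g
    obtain ⟨c, hc⟩ := (mem_scalars_iff z).mp hz.1
    apply Units.ext
    simp [hc]
  rw [Subgroup.commutator_le]
  intro a ha b hb
  have hN : H ≤ Subgroup.normalizer (Z : Set (GL ι F)) := fun x _ =>
    Subgroup.mem_normalizer_iff.mpr fun y => by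
      constructor
      · intro hy
        rw [← hcen y hy x, mul_assoc, mul_inv_cancel, mul_one]
        exact hy
      · intro hy
        have e := hcen _ hy x
        rw [show x * y * x⁻¹ * x = x * y by group] at e
        rwa [← mul_left_cancel e] at hy
  rw [← h, ← SetLike.mem_coe, Subgroup.coe_mul_of_left_le_normalizer_right H Z hN] at ha hb
  obtain ⟨a', ha', z, hz, rfl⟩ := ha
  obtain ⟨b', hb', w, hw, rfl⟩ := hb
  have : ⁅a' * z, b' * w⁆ = ⁅a', b'⁆ := by
    simp only [commutatorElement_def]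
    calc a' * z * (b' * w) * (a' * z)⁻¹ * (b' * w)⁻¹
        = a' * (z * (b' * w)) * z⁻¹ * a'⁻¹ * (w⁻¹ * b'⁻¹) := by group
      _ = a' * ((b' * w) * z) * z⁻¹ * a'⁻¹ * (w⁻¹ * b'⁻¹) := by rw [hcen z hz]
      _ = a' * b' * (w * a'⁻¹) * (w⁻¹ * b'⁻¹) := by group
      _ = a' * b' * (a'⁻¹ * w) * (w⁻¹ * b'⁻¹) := by rw [hcen w hw]
      _ = a' * b' * a'⁻¹ * b'⁻¹ := by group
  rw [this, commutatorElement_def]
  exact mul_mem (mul_mem (mul_mem ha' hb') (inv_mem ha')) (inv_mem hb')

/-- A perfect group inside a subfield group is realised over the subfield up to the conjugation. -/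
theorem le_conj_range_of_perfect {Ω : Subgroup (GL ι F)} (hperf : ⁅Ω, Ω⁆ = Ω) {F₀ : Subfield F}
    {P : GL ι F} (hle : Ω ≤ subfieldSubgroup F₀ P) :
    Ω ≤ (Matrix.GeneralLinearGroup.map (F₀.subtype : F₀ →+* F)).range.map (MulAut.conj P).toMonoidHom := by
  set A := (Matrix.GeneralLinearGroup.map (n := ι) (F₀.subtype : F₀ →+* F)).range
  have hcen : ∀ z ∈ scalars ι F, ∀ g : GL ι F, z * g = g * z := by
    intro z hz g
    obtain ⟨c, hc⟩ := (mem_scalars_iff z).mp hz
    apply Units.ext
    simp [hc]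
  have key : ⁅A ⊔ scalars ι F, A ⊔ scalars ι F⁆ ≤ A := by
    rw [Subgroup.commutator_le]
    intro a ha b hb
    rw [← SetLike.mem_coe, Subgroup.coe_mul_of_left_le_normalizer_right _ _
      (fun y _ => Subgroup.normalizer_eq_top (scalars ι F) ▸ Subgroup.mem_top y)] at ha hb
    obtain ⟨a', ha', z, hz, rfl⟩ := ha
    obtain ⟨b', hb', w, hw, rfl⟩ := hb
    have : ⁅a' * z, b' * w⁆ = ⁅a', b'⁆ := by
      simp only [commutatorElement_def]
      calc a' * z * (b' * w) * (a' * z)⁻¹ * (b' * w)⁻¹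
          = a' * (z * (b' * w)) * z⁻¹ * a'⁻¹ * (w⁻¹ * b'⁻¹) := by group
        _ = a' * ((b' * w) * z) * z⁻¹ * a'⁻¹ * (w⁻¹ * b'⁻¹) := by rw [hcen z hz]
        _ = a' * b' * (w * a'⁻¹) * (w⁻¹ * b'⁻¹) := by group
        _ = a' * b' * (a'⁻¹ * w) * (w⁻¹ * b'⁻¹) := by rw [hcen w hw]
        _ = a' * b' * a'⁻¹ * b'⁻¹ := by group
    rw [this, commutatorElement_def]
    exact mul_mem (mul_mem (mul_mem ha' hb') (inv_mem ha')) (inv_mem hb')
  calc Ω = ⁅Ω, Ω⁆ := hperf.symm
    _ ≤ ⁅subfieldSubgroup F₀ P, subfieldSubgroup F₀ P⁆ := Subgroup.commutator_mono hle hle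
    _ ≤ A.map (MulAut.conj P).toMonoidHom := by
      rw [subfieldSubgroup, ← Subgroup.map_commutator]
      exact Subgroup.map_mono key

/-- The traces of a perfect group inside a subfield group lie in the subfield. -/
theorem trace_mem_of_perfect {Ω : Subgroup (GL ι F)} (hperf : ⁅Ω, Ω⁆ = Ω) {F₀ : Subfield F}
    {P : GL ι F} (hle : Ω ≤ subfieldSubgroup F₀ P) {g : GL ι F} (hg : g ∈ Ω) :
    (g : Matrix ι ι F).trace ∈ F₀ := by
  obtain ⟨_, ⟨g₀, rfl⟩, rfl⟩ := le_conj_range_of_perfect hperf hle hg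
  simp only [MulEquiv.toMonoidHom_eq_coe, MonoidHom.coe_coe, MulAut.conj_apply, Units.val_mul]
  rw [Matrix.trace_units_conj]
  refine F₀.sum_mem fun i _ => ?_
  exact ((g₀ : Matrix ι ι F₀) i i).2

/-- `g` is the transvection `u ↦ u + φ u • v`. -/
structure IsTransvec (g : GL ι F) (φ : (ι → F) →ₗ[F] F) (v : ι → F) : Prop where
  centre : φ v = 0
  apply_eq : ∀ u, (g : Matrix ι ι F) *ᵥ u = u + φ u • v

theorem IsTransvec.conj {g : GL ι F} {φ : (ι → F) →ₗ[F] F} {v : ι → F} (h : IsTransvec g φ v) (P : GL ι F) :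
    IsTransvec (P * g * P⁻¹) (φ.comp (Matrix.toLin' ((P⁻¹ : GL ι F) : Matrix ι ι F)))
      ((P : Matrix ι ι F) *ᵥ v) where
  centre := by simp [Matrix.mulVec_mulVec, ← Units.val_mul, h.centre]
  apply_eq u := by
    rw [Units.val_mul, Units.val_mul, ← Matrix.mulVec_mulVec, ← Matrix.mulVec_mulVec, h.apply_eq,
      Matrix.mulVec_add, Matrix.mulVec_smul, Matrix.mulVec_mulVec, ← Units.val_mul, mul_inv_cancel,
      Units.val_one, Matrix.one_mulVec]
    simp

theorem IsTransvec.eq_one_iff {g : GL ι F} {φ : (ι → F) →ₗ[F] F} {v : ι → F} (h : IsTransvec g φ v) :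
    g = 1 ↔ φ = 0 ∨ v = 0 := by
  constructor
  · rintro rfl
    by_cases hv : v = 0
    · exact Or.inr hv
    · refine Or.inl (LinearMap.ext fun u => ?_)
      have := h.apply_eq u
      simp only [Units.val_one, Matrix.one_mulVec, left_eq_add, smul_eq_zero] at this
      simpa using this.resolve_right hv
  · intro hor
    apply Units.ext
    apply Matrix.toLin'.injective
    refine LinearMap.ext fun u => ?_
    rcases hor with h0 | h0 <;> simp [h.apply_eq, h0]

/-- A non-zero vector in the common kernel of two functionals. -/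
theorem exists_ne_zero_ker_inf (h3 : 3 ≤ Fintype.card ι) (φ ψ : (ι → F) →ₗ[F] F) :
    ∃ x, x ≠ 0 ∧ φ x = 0 ∧ ψ x = 0 := by
  by_contra hc
  push Not at hc
  have hinj : Function.Injective (φ.prod ψ) := by
    rw [← LinearMap.ker_eq_bot, LinearMap.ker_eq_bot']
    intro x hx
    by_contra hx0
    exact hc x hx0 (congrArg Prod.fst hx) (congrArg Prod.snd hx)
  have := LinearMap.finrank_le_finrank_of_injective hinj
  rw [Module.finrank_fintype_fun_eq_card, Module.finrank_prod, Module.finrank_self] at this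
  omega

/-- A non-trivial transvection normalises no proper field extension. -/
theorem transvec_not_mem_subalgebraNormalizer [Finite F] (h3 : 3 ≤ Fintype.card ι) {r : ℕ} (hr : 1 < r)
    {K : Subalgebra F (Matrix ι ι F)} (hK : IsFieldSubalgebra r K) {g : GL ι F} {φ : (ι → F) →ₗ[F] F}
    {v : ι → F} (h : IsTransvec g φ v) (hφ : φ ≠ 0) (hv : v ≠ 0) : g ∉ subalgebraNormalizer K := by
  intro hg
  have hginv : ∀ x, φ x = 0 → ((g⁻¹ : GL ι F) : Matrix ι ι F) *ᵥ x = x := by
    intro x hx
    conv_lhs => rw [← show (g : Matrix ι ι F) *ᵥ x = x by simp [h.apply_eq, hx]]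
    rw [Matrix.mulVec_mulVec, ← Units.val_mul, inv_mul_cancel, Units.val_one, Matrix.one_mulVec]
  have hfree : ∀ k ∈ K, ∀ x : ι → F, k *ᵥ x = 0 → x ≠ 0 → k = 0 := by
    intro k hk x hx hx0
    by_contra hk0
    obtain ⟨y, -, hy⟩ := hK.inv k hk hk0
    apply hx0
    have := congrArg (y *ᵥ ·) hx
    simpa [Matrix.mulVec_mulVec, mul_eq_one_comm.mp hy] using this
  -- conjugation by `g` fixes `K` pointwise
  have hfix : ∀ k ∈ K, (g : Matrix ι ι F) * k = k * g := by
    intro k hk
    obtain ⟨x, hx0, hx1, hx2⟩ := exists_ne_zero_ker_inf h3 φ (φ.comp (Matrix.toLin' k))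
    have hk' := (hg k).1 hk
    have : ((g : Matrix ι ι F) * k * ((g⁻¹ : GL ι F) : Matrix ι ι F) - k) *ᵥ x = 0 := by
      rw [Matrix.sub_mulVec, ← Matrix.mulVec_mulVec, hginv x hx1, ← Matrix.mulVec_mulVec, h.apply_eq]
      simp at hx2
      simp [hx2]
    have e := sub_eq_zero.mp (hfree _ (K.sub_mem hk' hk) x this hx0)
    calc (g : Matrix ι ι F) * k
        = (g : Matrix ι ι F) * k * ((g⁻¹ : GL ι F) : Matrix ι ι F) * g := by
          rw [mul_assoc _ _ (g : Matrix ι ι F), ← Units.val_mul, inv_mul_cancel, Units.val_one, mul_one]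
      _ = k * g := by rw [e]
  -- so `K v` is the line through `v`
  obtain ⟨u, hu⟩ : ∃ u, φ u ≠ 0 := by
    by_contra hc
    push Not at hc
    exact hφ (LinearMap.ext fun u => by simpa using hc u)
  have hline : ∀ k ∈ K, ∃ c : F, k *ᵥ v = c • v := by
    intro k hk
    refine ⟨φ (k *ᵥ u) / φ u, ?_⟩
    have := congrArg (fun M : Matrix ι ι F => M *ᵥ u) (hfix k hk)
    simp only [← Matrix.mulVec_mulVec, h.apply_eq, Matrix.mulVec_add, Matrix.mulVec_smul, add_right_inj] at this
    rw [div_eq_inv_mul, mul_smul, this, inv_smul_smul₀ hu]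
  let ev : K →ₗ[F] (ι → F) :=
    { toFun := fun k => (k : Matrix ι ι F) *ᵥ v
      map_add' := fun x y => by simp [Matrix.add_mulVec]
      map_smul' := fun c x => by simp [Matrix.smul_mulVec] }
  have hev : Function.Injective ev := by
    rw [← LinearMap.ker_eq_bot, LinearMap.ker_eq_bot']
    intro k hk
    exact Subtype.ext (hfree k k.2 v hk hv)
  have hrange : LinearMap.range ev ≤ Submodule.span F {v} := by
    rintro _ ⟨k, rfl⟩
    obtain ⟨c, hc⟩ := hline k k.2
    exact Submodule.mem_span_singleton.mpr ⟨c, hc.symm⟩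
  have h1 := Submodule.finrank_mono hrange
  rw [LinearMap.finrank_range_of_inj hev, finrank_span_singleton hv] at h1
  rw [← hK.finrank_eq] at hr
  exact absurd h1 (not_le.mpr hr)

/-- The centre of a transvection stabilising a decomposition lies in at most two members. -/
theorem transvec_centre_mem_sup {t m : ℕ} {D : Fin t → Submodule F (ι → F)} (hD : IsMDecomposition m D)
    {g : GL ι F} {φ : (ι → F) →ₗ[F] F} {v : ι → F} (h : IsTransvec g φ v) (hφ : φ ≠ 0)
    (hg : g ∈ decompositionStabilizer D) : ∃ i j, v ∈ D i ⊔ D j ∧ (2 ≤ m → i = j) := by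
  obtain ⟨σ, hσ⟩ := hg
  obtain ⟨i, x, hx, hφx⟩ : ∃ i, ∃ x ∈ D i, φ x ≠ 0 := by
    by_contra hc
    push Not at hc
    refine hφ (LinearMap.ext fun u => ?_)
    have : iSup D ≤ LinearMap.ker φ := iSup_le fun i x hx => hc i x hx
    exact this (hD.iSup_eq_top ▸ Submodule.mem_top)
  have hmap : ∀ y ∈ D i, (g : Matrix ι ι F) *ᵥ y ∈ D (σ i) := by
    intro y hy
    rw [← hσ i]
    exact ⟨y, hy, Matrix.toLin'_apply _ _⟩
  refine ⟨i, σ i, ?_, fun hm => ?_⟩
  · have : v = (φ x)⁻¹ • ((g : Matrix ι ι F) *ᵥ x - x) := by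
      rw [h.apply_eq, add_sub_cancel_left, inv_smul_smul₀ hφx]
    rw [this]
    exact Submodule.smul_mem _ _ (Submodule.sub_mem _ (Submodule.mem_sup_right (hmap x hx))
      (Submodule.mem_sup_left hx))
  · by_contra hne
    obtain ⟨y, hy, hy0, hφy⟩ : ∃ y ∈ D i, y ≠ 0 ∧ φ y = 0 := by
      have hker : LinearMap.ker (φ.comp (D i).subtype) ≠ ⊥ := by
        intro hbot
        have := LinearMap.finrank_le_finrank_of_injective (LinearMap.ker_eq_bot.mp hbot)
        rw [hD.finrank_eq, Module.finrank_self] at this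
        omega
      obtain ⟨y, hy, hy0⟩ := Submodule.exists_mem_ne_zero_of_ne_bot hker
      exact ⟨y, y.2, fun h0 => hy0 (Subtype.ext h0), hy⟩
    have h2 : y ∈ D (σ i) := by
      have := hmap y hy
      rwa [h.apply_eq, hφy, zero_smul, add_zero] at this
    exact hy0 ((Submodule.disjoint_def.mp (hD.indep i)) y hy
      (Submodule.mem_iSup_of_mem (σ i) (Submodule.mem_iSup_of_mem (Ne.symm hne) h2)))

theorem transvec_kronecker_eq_one {n₁ n₂ : ℕ} (h1 : 2 ≤ n₁) (h2 : 2 ≤ n₂)
    {g : GL (Fin n₁ × Fin n₂) F} {φ : (Fin n₁ × Fin n₂ → F) →ₗ[F] F} {v : Fin n₁ × Fin n₂ → F}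
    (h : IsTransvec g φ v) (hg : g ∈ kroneckerSubgroup n₁ n₂ F) : g = 1 := by
  obtain ⟨a, b, hab⟩ := hg
  have hpure : ∀ (x : Fin n₁ → F) (y : Fin n₂ → F) (p : Fin n₁ × Fin n₂),
      ((g : Matrix (Fin n₁ × Fin n₂) (Fin n₁ × Fin n₂) F) *ᵥ fun p => x p.1 * y p.2) p =
        ((a : Matrix (Fin n₁) (Fin n₁) F) *ᵥ x) p.1 * ((b : Matrix (Fin n₂) (Fin n₂) F) *ᵥ y) p.2 := by
    intro x y p
    rw [hab]
    simp only [Matrix.mulVec, dotProduct, Matrix.kroneckerMap_apply, Finset.sum_mul_sum, Fintype.sum_prod_type]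
    refine Finset.sum_congr rfl fun i _ => Finset.sum_congr rfl fun j _ => ?_
    ring
  -- each column of `b` is proportional to the identity's
  have hb : ∀ y : Fin n₂ → F, ∃ c : F, (b : Matrix (Fin n₂) (Fin n₂) F) *ᵥ y = c • y := by
    intro y
    obtain ⟨x, hx0, hx⟩ : ∃ x : Fin n₁ → F, x ≠ 0 ∧ φ (fun p => x p.1 * y p.2) = 0 := by
      let ψ : (Fin n₁ → F) →ₗ[F] F :=
        { toFun := fun x => φ (fun p => x p.1 * y p.2)
          map_add' := fun x x' => by rw [← map_add]; congr 1; funext p; simp [add_mul]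
          map_smul' := fun c x => by rw [RingHom.id_apply, ← map_smul]; congr 1; funext p; simp [mul_assoc] }
      by_contra hc
      push Not at hc
      have hinj : Function.Injective ψ := by
        rw [← LinearMap.ker_eq_bot, LinearMap.ker_eq_bot']
        intro x hx
        by_contra hx0
        exact hc x hx0 hx
      have := LinearMap.finrank_le_finrank_of_injective hinj
      rw [Module.finrank_fintype_fun_eq_card, Module.finrank_self, Fintype.card_fin] at this
      omega
    obtain ⟨i, hi⟩ : ∃ i, ((a : Matrix (Fin n₁) (Fin n₁) F) *ᵥ x) i ≠ 0 := by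
      by_contra hc
      push Not at hc
      exact hx0 (GeoClasses.mulVec_injective a ((funext hc).trans (Matrix.mulVec_zero _).symm))
    refine ⟨x i / ((a : Matrix (Fin n₁) (Fin n₁) F) *ᵥ x) i, funext fun j => ?_⟩
    have := hpure x y (i, j)
    rw [h.apply_eq, hx, zero_smul, add_zero] at this
    simp only [Pi.smul_apply, smul_eq_mul]
    field_simp
    linear_combination -this
  have ha : ∀ x : Fin n₁ → F, ∃ c : F, (a : Matrix (Fin n₁) (Fin n₁) F) *ᵥ x = c • x := by
    intro x
    obtain ⟨y, hy0, hy⟩ : ∃ y : Fin n₂ → F, y ≠ 0 ∧ φ (fun p => x p.1 * y p.2) = 0 := by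
      let ψ : (Fin n₂ → F) →ₗ[F] F :=
        { toFun := fun y => φ (fun p => x p.1 * y p.2)
          map_add' := fun y y' => by rw [← map_add]; congr 1; funext p; simp [mul_add]
          map_smul' := fun c y => by rw [RingHom.id_apply, ← map_smul]; congr 1; funext p; simp [mul_left_comm] }
      by_contra hc
      push Not at hc
      have hinj : Function.Injective ψ := by
        rw [← LinearMap.ker_eq_bot, LinearMap.ker_eq_bot']
        intro y hy
        by_contra hy0
        exact hc y hy0 hy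
      have := LinearMap.finrank_le_finrank_of_injective hinj
      rw [Module.finrank_fintype_fun_eq_card, Module.finrank_self, Fintype.card_fin] at this
      omega
    obtain ⟨j, hj⟩ : ∃ j, ((b : Matrix (Fin n₂) (Fin n₂) F) *ᵥ y) j ≠ 0 := by
      by_contra hc
      push Not at hc
      exact hy0 (GeoClasses.mulVec_injective b ((funext hc).trans (Matrix.mulVec_zero _).symm))
    refine ⟨y j / ((b : Matrix (Fin n₂) (Fin n₂) F) *ᵥ y) j, funext fun i => ?_⟩
    have := hpure x y (i, j)
    rw [h.apply_eq, hy, zero_smul, add_zero] at this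
    simp only [Pi.smul_apply, smul_eq_mul]
    field_simp
    linear_combination -this
  -- so `g` is scalar
  obtain ⟨c, hc⟩ : ∃ c : F, ∀ u, (g : Matrix (Fin n₁ × Fin n₂) (Fin n₁ × Fin n₂) F) *ᵥ u = c • u := by
    have hscal : ∀ {n : ℕ} (M : GL (Fin n) F), (∀ x, ∃ c : F, (M : Matrix (Fin n) (Fin n) F) *ᵥ x = c • x) →
        0 < n → ∃ c : F, (M : Matrix (Fin n) (Fin n) F) = c • 1 := by
      intro n M hM hn
      choose c hc using hM
      have hent : ∀ i j, (M : Matrix (Fin n) (Fin n) F) i j = if i = j then c (Pi.single j 1) else 0 := by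
        intro i j
        have := congrFun (hc (Pi.single j 1)) i
        simpa [Pi.single_apply] using this
      refine ⟨c (Pi.single ⟨0, hn⟩ 1), Matrix.ext fun i j => ?_⟩
      rw [hent i j, Matrix.smul_apply, Matrix.one_apply]
      split
      · next hij =>
        subst hij
        by_cases h0 : i = ⟨0, hn⟩
        · subst h0; simp
        · have e1 := congrFun (hc (Pi.single i 1 + Pi.single ⟨0, hn⟩ 1)) i
          have e2 := congrFun (hc (Pi.single i 1 + Pi.single ⟨0, hn⟩ 1)) ⟨0, hn⟩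
          simp [Matrix.mulVec_add, hent, h0, Ne.symm h0] at e1 e2
          simp [e1, e2]
      · simp
    obtain ⟨c₁, e₁⟩ := hscal a ha (by omega)
    obtain ⟨c₂, e₂⟩ := hscal b hb (by omega)
    refine ⟨c₁ * c₂, fun u => ?_⟩
    rw [hab, e₁, e₂, Matrix.smul_kronecker, Matrix.kronecker_smul, Matrix.one_kronecker_one, smul_smul,
      Matrix.smul_mulVec, Matrix.one_mulVec]
  have hnpos : 3 ≤ Fintype.card (Fin n₁ × Fin n₂) := by
    rw [Fintype.card_prod, Fintype.card_fin, Fintype.card_fin]; nlinarith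
  obtain ⟨x, hx0, hx1, -⟩ := exists_ne_zero_ker_inf hnpos φ φ
  have hc1 : c = 1 := by
    have := hc x
    rw [h.apply_eq, hx1, zero_smul, add_zero] at this
    by_contra hne
    have : (c - 1) • x = 0 := by rw [sub_smul, one_smul, ← this, sub_self]
    exact hx0 ((smul_eq_zero.mp this).resolve_left (sub_ne_zero.mpr hne))
  apply Units.ext
  apply Matrix.toLin'.injective
  refine LinearMap.ext fun u => ?_
  simp [hc u, hc1]

/-- A non-trivial transvection stabilises no tensor decomposition. -/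
theorem transvec_not_mem_tensorProductSubgroup {n₁ n₂ : ℕ} (h1 : 2 ≤ n₁) (h2 : 2 ≤ n₂)
    (e : ι ≃ Fin n₁ × Fin n₂) (P : GL ι F) {g : GL ι F} {φ : (ι → F) →ₗ[F] F}
    {v : ι → F} (h : IsTransvec g φ v) (hg1 : g ≠ 1) : g ∉ tensorProductSubgroup n₁ n₂ e P := by
  rintro ⟨_, ⟨k, hk, rfl⟩, hkg⟩
  simp only [MulEquiv.toMonoidHom_eq_coe, MonoidHom.coe_coe, MulAut.conj_apply] at hkg
  have h' := h.conj P⁻¹
  rw [← hkg, show P⁻¹ * (P * glReindex e.symm k * P⁻¹) * P⁻¹⁻¹ = glReindex e.symm k by group] at h'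
  set φ' := φ.comp (Matrix.toLin' ((P⁻¹⁻¹ : GL ι F) : Matrix ι ι F))
  set v' := ((P⁻¹ : GL ι F) : Matrix ι ι F) *ᵥ v
  have hk' : IsTransvec k (φ'.comp (LinearMap.funLeft F F e)) (v' ∘ e.symm) := by
    constructor
    · have : (v' ∘ e.symm) ∘ e = v' := funext fun i => by simp
      show φ' ((v' ∘ e.symm) ∘ e) = 0
      rw [this]; exact h'.centre
    · intro u
      have := h'.apply_eq (u ∘ e)
      funext p
      have hp := congrFun this (e.symm p)
      have hval : ((glReindex e.symm k : GL ι F) : Matrix ι ι F) =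
          Matrix.reindex e.symm e.symm (k : Matrix (Fin n₁ × Fin n₂) (Fin n₁ × Fin n₂) F) := rfl
      rw [hval] at hp
      simp only [Matrix.reindex_apply, Equiv.symm_symm, Matrix.submatrix_mulVec_equiv, Function.comp_apply,
        Equiv.apply_symm_apply, Pi.add_apply, Pi.smul_apply] at hp
      simp only [LinearMap.comp_apply, Pi.add_apply, Pi.smul_apply, Function.comp_apply]
      convert hp using 3 <;> first | rfl | (funext q; simp)
  have := transvec_kronecker_eq_one h1 h2 hk' hk
  subst this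
  exact hg1 (by rw [← hkg]; simp)

/-- Two root elements of different squared parameters cannot both normalise an absolutely irreducible
group of class two whose degree is invertible in the field. -/
theorem transvec_pair_not_mem_normalizer (h3 : 3 ≤ Fintype.card ι) (hn : (Fintype.card ι : F) ≠ 0)
    {R : Subgroup (GL ι F)} (hirr : ActsAbsolutelyIrreducibly (matrixSet R))
    (hcl : commutator R ≤ Subgroup.center R)
    (hscal : ∀ z ∈ Subgroup.center R, ∃ c : F, ((z : GL ι F) : Matrix ι ι F) = c • (1 : Matrix ι ι F))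
    {φ : (ι → F) →ₗ[F] F} {v : ι → F} (hφ : φ ≠ 0) (hv : v ≠ 0) {c₁ c₂ : F} (hc₁ : c₁ ≠ 0)
    (hc₂ : c₂ ≠ 0) (hne : c₁ ^ 2 ≠ c₂ ^ 2) {g₁ g₂ : GL ι F} (hg₁ : IsTransvec g₁ (c₁ • φ) v)
    (hg₂ : IsTransvec g₂ (c₂ • φ) v) :
    ¬ (g₁ ∈ subgroupNormalizer R ∧ g₂ ∈ subgroupNormalizer R) := by
  classical
  rintro ⟨hN₁, hN₂⟩
  have hφv : φ v = 0 := by
    have := hg₁.centre
    simp [hc₁] at this
    exact this
  let a : ι → F := fun i => φ (Pi.single i 1)
  have hdot : ∀ u, a ⬝ᵥ u = φ u := by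
    intro u
    conv_rhs => rw [← Finset.univ_sum_single u, map_sum]
    refine Finset.sum_congr rfl fun i _ => ?_
    rw [show (Pi.single i (u i) : ι → F) = u i • Pi.single i 1 by rw [← Pi.single_smul', smul_eq_mul, mul_one],
      map_smul, smul_eq_mul]
    ring
  set N : Matrix ι ι F := Matrix.vecMulVec v a with hN
  have hmat : ∀ {c : F} {g : GL ι F}, IsTransvec g (c • φ) v → (g : Matrix ι ι F) = 1 + c • N := by
    intro c g hg
    apply Matrix.toLin'.injective
    refine LinearMap.ext fun u => ?_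
    rw [Matrix.toLin'_apply, Matrix.toLin'_apply, hg.apply_eq, Matrix.add_mulVec, Matrix.one_mulVec,
      Matrix.smul_mulVec, hN, Matrix.vecMulVec_mulVec, hdot]
    simp [smul_smul]
  have hN2 : N * N = 0 := by
    rw [hN, Matrix.vecMulVec_mul_vecMulVec, hdot, hφv, zero_smul, Matrix.vecMulVec_zero]
  have hNtr : N.trace = 0 := by rw [hN, Matrix.trace_vecMulVec, dotProduct_comm, hdot, hφv]
  -- the commutator of a root element and an element of `R`
  have key : ∀ {c : F} {g : GL ι F}, c ≠ 0 → IsTransvec g (c • φ) v → g ∈ subgroupNormalizer R →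
      ∀ x ∈ R, Commute (g : Matrix ι ι F) (x : Matrix ι ι F) ∨
        c ^ 2 * (φ ((x : Matrix ι ι F) *ᵥ v) * φ (((x⁻¹ : GL ι F) : Matrix ι ι F) *ᵥ v)) = Fintype.card ι := by
    intro c g hc hg hgN x hx
    set y := g * x * g⁻¹ * x⁻¹ with hy
    have hyR : y ∈ R := R.mul_mem ((Subgroup.mem_normalizer_iff.mp hgN x).mp hx) (R.inv_mem hx)
    have hginv : ((g⁻¹ : GL ι F) : Matrix ι ι F) = 1 - c • N := by
      refine Units.inv_eq_of_mul_eq_one_right ?_
      rw [hmat hg, add_mul, one_mul, mul_sub, mul_one, Matrix.smul_mul, Matrix.mul_smul, hN2, smul_zero,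
        smul_zero, sub_zero, sub_add_cancel]
    set X := (x : Matrix ι ι F)
    set Xi := ((x⁻¹ : GL ι F) : Matrix ι ι F)
    have hX : X * Xi = 1 := by simp [X, Xi]
    have hymat : (y : Matrix ι ι F) = (1 + c • N) * (1 - c • (X * N * Xi)) := by
      rw [hy, Units.val_mul, Units.val_mul, Units.val_mul, hginv, hmat hg, mul_assoc (1 + c • N) X,
        mul_assoc (1 + c • N)]
      congr 1
      rw [mul_sub, mul_one, sub_mul, hX, Matrix.mul_smul, Matrix.smul_mul]
    by_cases hyc : (⟨y, hyR⟩ : R) ∈ Subgroup.center R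
    · left
      obtain ⟨μ, hμ⟩ := hscal _ hyc
      obtain ⟨w, hw0, hw1, hw2⟩ := exists_ne_zero_ker_inf h3 φ (φ.comp (Matrix.toLin' Xi))
      have hμ1 : μ = 1 := by
        have := congrArg (fun M : Matrix ι ι F => M *ᵥ w) (hymat.symm.trans hμ)
        simp at hw2
        simp only [← Matrix.mulVec_mulVec, Matrix.sub_mulVec, Matrix.smul_mulVec, Matrix.one_mulVec,
          hN, Matrix.vecMulVec_mulVec, hdot, hw2, zero_smul, Matrix.mulVec_zero, smul_zero, sub_zero,
          Matrix.add_mulVec, MulOpposite.op_zero, hw1, add_zero] at this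
        by_contra hne
        have h0 : (μ - 1) • w = 0 := by rw [sub_smul, one_smul, ← this, sub_self]
        exact hw0 ((smul_eq_zero.mp h0).resolve_left (sub_ne_zero.mpr hne))
      have hy1 : y = 1 := Units.ext (by rw [hμ, hμ1, one_smul, Units.val_one])
      rw [hy] at hy1
      have : g * x = x * g := by
        calc g * x = (g * x * g⁻¹ * x⁻¹) * (x * g) := by group
          _ = x * g := by rw [hy1, one_mul]
      exact congrArg (fun z : GL ι F => (z : Matrix ι ι F)) this
    · right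
      rw [Subgroup.mem_center_iff] at hyc
      push Not at hyc
      obtain ⟨z, hz⟩ := hyc
      obtain ⟨l, hl⟩ := hscal _ (hcl (Subgroup.commutator_mem_commutator (Subgroup.mem_top z)
        (Subgroup.mem_top ⟨y, hyR⟩)))
      have hl1 : l ≠ 1 := by
        rintro rfl
        apply hz
        have h1 : ⁅z, (⟨y, hyR⟩ : R)⁆ = 1 := Subtype.ext (Units.ext (by simpa using hl))
        exact (commutatorElement_eq_one_iff_commute.mp h1).eq
      have htr : (y : Matrix ι ι F).trace = 0 := by
        have e : (z : GL ι F) * y * (z : GL ι F)⁻¹ = ((⁅z, (⟨y, hyR⟩ : R)⁆ : R) : GL ι F) * y := by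
          simp [commutatorElement_def, mul_assoc]
        have := congrArg (fun M : GL ι F => (M : Matrix ι ι F).trace) e
        simp only [Units.val_mul, Matrix.trace_units_conj, hl, Matrix.smul_mul, one_mul, Matrix.trace_smul,
          smul_eq_mul] at this
        by_contra h0
        exact hl1 ((mul_eq_right₀ h0).mp this.symm)
      rw [hymat] at htr
      have hXNX : X * N * Xi = Matrix.vecMulVec (X *ᵥ v) (a ᵥ* Xi) := by
        rw [hN, Matrix.mul_vecMulVec, Matrix.vecMulVec_mul]
      have h1 : (X * N * Xi).trace = 0 := by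
        rw [Matrix.trace_mul_comm, ← mul_assoc, show Xi * X = 1 by simp [X, Xi], one_mul, hNtr]
      have h2 : (N * (X * N * Xi)).trace = φ (X *ᵥ v) * φ (Xi *ᵥ v) := by
        rw [hXNX, hN, Matrix.vecMulVec_mul_vecMulVec, Matrix.trace_vecMulVec, hdot, dotProduct_smul,
          dotProduct_comm v, ← Matrix.dotProduct_mulVec, hdot, smul_eq_mul]
      simp only [add_mul, one_mul, mul_sub, mul_one, Matrix.smul_mul, Matrix.mul_smul, smul_smul,
        Matrix.trace_add, Matrix.trace_sub, Matrix.trace_smul, Matrix.trace_one, h1, hNtr, h2,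
        smul_eq_mul, mul_zero] at htr
      linear_combination -htr
  -- hence everything in `R` commutes with `g₁`
  have hcomm : ∀ s ∈ matrixSet R, (g₁ : Matrix ι ι F) * s = s * g₁ := by
    rintro _ ⟨x, hx, rfl⟩
    rcases key hc₁ hg₁ hN₁ x hx with h | h
    · exact h.eq
    · exfalso
      rcases key hc₂ hg₂ hN₂ x hx with h' | h'
      · set X := (x : Matrix ι ι F)
        have hNX : N * X = X * N := by
          have e := h'.eq
          rw [hmat hg₂, add_mul, mul_add, one_mul, mul_one, Matrix.smul_mul, Matrix.mul_smul] at e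
          exact smul_right_injective _ hc₂ (add_left_cancel e)
        have hK : φ (X *ᵥ v) • v = 0 := by
          have := congrArg (fun M : Matrix ι ι F => M *ᵥ v) hNX
          simpa [← Matrix.mulVec_mulVec, hN, Matrix.vecMulVec_mulVec, hdot, hφv] using this
        rw [(smul_eq_zero.mp hK).resolve_right hv, zero_mul, mul_zero] at h
        exact hn h.symm
      · apply hne
        have hK0 : φ ((x : Matrix ι ι F) *ᵥ v) * φ (((x⁻¹ : GL ι F) : Matrix ι ι F) *ᵥ v) ≠ 0 := by
          intro h0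
          rw [h0, mul_zero] at h
          exact hn h.symm
        exact mul_right_cancel₀ hK0 (h.trans h'.symm)
  obtain ⟨l, hl⟩ := hirr.2 _ hcomm
  obtain ⟨w, hw0, hw1, -⟩ := exists_ne_zero_ker_inf h3 φ φ
  have e := congrArg (fun M : Matrix ι ι F => M *ᵥ w) hl
  rw [hmat hg₁] at e
  simp [Matrix.add_mulVec, Matrix.smul_mulVec, hN, Matrix.vecMulVec_mulVec, hdot, hw1] at e
  have hl1 : l = 1 := by
    by_contra hne
    have h0 : (l - 1) • w = 0 := by rw [sub_smul, one_smul, ← e, sub_self]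
    exact hw0 ((smul_eq_zero.mp h0).resolve_left (sub_ne_zero.mpr hne))
  rw [hl1, one_smul, hmat hg₁, add_eq_left, smul_eq_zero] at hl
  rcases hl with h0 | h0
  · exact hc₁ h0
  · obtain ⟨u, hu⟩ : ∃ u, φ u ≠ 0 := by
      by_contra hc
      push Not at hc
      exact hφ (LinearMap.ext fun u => by simpa using hc u)
    have := congrArg (fun M : Matrix ι ι F => M *ᵥ u) h0
    simp [hN, Matrix.vecMulVec_mulVec, hdot, hu, hv] at this

end Cfsg.Agent.ClassicalMax
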