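import Cfsg.Agent.BlocksChar.ClassProd
import Cfsg.Agent.SmallGroups.Involution
import Cfsg.Agent.SmallGroups.Counting
import Cfsg.Agent.CharInd.Coherence
import Cfsg.Agent.CharInd.Induced
import Cfsg.Agent.Char.Linear
import Cfsg.Agent.Invol.Counting
import Cfsg.Agent.TwoFusion.SEBasic

/-!
# Simple groups with abelian centralisers: involution centralisers are elementary abelian

`A = C(t)` is an abelian TI subgroup, `H = N(A)`, `m = |H : A|` is odd and all involutions are
conjugate, so the involutions of `A` together with `1` form a subgroup `Ω` of order `m + 1`.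
If `Ω < A` then, for linear characters `l` trivial and `μ` nontrivial on `Ω`, the induced
difference `D = χ - χ'` satisfies `(χ t + χ' t) * |G : A| = (m - 1) * χ 1`, so every such `χ`
has degree at least `|G : A| / (m - 1)`, and there are too many of them.
-/

set_option autoImplicit false
set_option linter.unusedSectionVars false

noncomputable section

open scoped ComplexConjugate BigOperators
open Finset

namespace Cfsg.Agent.ClassicalMax.SimpleCA

universe u

variable {G : Type u} [Group G] [Fintype G]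

/-- A `Fintype` structure on subgroups. -/
@[reducible] def subFT {K : Type u} [Group K] [Finite K] (L : Subgroup K) : Fintype L :=
  Fintype.ofFinite L

attribute [local instance 2000] subFT

/-- Every non-identity element has an abelian centraliser. -/
def CA (G : Type u) [Group G] : Prop :=
  ∀ x : G, x ≠ 1 → ∀ a ∈ Subgroup.centralizer ({x} : Set G),
    ∀ b ∈ Subgroup.centralizer ({x} : Set G), a * b = b * a

theorem mem_cent {x g : G} : g ∈ Subgroup.centralizer ({x} : Set G) ↔ Commute g x :=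
  Invol.mem_centralizer_singleton

/-- The centraliser of `t`. -/
abbrev cA (t : G) : Subgroup G := Subgroup.centralizer ({t} : Set G)

/-- The normaliser of the centraliser of `t`. -/
abbrev cN (t : G) : Subgroup G := Subgroup.normalizer ((cA t : Subgroup G) : Set G)

variable (hCA : CA G) {t : G} (ht : orderOf t = 2)

include hCA ht

theorem comm_A {a b : G} (ha : a ∈ (cA t)) (hb : b ∈ (cA t)) : a * b = b * a :=
  hCA t (TwoFusion.involution_ne_one ht) a ha b hb

theorem centralizer_eq {a : G} (ha : a ∈ (cA t)) (ha1 : a ≠ 1) :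
    Subgroup.centralizer ({a} : Set G) = (cA t) := by
  ext x
  rw [mem_cent]
  refine ⟨fun hx => ?_, fun hx => comm_A hCA ht hx ha⟩
  rw [mem_cent]
  exact hCA a ha1 x (mem_cent.2 hx) t (mem_cent.2 (mem_cent.1 ha).symm)

theorem mem_N_of_conj {a g : G} (ha : a ∈ (cA t)) (ha1 : a ≠ 1) (hg : g⁻¹ * a * g ∈ (cA t)) : g ∈ (cN t) := by
  have hb1 : g⁻¹ * a * g ≠ 1 := fun h => ha1 (by
    calc a = g * (g⁻¹ * a * g) * g⁻¹ := by group
      _ = 1 := by rw [h]; group)
  rw [Subgroup.mem_normalizer_iff'']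
  intro x
  conv_lhs => rw [← centralizer_eq hCA ht ha ha1, mem_cent]
  conv_rhs => rw [← centralizer_eq hCA ht hg hb1, mem_cent]
  have e1 : g⁻¹ * x * g * (g⁻¹ * a * g) = g⁻¹ * (x * a) * g := by group
  have e2 : g⁻¹ * a * g * (g⁻¹ * x * g) = g⁻¹ * (a * x) * g := by group
  rw [commute_iff_eq, commute_iff_eq, e1, e2, mul_left_inj, mul_right_inj]

theorem t_mem : t ∈ (cA t) := mem_cent.2 (Commute.refl t)

theorem eq_one_of_commute {a h : G} (ha : a ∈ (cA t)) (h' : h ∉ (cA t)) (hc : Commute h a) : a = 1 := by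
  by_contra ha1
  exact h' (centralizer_eq hCA ht ha ha1 ▸ mem_cent.2 hc)

/-- No element of `N` outside `A` has order dividing `|(cA t)|`. -/
theorem mem_A_of_dvd {h : G} (hN : h ∈ (cN t)) (hd : orderOf h ∣ Nat.card (cA t)) : h ∈ (cA t) := by
  induction hn : orderOf h using Nat.strong_induction_on generalizing h with
  | _ n ih =>
    subst hn
    rcases Nat.lt_or_ge (orderOf h) 2 with h2 | h2
    · have hpos := orderOf_pos h
      have h1 : h = 1 := orderOf_eq_one_iff.1 (by omega)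
      exact h1 ▸ one_mem _
    · obtain ⟨p, hp, k, hk⟩ := Nat.exists_prime_and_dvd (show orderOf h ≠ 1 by omega)
      haveI := Fact.mk hp
      have hpos := orderOf_pos h
      by_cases hk1 : k = 1
      · rw [hk1, mul_one] at hk
        by_contra hA
        have hmod := SmallGroups.card_modEq_one_of_fixedPointFree hk hN
          (fun d hd' hc => eq_one_of_commute hCA ht hd' hA hc)
        have h0 : Nat.card (cA t) ≡ 0 [MOD p] := (Nat.modEq_zero_iff_dvd).2 (hk ▸ hd)
        have h1 := hmod.symm.trans h0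
        rw [Nat.ModEq, Nat.zero_mod, Nat.one_mod_eq_one.2 hp.ne_one] at h1
        exact one_ne_zero h1
      · have hkpos : 0 < k := by
          rcases Nat.eq_zero_or_pos k with h | h
          · rw [h, mul_zero] at hk; omega
          · exact h
        have ho : orderOf (h ^ p) = k := by
          rw [orderOf_pow' h hp.ne_zero, hk, Nat.gcd_eq_right (dvd_mul_right p k),
            Nat.mul_div_cancel_left k hp.pos]
        have hlt : k < orderOf h := by
          rw [hk]
          exact lt_mul_left hkpos hp.one_lt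
        have hm := ih k hlt (pow_mem hN p) (ho ▸ (Dvd.dvd.trans ⟨p, by rw [hk, mul_comm]⟩ hd)) ho
        have hne : h ^ p ≠ 1 := fun e => by
          rw [e, orderOf_one] at ho
          exact hk1 ho.symm
        exact centralizer_eq hCA ht hm hne ▸ mem_cent.2 ((Commute.refl h).pow_right p)

theorem two_dvd_card : 2 ∣ Nat.card (cA t) :=
  ht ▸ Subgroup.orderOf_dvd_natCard _ (t_mem hCA ht)

theorem invol_mem {u : G} (hu : orderOf u = 2) (hN : u ∈ (cN t)) : u ∈ (cA t) :=
  mem_A_of_dvd hCA ht hN (hu ▸ two_dvd_card hCA ht)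

theorem A_le_N : (cA t) ≤ (cN t) := Subgroup.le_normalizer

theorem conj_mem_A {h a : G} (hh : h ∈ (cN t)) (ha : a ∈ (cA t)) : h⁻¹ * a * h ∈ (cA t) :=
  (Subgroup.mem_normalizer_iff''.1 hh a).1 ha

theorem conj_eq_self {h a : G} (hh : h ∈ (cA t)) (ha : a ∈ (cA t)) : h⁻¹ * a * h = a := by
  rw [mul_assoc, comm_A hCA ht ha hh, inv_mul_cancel_left]

/-- All involutions are conjugate. -/
theorem isConj_invol (hns : ¬ ((cA t)).Normal) {u : G} (hu : orderOf u = 2) : IsConj t u := by
  by_contra hcon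
  apply hns
  have key : ∀ v : G, IsConj t v → Subgroup.centralizer ({u} : Set G) =
      Subgroup.centralizer ({v} : Set G) := by
    intro v hv
    obtain ⟨g, rfl⟩ := isConj_iff.1 hv
    have hv2 : orderOf (g * t * g⁻¹) = 2 := by rw [TwoFusion.orderOf_conj', ht]
    rcases Nat.even_or_odd (orderOf (g * t * g⁻¹ * u)) with he | ho
    · obtain ⟨z, hz, hz1, hz2⟩ := TwoFusion.exists_involution_commute_of_even hv2 hu he
        (orderOf_pos _).ne'
      have hzne : z ≠ 1 := TwoFusion.involution_ne_one hz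
      have h1 := centralizer_eq hCA hz (mem_cent.2 hz1.symm) (TwoFusion.involution_ne_one hv2)
      have h2 := centralizer_eq hCA hz (mem_cent.2 hz2.symm) (TwoFusion.involution_ne_one hu)
      rw [h2, h1]
    · obtain ⟨r, -, hr, -⟩ := TwoFusion.exists_involution_conj_of_odd hv2 hu ho
      exact absurd ((isConj_iff.2 ⟨g, rfl⟩).trans (isConj_iff.2 ⟨r, hr⟩)) hcon
  refine ⟨fun a ha g => ?_⟩
  have h1 := (key t (IsConj.refl t)).symm.trans (key _ (isConj_iff.2 ⟨g, rfl⟩))
  change g * a * g⁻¹ ∈ Subgroup.centralizer ({t} : Set G)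
  rw [h1, mem_cent]
  exact (mem_cent.1 ha).map (MulAut.conj g).toMonoidHom

/-- Conjugation of `A` by an element of `N`. -/
def cj (h : cN t) : cA t →* cA t where
  toFun a := ⟨(h : G)⁻¹ * a * h, conj_mem_A hCA ht h.2 a.2⟩
  map_one' := Subtype.ext (by simp)
  map_mul' a b := Subtype.ext (by simp [mul_assoc])

@[simp]
theorem cj_coe (h : cN t) (a : cA t) : (cj hCA ht h a : G) = (h : G)⁻¹ * a * h := rfl

theorem cj_of_mem {h : cN t} (hh : (h : G) ∈ cA t) (a : cA t) : cj hCA ht h a = a :=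
  Subtype.ext (conj_eq_self hCA ht hh a.2)

theorem cj_injective (h : cN t) : Function.Injective (cj hCA ht h) := fun a b e => by
  have := congrArg Subtype.val e
  simpa [cj_coe] using this

theorem mem_of_cj_eq {a : cA t} (ha : a ≠ 1) {h : cN t} (e : cj hCA ht h a = a) :
    (h : G) ∈ cA t := by
  by_contra hn
  refine ha (Subtype.ext (eq_one_of_commute hCA ht a.2 hn ?_))
  have e1 : (h : G)⁻¹ * a * h = a := congrArg Subtype.val e
  calc (h : G) * a = (h : G) * ((h : G)⁻¹ * a * h) := by rw [e1]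
    _ = (a : G) * h := by group

open Classical in
/-- The `N`-orbit of an element of `A`. -/
def orb (a : cA t) : Finset (cA t) := univ.image fun h : cN t => cj hCA ht h a

open Classical in
theorem mem_orb {a b : cA t} : b ∈ orb hCA ht a ↔ ∃ h : cN t, cj hCA ht h a = b := by
  simp [orb]

theorem sum_orb {a : cA t} (ha : a ≠ 1) (F : cA t → ℂ) :
    ∑ h : cN t, F (cj hCA ht h a) = (Nat.card (cA t) : ℂ) * ∑ b ∈ orb hCA ht a, F b := by
  classical
  rw [← Finset.sum_fiberwise_of_maps_to (g := fun h : cN t => cj hCA ht h a)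
    (t := orb hCA ht a) (fun h _ => mem_orb hCA ht |>.2 ⟨h, rfl⟩), Finset.mul_sum]
  refine Finset.sum_congr rfl fun b hb => ?_
  obtain ⟨h₀, rfl⟩ := (mem_orb hCA ht).1 hb
  rw [Finset.sum_congr rfl (fun h hh => by rw [(Finset.mem_filter.1 hh).2]), Finset.sum_const,
    nsmul_eq_mul]
  congr 1
  rw [Nat.card_eq_fintype_card, ← Finset.card_univ]
  norm_cast
  refine (Finset.card_bij (fun (x : cA t) _ => (⟨(x : G), A_le_N hCA ht x.2⟩ * h₀ : cN t))
    ?_ ?_ ?_).symm
  · intro x _
    refine Finset.mem_filter.2 ⟨Finset.mem_univ _, Subtype.ext ?_⟩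
    simp only [cj_coe, Subgroup.coe_mul, mul_inv_rev]
    calc (h₀ : G)⁻¹ * (x : G)⁻¹ * a * ((x : G) * h₀) = (h₀ : G)⁻¹ * ((x : G)⁻¹ * a * x) * h₀ := by
          group
      _ = (h₀ : G)⁻¹ * a * h₀ := by rw [conj_eq_self hCA ht x.2 a.2]
  · intro x _ y _ e
    exact Subtype.ext (mul_right_cancel (congrArg (fun z : cN t => (z : G)) e))
  · intro h hh
    have e : cj hCA ht h a = cj hCA ht h₀ a := (Finset.mem_filter.1 hh).2
    have e' : cj hCA ht (h * h₀⁻¹) a = a := by
      have e1 : (h : G)⁻¹ * a * h = (h₀ : G)⁻¹ * a * h₀ := congrArg Subtype.val e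
      apply Subtype.ext
      simp only [cj_coe, Subgroup.coe_mul, Subgroup.coe_inv, mul_inv_rev, inv_inv]
      calc (h₀ : G) * (h : G)⁻¹ * a * ((h : G) * (h₀ : G)⁻¹)
          = (h₀ : G) * ((h : G)⁻¹ * a * h) * (h₀ : G)⁻¹ := by group
        _ = a := by rw [e1]; group
    exact ⟨⟨_, mem_of_cj_eq hCA ht ha e'⟩, Finset.mem_univ _,
      Subtype.ext (show (h : G) * (h₀ : G)⁻¹ * (h₀ : G) = h by group)⟩

/-- `t` as an element of `A`. -/
abbrev tA : cA t := ⟨t, t_mem hCA ht⟩

theorem tA_ne : tA hCA ht ≠ 1 := fun e => TwoFusion.involution_ne_one ht (congrArg Subtype.val e)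

/-- `|N : A|`. -/
def mA : ℕ := (orb hCA ht (tA hCA ht)).card

theorem card_N : Nat.card (cN t) = Nat.card (cA t) * mA hCA ht := by
  have h := sum_orb hCA ht (tA_ne hCA ht) (fun _ => 1)
  simp only [Finset.sum_const, nsmul_eq_mul, mul_one, Finset.card_univ,
    ← Nat.card_eq_fintype_card] at h
  exact_mod_cast h

theorem card_orb {a : cA t} (ha : a ≠ 1) : (orb hCA ht a).card = mA hCA ht := by
  have h := sum_orb hCA ht ha (fun _ => 1)
  simp only [Finset.sum_const, nsmul_eq_mul, mul_one, Finset.card_univ,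
    ← Nat.card_eq_fintype_card] at h
  have h2 : Nat.card (cN t) = Nat.card (cA t) * (orb hCA ht a).card := by exact_mod_cast h
  exact Nat.eq_of_mul_eq_mul_left Nat.card_pos (h2.symm.trans (card_N hCA ht))

theorem mA_dvd : mA hCA ht ∣ Nat.card (cA t) - 1 := by
  classical
  have h1 : ∀ B ∈ (univ.erase (1 : cA t)).image (orb hCA ht),
      ((univ.erase (1 : cA t)).filter fun a => orb hCA ht a = B).card = mA hCA ht := by
    intro B hB
    obtain ⟨a, ha, rfl⟩ := Finset.mem_image.1 hB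
    rw [← card_orb hCA ht (Finset.ne_of_mem_erase ha)]
    congr 1
    ext b
    simp only [Finset.mem_filter, Finset.mem_erase, Finset.mem_univ, and_true]
    constructor
    · rintro ⟨-, e⟩
      rw [← e]
      exact (mem_orb hCA ht).2 ⟨1, Subtype.ext (by simp)⟩
    · intro hb
      obtain ⟨h, rfl⟩ := (mem_orb hCA ht).1 hb
      refine ⟨fun e => Finset.ne_of_mem_erase ha (cj_injective hCA ht h (e.trans (map_one _).symm)),
        ?_⟩
      ext c
      simp only [mem_orb]
      constructor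
      · rintro ⟨k, rfl⟩
        exact ⟨h * k, Subtype.ext (by simp [mul_assoc])⟩
      · rintro ⟨k, rfl⟩
        exact ⟨h⁻¹ * k, Subtype.ext (by simp [mul_assoc])⟩
  have h2 := Finset.card_eq_sum_card_fiberwise (s := univ.erase (1 : cA t))
    (t := (univ.erase (1 : cA t)).image (orb hCA ht)) (f := orb hCA ht)
    (fun a ha => Finset.mem_image_of_mem _ ha)
  rw [Finset.sum_congr rfl h1, Finset.sum_const, smul_eq_mul,
    Finset.card_erase_of_mem (Finset.mem_univ _), Finset.card_univ] at h2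
  rw [Nat.card_eq_fintype_card]
  exact ⟨_, h2.trans (mul_comm _ _)⟩

variable (hns : ¬ (cA t).Normal)
include hns

theorem orb_eq {b : cA t} : b ∈ orb hCA ht (tA hCA ht) ↔ orderOf (b : G) = 2 := by
  rw [mem_orb]
  constructor
  · rintro ⟨h, rfl⟩
    rw [cj_coe]
    have := TwoFusion.orderOf_conj' (h : G)⁻¹ t
    rw [inv_inv] at this
    exact this.trans ht
  · intro hb
    obtain ⟨g, hg⟩ := isConj_iff.1 (isConj_invol hCA ht hns hb)
    have hgi : g⁻¹ ∈ cN t := mem_N_of_conj hCA ht (t_mem hCA ht) (TwoFusion.involution_ne_one ht)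
      (by rw [inv_inv, hg]; exact b.2)
    exact ⟨⟨g⁻¹, hgi⟩, Subtype.ext (by simp [hg])⟩

/-- The elements of `A` squaring to one. -/
def omg : Subgroup (cA t) where
  carrier := {a | a * a = 1}
  one_mem' := mul_one _
  mul_mem' := fun {a b} (ha : a * a = 1) (hb : b * b = 1) => by
    have hab : a * b = b * a := Subtype.ext (comm_A hCA ht a.2 b.2)
    calc a * b * (a * b) = a * (b * a) * b := by group
      _ = a * a * (b * b) := by rw [← hab]; group
      _ = 1 := by rw [ha, hb, mul_one]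
  inv_mem' := fun {a} (ha : a * a = 1) => by
    change a⁻¹ * a⁻¹ = 1
    rw [← mul_inv_rev, ha, inv_one]

theorem mem_omg {a : cA t} : a ∈ omg hCA ht ↔ a = 1 ∨ a ∈ orb hCA ht (tA hCA ht) := by
  rw [orb_eq hCA ht hns, Subgroup.orderOf_coe, orderOf_eq_prime_iff, pow_two]
  refine ⟨fun h => ?_, ?_⟩
  · by_cases h1 : a = 1
    · exact Or.inl h1
    · exact Or.inr ⟨h, h1⟩
  · rintro (rfl | ⟨h, -⟩)
    · exact one_mem _
    · exact h

theorem one_notMem_orb : (1 : cA t) ∉ orb hCA ht (tA hCA ht) := by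
  rw [orb_eq hCA ht hns]
  simp

theorem sum_omg (F : cA t → ℂ) :
    ∑ a : omg hCA ht, F a = F 1 + ∑ a ∈ orb hCA ht (tA hCA ht), F a := by
  classical
  rw [← Finset.sum_insert (one_notMem_orb hCA ht hns)]
  exact (Finset.sum_subtype _ (fun a => by rw [Finset.mem_insert, mem_omg hCA ht hns]) F).symm

theorem card_omg : Nat.card (omg hCA ht) = mA hCA ht + 1 := by
  have h := sum_omg hCA ht hns (fun _ => (1 : ℂ))
  simp only [Finset.sum_const, nsmul_eq_mul, mul_one, Finset.card_univ,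
    ← Nat.card_eq_fintype_card] at h
  rw [add_comm]
  exact_mod_cast h

theorem succ_card_le_index : Nat.card (cA t) + 1 ≤ (cN t).index := by
  classical
  obtain ⟨g, hg⟩ : ∃ g : G, g ∉ cN t := by
    by_contra hall
    push Not at hall
    exact hns ⟨fun a ha g => by
      have := conj_mem_A hCA ht (hall g⁻¹) ha
      rwa [inv_inv] at this⟩
  let f : Option (cA t) → G ⧸ cN t := fun o => o.elim (QuotientGroup.mk 1)
    (fun a => QuotientGroup.mk ((a : G) * g))
  have hf : Function.Injective f := by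
    rintro (_ | a) (_ | b) e
    · rfl
    · exfalso
      have e1 : (1 : G)⁻¹ * ((b : G) * g) ∈ cN t := QuotientGroup.eq.1 e
      rw [inv_one, one_mul] at e1
      exact hg (((cN t).mul_mem_cancel_left (A_le_N hCA ht b.2)).1 e1)
    · exfalso
      have e1 : (1 : G)⁻¹ * ((a : G) * g) ∈ cN t := QuotientGroup.eq.1 e.symm
      rw [inv_one, one_mul] at e1
      exact hg (((cN t).mul_mem_cancel_left (A_le_N hCA ht a.2)).1 e1)
    · have e1 : g⁻¹ * ((a : G)⁻¹ * b) * g ∈ cN t := by
        have := QuotientGroup.eq.1 e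
        rwa [mul_inv_rev, ← mul_assoc, mul_assoc g⁻¹] at this
      have hc : (a : G)⁻¹ * b ∈ cA t := mul_mem (inv_mem a.2) b.2
      have hd : orderOf (g⁻¹ * ((a : G)⁻¹ * b) * g) ∣ Nat.card (cA t) := by
        have h' := TwoFusion.orderOf_conj' g⁻¹ ((a : G)⁻¹ * b)
        rw [inv_inv] at h'
        rw [h']
        exact Subgroup.orderOf_dvd_natCard _ hc
      have h3 := mem_A_of_dvd hCA ht e1 hd
      by_contra hne
      exact hg (mem_N_of_conj hCA ht hc (fun h => hne (congrArg some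
        (Subtype.ext (inv_mul_eq_one.1 h)))) h3)
  have := Nat.card_le_card_of_injective f hf
  rw [Finite.card_option] at this
  exact this

/-- `l - μ` as a function on `A`. -/
def dif (l μ : cA t →* ℂˣ) : cA t → ℂ := fun a => (l a : ℂ) - (μ a : ℂ)

theorem card_mul_ind (l μ : cA t →* ℂˣ) (a : cA t) :
    (Nat.card (cA t) : ℂ) * Cfsg.indFun (cA t) (dif l μ) (a : G) =
      ∑ h : cN t, dif l μ (cj hCA ht h a) := by
  classical
  rw [CharInd.card_mul_indFun]
  have h0 : ∀ x : G, x ∉ cN t →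
      Cfsg.extendByZero (cA t) (dif l μ) (x⁻¹ * a * x) = 0 := by
    intro x hx
    by_cases ha : (a : G) = 1
    · rw [ha, mul_one, inv_mul_cancel, CharInd.extendByZero_mem _ _ (one_mem _)]
      simp [dif, show (⟨1, one_mem _⟩ : cA t) = 1 from rfl]
    · exact CharInd.extendByZero_notMem _ _ fun hmem => hx (mem_N_of_conj hCA ht a.2 ha hmem)
  rw [← Finset.sum_filter_of_ne (p := fun x => x ∈ cN t) (fun x _ hne => by
    by_contra hx
    exact hne (h0 x hx)), Finset.sum_subtype (univ.filter fun x => x ∈ cN t) (p := fun x => x ∈ cN t)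
    (fun x => by simp)]
  exact Finset.sum_congr rfl fun h _ => CharInd.extendByZero_mem _ _ (conj_mem_A hCA ht h.2 a.2)

theorem ind_one (l μ : cA t →* ℂˣ) : Cfsg.indFun (cA t) (dif l μ) 1 = 0 := by
  rw [CharInd.indFun_one_apply]
  simp [dif]

variable {l μ : cA t →* ℂˣ} (hlO : ∀ a ∈ omg hCA ht, l a = 1)
  (hμO : ∃ a ∈ omg hCA ht, μ a ≠ 1)
include hlO hμO

theorem ind_t : Cfsg.indFun (cA t) (dif l μ) t = (mA hCA ht : ℂ) + 1 := by
  classical
  have hne : (Nat.card (cA t) : ℂ) ≠ 0 := CharInd.natCard_ne_zero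
  apply mul_left_cancel₀ hne
  have h1 := card_mul_ind hCA ht hns l μ (tA hCA ht)
  rw [h1, sum_orb hCA ht (tA_ne hCA ht)]
  congr 1
  have h2 := sum_omg hCA ht hns (dif l μ)
  rw [show dif l μ 1 = 0 by simp [dif], zero_add] at h2
  rw [← h2]
  have hμ : (μ.comp (omg hCA ht).subtype) ≠ 1 := by
    obtain ⟨a, ha, hne'⟩ := hμO
    exact fun e => hne' (DFunLike.congr_fun e ⟨a, ha⟩)
  have h3 := Char.monoidHom_sum_eq_zero hμ
  simp only [MonoidHom.comp_apply, Subgroup.coe_subtype] at h3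
  simp only [dif, Finset.sum_sub_distrib, h3, sub_zero]
  rw [Finset.sum_congr rfl (fun a _ => by rw [hlO a a.2, Units.val_one]), Finset.sum_const,
    Finset.card_univ, ← Nat.card_eq_fintype_card, card_omg hCA ht hns]
  simp

/-- The class multiplication identity. -/
theorem key_identity (P Q : Cfsg.IrrCharacter G)
    (hPQ : Cfsg.indFun (cA t) (dif l μ) = (P : G → ℂ) - (Q : G → ℂ)) :
    ((P : G → ℂ) t + (Q : G → ℂ) t) * ((cA t).index : ℂ) =
      ((mA hCA ht : ℂ) - 1) * (P : G → ℂ) 1 := by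
  classical
  set D := Cfsg.indFun (cA t) (dif l μ) with hD
  have hdeg : (Q : G → ℂ) 1 = (P : G → ℂ) 1 := by
    have h := congrFun hPQ 1
    rw [hD, ind_one hCA ht hns l μ, Pi.sub_apply] at h
    exact (sub_eq_zero.1 h.symm).symm
  have hR : ∑ g : G, D (t * (g * t * g⁻¹)) = (Nat.card G : ℂ) *
      ((P : G → ℂ) t * (P : G → ℂ) t - (Q : G → ℂ) t * (Q : G → ℂ) t) / (P : G → ℂ) 1 := by
    simp only [hPQ, Pi.sub_apply, Finset.sum_sub_distrib]
    rw [BlocksChar.sum_conj_mul P.2, BlocksChar.sum_conj_mul Q.2, hdeg]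
    ring
  have hz : ∀ g : G, g * t * g⁻¹ ∉ cA t → D (t * (g * t * g⁻¹)) = 0 := by
    intro g hg
    refine CharInd.indFun_eq_zero_of_forall _ _ fun x hx => hg ?_
    set u := g * t * g⁻¹ with hu
    have hu2 : orderOf u = 2 := by rw [hu, TwoFusion.orderOf_conj', ht]
    by_cases h1 : t * u = 1
    · rw [← (eq_inv_of_mul_eq_one_left h1).trans (TwoFusion.involution_inv hu2)]
      exact t_mem hCA ht
    set t' := x⁻¹ * t * x with ht'
    have ht'2 : orderOf t' = 2 := by
      have := TwoFusion.orderOf_conj' x⁻¹ t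
      rw [inv_inv] at this
      rw [ht', this, ht]
    set a := x⁻¹ * (t * u) * x with ha
    have ha1 : a ≠ 1 := fun e => h1 (by
      calc t * u = x * a * x⁻¹ := by rw [ha]; group
        _ = 1 := by rw [e]; group)
    have hinv : t'⁻¹ * a * t' = a⁻¹ := by
      apply eq_inv_of_mul_eq_one_left
      rw [ht', ha]
      calc (x⁻¹ * t * x)⁻¹ * (x⁻¹ * (t * u) * x) * (x⁻¹ * t * x) * (x⁻¹ * (t * u) * x)
          = x⁻¹ * (u * (t * t) * u) * x := by group
        _ = 1 := by
          rw [TwoFusion.involution_mul_self ht, mul_one, TwoFusion.involution_mul_self hu2]; group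
    have ht'A : t' ∈ cA t := invol_mem hCA ht ht'2
      (mem_N_of_conj hCA ht hx ha1 (hinv ▸ inv_mem hx))
    have hxN : x ∈ cN t := mem_N_of_conj hCA ht (t_mem hCA ht) (TwoFusion.involution_ne_one ht) ht'A
    have h2 := conj_mem_A hCA ht (inv_mem hxN) (mul_mem (inv_mem ht'A) hx)
    have h3 : x⁻¹⁻¹ * (t'⁻¹ * a) * x⁻¹ = u := by rw [ht', ha]; group
    rwa [h3] at h2
  have hL : ∑ g : G, D (t * (g * t * g⁻¹)) =
      (Nat.card (cA t) : ℂ) * ((mA hCA ht : ℂ) - 1) * D t := by
    rw [← Finset.sum_filter_of_ne (p := fun g => g ∈ cN t) (fun g _ hne => by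
      by_contra hgN
      refine hne (hz g fun hmem => hgN ?_)
      have := mem_N_of_conj hCA ht (t_mem hCA ht) (TwoFusion.involution_ne_one ht)
        (g := g⁻¹) (by rwa [inv_inv])
      simpa using inv_mem this)]
    rw [Finset.sum_subtype (univ.filter fun x => x ∈ cN t) (p := fun x => x ∈ cN t)
      (fun x => by simp)]
    rw [← Equiv.sum_comp (Equiv.inv (cN t))]
    simp only [Equiv.inv_apply, Subgroup.coe_inv, inv_inv]
    have h := sum_orb hCA ht (tA_ne hCA ht) (fun b : cA t => D (t * b))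
    simp only [cj_coe] at h
    refine h.trans ?_
    rw [mul_assoc]
    congr 1
    have hmem : tA hCA ht ∈ orb hCA ht (tA hCA ht) := (orb_eq hCA ht hns).2 ht
    rw [← Finset.add_sum_erase _ _ hmem, show t * (tA hCA ht : G) = 1 from
      TwoFusion.involution_mul_self ht, hD, ind_one hCA ht hns l μ, zero_add, ← hD]
    have hc : ∀ b ∈ (orb hCA ht (tA hCA ht)).erase (tA hCA ht), D (t * b) = D t := by
      intro b hb
      obtain ⟨hb1, hb2⟩ := Finset.mem_erase.1 hb
      have h2 : orderOf (b : G) = 2 := (orb_eq hCA ht hns).1 hb2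
      have h3 : orderOf (t * (b : G)) = 2 := by
        refine orderOf_eq_prime ?_ fun e => hb1 (Subtype.ext ?_)
        · rw [pow_two]
          calc t * (b : G) * (t * b) = t * ((b : G) * t) * b := by group
            _ = (t * t) * ((b : G) * b) := by rw [← comm_A hCA ht (t_mem hCA ht) b.2]; group
            _ = 1 := by rw [TwoFusion.involution_mul_self ht, TwoFusion.involution_mul_self h2,
              mul_one]
        · exact ((eq_inv_of_mul_eq_one_left e).trans (TwoFusion.involution_inv h2)).symm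
      exact (Char.isClassFunction_eq_of_isConj (CharInd.indFun_isClassFunction _ _)
        (isConj_invol hCA ht hns h3)).symm
    rw [Finset.sum_congr rfl hc, Finset.sum_const, Finset.card_erase_of_mem hmem, nsmul_eq_mul,
      Nat.cast_sub (Finset.one_le_card.2 ⟨_, hmem⟩)]
    simp [mA]
  have hDt : D t = (P : G → ℂ) t - (Q : G → ℂ) t := congrFun hPQ t
  have hDt' : (P : G → ℂ) t - (Q : G → ℂ) t ≠ 0 := by
    rw [← hDt, hD, ind_t hCA ht hns hlO hμO]
    exact Nat.cast_add_one_ne_zero _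
  have h := hR.symm.trans hL
  rw [hDt, div_eq_iff (Char.irr_one_ne_zero P.2),
    show (Nat.card G : ℂ) = (Nat.card (cA t) : ℂ) * ((cA t).index : ℂ) by
      rw [← Nat.cast_mul, Subgroup.card_mul_index]] at h
  have hne : (Nat.card (cA t) : ℂ) * ((P : G → ℂ) t - (Q : G → ℂ) t) ≠ 0 :=
    mul_ne_zero CharInd.natCard_ne_zero hDt'
  apply mul_left_cancel₀ hne
  linear_combination h

omit hlO hμO

/-- `a ↦ a⁻¹ * h⁻¹ * a * h` is onto for `h` outside `A`. -/
theorem exists_quot {h : cN t} (hh : (h : G) ∉ cA t) (c : cA t) :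
    ∃ a : cA t, a⁻¹ * cj hCA ht h a = c := by
  refine (Finite.injective_iff_surjective
    (f := fun a : cA t => a⁻¹ * cj hCA ht h a)).1 (fun a b e => ?_) c
  have hab : ∀ u v : cA t, u * v = v * u := fun u v => Subtype.ext (comm_A hCA ht u.2 v.2)
  have e' : cj hCA ht h (b⁻¹ * a) = b⁻¹ * a := by
    rw [map_mul, map_inv]
    calc (cj hCA ht h b)⁻¹ * cj hCA ht h a
        = (cj hCA ht h b)⁻¹ * (a * (a⁻¹ * cj hCA ht h a)) := by group
      _ = (cj hCA ht h b)⁻¹ * (a * (b⁻¹ * cj hCA ht h b)) := by rw [show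
            a⁻¹ * cj hCA ht h a = b⁻¹ * cj hCA ht h b from e]
      _ = (cj hCA ht h b)⁻¹ * (a * b⁻¹) * cj hCA ht h b := by group
      _ = a * b⁻¹ := by rw [hab (cj hCA ht h b)⁻¹, mul_assoc, inv_mul_cancel, mul_one]
      _ = b⁻¹ * a := hab _ _
  by_contra hne
  exact hh (mem_of_cj_eq hCA ht (fun h1 => hne (inv_mul_eq_one.1 h1).symm) e')

theorem linear_fix {l : cA t →* ℂˣ} (hl : l ≠ 1) {h : cN t}
    (e : l.comp (cj hCA ht h) = l) : (h : G) ∈ cA t := by
  by_contra hh
  refine hl (MonoidHom.ext fun c => ?_)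
  obtain ⟨a, rfl⟩ := exists_quot hCA ht hns hh c
  rw [map_mul, map_inv, show l (cj hCA ht h a) = l a from DFunLike.congr_fun e a, inv_mul_cancel,
    MonoidHom.one_apply]

theorem linear_fix_omg {μ : cA t →* ℂˣ} (hμ : ∃ a ∈ omg hCA ht, μ a ≠ 1) {h : cN t}
    (e : ∀ a ∈ omg hCA ht, μ (cj hCA ht h a) = μ a) : (h : G) ∈ cA t := by
  by_contra hh
  obtain ⟨c, hc, hne⟩ := hμ
  obtain ⟨a, ha⟩ := exists_quot hCA ht hns hh c
  have hao : a ∈ omg hCA ht := by
    have hb : ∀ u v : cA t, u * v = v * u := fun u v => Subtype.ext (comm_A hCA ht u.2 v.2)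
    have hc' : c * c = 1 := hc
    have h1 : (a * a)⁻¹ * cj hCA ht h (a * a) = 1 := by
      rw [← hc', ← ha, map_mul, mul_inv_rev]
      calc a⁻¹ * a⁻¹ * (cj hCA ht h a * cj hCA ht h a)
          = a⁻¹ * (a⁻¹ * cj hCA ht h a) * cj hCA ht h a := by group
        _ = a⁻¹ * (cj hCA ht h a * a⁻¹) * cj hCA ht h a := by rw [hb a⁻¹ (cj hCA ht h a)]
        _ = _ := by group
    by_contra hne'
    exact hh (mem_of_cj_eq hCA ht hne' (inv_mul_eq_one.1 h1).symm)
  refine hne ?_
  rw [← ha, map_mul, map_inv, e a hao, inv_mul_cancel]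

/-- A linear character of `A` as an irreducible character. -/
def lc (f : cA t →* ℂˣ) : Cfsg.IrrCharacter (cA t) :=
  ⟨fun a => (f a : ℂ), Char.isIrrCharacter_monoidHom f⟩

theorem lc_inj {f g : cA t →* ℂˣ} : (lc (t := t) f = lc g) ↔ f = g :=
  ⟨fun h => Char.monoidHom_coe_injective (congrArg Subtype.val h), fun h => h ▸ rfl⟩

theorem classInner_dif_dif (l₁ μ₁ l₂ μ₂ : cA t →* ℂˣ) [DecidableEq (cA t →* ℂˣ)] :
    Cfsg.classInner (dif l₁ μ₁) (dif l₂ μ₂) =
      (if l₁ = l₂ then (1 : ℂ) else 0) - (if l₁ = μ₂ then 1 else 0)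
        - ((if μ₁ = l₂ then 1 else 0) - (if μ₁ = μ₂ then 1 else 0)) := by
  classical
  have e : ∀ l μ : cA t →* ℂˣ, dif l μ = (lc l : cA t → ℂ) - (lc μ : cA t → ℂ) := fun _ _ => rfl
  rw [e, e, Char.classInner_sub_left, Char.classInner_sub_right, Char.classInner_sub_right]
  simp only [Char.classInner_irrCharacter, lc_inj hCA ht hns]

open Classical in
theorem inner_ind {l μ₁ μ₂ : cA t →* ℂˣ} (hl : l ≠ 1) (hlO : ∀ a ∈ omg hCA ht, l a = 1)
    (hμ1 : ∃ a ∈ omg hCA ht, μ₁ a ≠ 1) (h12 : ∀ a ∈ omg hCA ht, μ₁ a = μ₂ a) :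
    Cfsg.classInner (Cfsg.indFun (cA t) (dif l μ₁)) (Cfsg.indFun (cA t) (dif l μ₂)) =
      1 + (if μ₁ = μ₂ then 1 else 0) := by
  have hne : (Nat.card (cA t) : ℂ) ≠ 0 := CharInd.natCard_ne_zero
  apply mul_left_cancel₀ hne
  rw [CharInd.classInner_indFun_right _ _ (CharInd.indFun_isClassFunction _ _),
    ← Char.classInner_smul_left]
  have e : ((Nat.card (cA t) : ℂ) • fun a : cA t => Cfsg.indFun (cA t) (dif l μ₁) (a : G)) =
      ∑ h : cN t, dif (l.comp (cj hCA ht h)) (μ₁.comp (cj hCA ht h)) := by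
    funext a
    rw [Pi.smul_apply, smul_eq_mul, card_mul_ind hCA ht hns, Finset.sum_apply]
    rfl
  rw [e, Char.classInner_sum_left]
  have hterm : ∀ h : cN t,
      Cfsg.classInner (dif (l.comp (cj hCA ht h)) (μ₁.comp (cj hCA ht h))) (dif l μ₂) =
      if (h : G) ∈ cA t then 1 + (if μ₁ = μ₂ then 1 else 0) else 0 := by
    intro h
    rw [classInner_dif_dif hCA ht hns]
    have hh' : ∀ a ∈ omg hCA ht, cj hCA ht h a ∈ omg hCA ht := fun a ha => by
      have ha' : a * a = 1 := ha
      change cj hCA ht h a * cj hCA ht h a = 1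
      rw [← map_mul, ha', map_one]
    obtain ⟨c, hc, hc1⟩ := hμ1
    have n1 : l.comp (cj hCA ht h) ≠ μ₂ := fun e => hc1 (by
      rw [h12 c hc, ← e]; exact hlO _ (hh' c hc))
    have n2 : μ₁.comp (cj hCA ht h) ≠ l := fun e => by
      obtain ⟨b, hb⟩ := Finite.injective_iff_surjective.1 (cj_injective hCA ht h) c
      have hbo : b ∈ omg hCA ht := by
        have hc' : c * c = 1 := hc
        rw [← hb, ← map_mul] at hc'
        exact cj_injective hCA ht h (hc'.trans (map_one _).symm)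
      apply hc1
      rw [← hb, show μ₁ (cj hCA ht h b) = l b from DFunLike.congr_fun e b]
      exact hlO b hbo
    rw [if_neg n1, if_neg n2]
    by_cases hh : (h : G) ∈ cA t
    · have hid : ∀ f : cA t →* ℂˣ, f.comp (cj hCA ht h) = f := fun f =>
        MonoidHom.ext fun a => by rw [MonoidHom.comp_apply, cj_of_mem hCA ht hh]
      rw [hid, hid, if_pos rfl, if_pos hh]
      ring
    · have n3 : l.comp (cj hCA ht h) ≠ l := fun e => hh (linear_fix hCA ht hns hl e)
      have n4 : μ₁.comp (cj hCA ht h) ≠ μ₂ := fun e => hh (linear_fix_omg hCA ht hns ⟨c, hc, hc1⟩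
        (fun a ha => (DFunLike.congr_fun e a).trans (h12 a ha).symm))
      rw [if_neg n3, if_neg n4, if_neg hh]
      ring
  rw [Finset.sum_congr rfl fun h _ => hterm h, ← Finset.sum_filter, Finset.sum_const, nsmul_eq_mul]
  congr 1
  rw [Nat.card_eq_fintype_card, ← Finset.card_univ]
  norm_cast
  exact Finset.card_bij (fun h hh => (⟨(h : G), (Finset.mem_filter.1 hh).2⟩ : cA t))
    (fun _ _ => Finset.mem_univ _)
    (fun _ _ _ _ e => Subtype.ext (congrArg Subtype.val e :))
    (fun a _ => ⟨⟨(a : G), A_le_N hCA ht a.2⟩, Finset.mem_filter.2 ⟨Finset.mem_univ _, a.2⟩, rfl⟩)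

theorem isGen_ind (l μ : cA t →* ℂˣ) :
    Cfsg.IsGeneralizedCharacter G (Cfsg.indFun (cA t) (dif l μ)) := by
  rw [show dif l μ = (lc l : cA t → ℂ) - (lc μ : cA t → ℂ) from rfl, CharInd.indFun_sub]
  exact Char.isGeneralizedCharacter_sub
    (Char.isGeneralizedCharacter_of_isCharacter
      (CharInd.isCharacter_indFun _ (Char.isCharacter_of_irr (lc l).2)))
    (Char.isGeneralizedCharacter_of_isCharacter
      (CharInd.isCharacter_indFun _ (Char.isCharacter_of_irr (lc μ).2)))

open Classical in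
/-- A family of irreducible characters of large degree. -/
theorem exists_family {j : ℕ} (M : Fin j → (cA t →* ℂˣ)) (hM : Function.Injective M)
    {l : cA t →* ℂˣ} (hl : l ≠ 1) (hlO : ∀ a ∈ omg hCA ht, l a = 1)
    (hμ : ∀ i, ∃ a ∈ omg hCA ht, M i a ≠ 1) (h12 : ∀ i k, ∀ a ∈ omg hCA ht, M i a = M k a) :
    ∃ E : Fin j → Cfsg.IrrCharacter G, Function.Injective E ∧ ∀ i, ∃ P Q : Cfsg.IrrCharacter G,
      (E i : G → ℂ) 1 = (P : G → ℂ) 1 ∧
      Cfsg.indFun (cA t) (dif l (M i)) = (P : G → ℂ) - (Q : G → ℂ) := by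
  have hD : ∀ i, ∃ P Q : Cfsg.IrrCharacter G, P ≠ Q ∧
      Cfsg.indFun (cA t) (dif l (M i)) = (P : G → ℂ) - (Q : G → ℂ) := fun i =>
    CharInd.genChar_norm_two (isGen_ind hCA ht hns l (M i)) (ind_one hCA ht hns l (M i))
      (by rw [inner_ind hCA ht hns hl hlO (hμ i) (h12 i i), if_pos rfl]; norm_num)
  choose P Q hPQ hD using hD
  have hdeg : ∀ i, (Q i : G → ℂ) 1 = (P i : G → ℂ) 1 := fun i => by
    have h := congrFun (hD i) 1
    rw [ind_one hCA ht hns, Pi.sub_apply] at h
    exact (sub_eq_zero.1 h.symm).symm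
  have hrel : ∀ i k, i ≠ k → (P i = P k ∧ Q i ≠ Q k) ∨ (P i ≠ P k ∧ Q i = Q k) := by
    intro i k hik
    have h := inner_ind hCA ht hns hl hlO (hμ i) (h12 i k)
    rw [hD, hD, if_neg (fun e => hik (hM e)), Char.classInner_sub_left, Char.classInner_sub_right,
      Char.classInner_sub_right] at h
    simp only [Char.classInner_irrCharacter] at h
    by_cases h1 : P i = P k <;> by_cases h2 : Q i = Q k
    · exfalso
      rw [if_pos h1, if_pos h2, if_neg (fun e => hPQ k (h1.symm.trans e)),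
        if_neg (fun e => hPQ k (e.symm.trans h2))] at h
      norm_num at h
    · exact Or.inl ⟨h1, h2⟩
    · exact Or.inr ⟨h1, h2⟩
    · exfalso
      rw [if_neg h1, if_neg h2] at h
      split_ifs at h <;> norm_num at h
  by_cases hall : ∀ i k, i ≠ k → P i ≠ P k
  · exact ⟨P, fun i k e => by_contra fun hik => hall i k hik e, fun i => ⟨P i, Q i, rfl, hD i⟩⟩
  · push Not at hall
    obtain ⟨a, b, hab, hP⟩ := hall
    have hall' : ∀ i, P i = P a := by
      intro i
      by_contra hne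
      have hia : i ≠ a := fun e => hne (e ▸ rfl)
      have hib : i ≠ b := fun e => hne (e ▸ hP.symm)
      rcases hrel i a hia with ⟨h, -⟩ | ⟨-, hq⟩
      · exact hne h
      rcases hrel i b hib with ⟨h, -⟩ | ⟨-, hq'⟩
      · exact hne (h.trans hP.symm)
      rcases hrel a b hab with ⟨-, h⟩ | ⟨h, -⟩
      · exact h (hq.symm.trans hq')
      · exact h hP
    refine ⟨Q, fun i k e => by_contra fun hik => ?_, fun i => ⟨P i, Q i, hdeg i, hD i⟩⟩
    rcases hrel i k hik with ⟨-, h⟩ | ⟨h, -⟩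
    · exact h e
    · exact h ((hall' i).trans (hall' k).symm)

/-- Involution centralisers are elementary abelian. -/
theorem sq_eq_one (hm : 2 ≤ mA hCA ht) {a : G} (ha : a ∈ cA t) : a * a = 1 := by
  classical
  by_contra hne
  have hlt : omg hCA ht ≠ ⊤ := fun e => hne
    (congrArg Subtype.val (show (⟨a, ha⟩ : cA t) ∈ omg hCA ht by rw [e]; exact Subgroup.mem_top _))
  letI : CommGroup (cA t) :=
    { (inferInstance : Group (cA t)) with
      mul_comm := fun x y => Subtype.ext (comm_A hCA ht x.2 y.2) }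
  set O := omg hCA ht with hO
  set j := O.index with hj
  set m := mA hCA ht with hmdef
  have hAcard : Nat.card (cA t) = (m + 1) * j := by
    rw [← card_omg hCA ht hns, ← hO, hj, Subgroup.card_mul_index]
  have hj1 : 1 < j := by
    have h0 : j ≠ 1 := fun e => hlt (Subgroup.index_eq_one.1 e)
    have h1 : j ≠ 0 := fun e => by
      have := Nat.card_pos (α := cA t)
      rw [hAcard, e, mul_zero] at this
      omega
    omega
  -- `j - 1` is a positive multiple of `m`
  have hjm : m + 1 ≤ j := by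
    have h1 : m ∣ Nat.card (cA t) - 1 := mA_dvd hCA ht
    rw [hAcard, show (m + 1) * j - 1 = m * j + (j - 1) by rw [add_mul, one_mul]; omega] at h1
    have h2 : m ∣ j - 1 := (Nat.dvd_add_right (Dvd.intro j rfl)).1 h1
    have := Nat.le_of_dvd (by omega) h2
    omega
  -- characters trivial on `O`
  have hker : Nat.card (MonoidHom.domRestrictHom O ℂˣ).ker = j := by
    rw [CommGroup.card_domRestrictHom_ker]; rfl
  haveI : Finite (cA t →* ℂˣ) := Char.monoidHom_complex_finite
  let e : Fin j ≃ (MonoidHom.domRestrictHom O ℂˣ).ker :=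
    (Fintype.equivFinOfCardEq (by rw [← Nat.card_eq_fintype_card, hker])).symm
  have heO : ∀ i, ∀ x ∈ O, (e i : cA t →* ℂˣ) x = 1 := fun i x hx =>
    DFunLike.congr_fun (MonoidHom.mem_ker.1 (e i).2) (⟨x, hx⟩ : O)
  obtain ⟨i₀, hi₀⟩ : ∃ i, (e i : cA t →* ℂˣ) ≠ 1 := by
    by_contra hall
    push Not at hall
    have := e.injective (Subtype.ext ((hall ⟨0, by omega⟩).trans (hall ⟨1, hj1⟩).symm))
    simp at this
  obtain ⟨μ₀, hμ₀⟩ : ∃ μ : cA t →* ℂˣ, μ (tA hCA ht) ≠ 1 :=
    CommGroup.exists_apply_ne_one_of_hasEnoughRootsOfUnity (cA t) ℂ (tA_ne hCA ht)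
  have htO : tA hCA ht ∈ O := Subtype.ext (TwoFusion.involution_mul_self ht)
  let M : Fin j → (cA t →* ℂˣ) := fun i => μ₀ * (e i : cA t →* ℂˣ)
  have hMO : ∀ i, ∀ x ∈ O, M i x = μ₀ x := fun i x hx => by
    change μ₀ x * (e i : cA t →* ℂˣ) x = μ₀ x
    rw [heO i x hx, mul_one]
  have hμ : ∀ i, ∃ x ∈ omg hCA ht, M i x ≠ 1 := fun i =>
    ⟨tA hCA ht, htO, by rw [hMO i _ htO]; exact hμ₀⟩
  obtain ⟨E, hE, hdata⟩ := exists_family hCA ht hns M
    (fun i k h => e.injective (Subtype.ext (mul_left_cancel (h : μ₀ * _ = μ₀ * _))))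
    hi₀ (fun x hx => heO i₀ x hx) hμ (fun i k x hx => (hMO i x hx).trans (hMO k x hx).symm)
  -- every member has degree at least `|G : A| / (m - 1)`
  set I := (cA t).index with hI
  have hbig : ∀ i, ∃ n : ℕ, (E i : G → ℂ) 1 = n ∧ I ≤ n * (m - 1) := by
    intro i
    obtain ⟨P, Q, hdeg, hPQ⟩ := hdata i
    obtain ⟨n, hn, hn'⟩ := Char.irr_one_pos P.2
    refine ⟨n, hdeg.trans hn', ?_⟩
    obtain ⟨u, hu, -⟩ := SmallGroups.Exceptional.exists_involution_value
      (Char.isCharacter_of_irr P.2) hn' ht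
    obtain ⟨n', -, hn''⟩ := Char.irr_one_pos Q.2
    obtain ⟨v, hv, -⟩ := SmallGroups.Exceptional.exists_involution_value
      (Char.isCharacter_of_irr Q.2) hn'' ht
    have h := key_identity hCA ht hns (fun x hx => heO i₀ x hx) (hμ i) P Q hPQ
    rw [hu, hv, hn', ← hmdef, ← hI] at h
    have h' : (u + v) * (I : ℤ) = ((m : ℤ) - 1) * n := by exact_mod_cast h
    have hne' : u + v ≠ 0 := by
      intro h0
      rw [h0, zero_mul] at h'
      rcases mul_eq_zero.1 h'.symm with h1 | h1
      · omega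
      · omega
    have h2 : (I : ℤ) ≤ ((m : ℤ) - 1) * n := by
      rw [← h']
      have hpos : 0 < ((m : ℤ) - 1) * n := mul_pos (by omega) (by omega)
      rw [← h'] at hpos
      have h3 : 0 < u + v := pos_of_mul_pos_left hpos (Int.natCast_nonneg I)
      exact le_mul_of_one_le_left (Int.natCast_nonneg I) h3
    have h4 : ((n * (m - 1) : ℕ) : ℤ) = ((m : ℤ) - 1) * n := by
      rw [Nat.cast_mul, Nat.cast_sub (by omega)]; push_cast; ring
    exact_mod_cast h2.trans_eq h4.symm
  choose n hn hIn using hbig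
  choose d hd0 hd using fun χ : Cfsg.IrrCharacter G => Char.irr_one_pos χ.2
  have hsq : ∑ χ : Cfsg.IrrCharacter G, d χ ^ 2 = Nat.card G := by
    have h := Char.sum_irr_mul_conj (1 : G) 1
    rw [if_pos (IsConj.refl _), show Subgroup.centralizer ({(1 : G)} : Set G) = ⊤ from
      eq_top_iff.2 fun x _ => mem_cent.2 (Commute.one_right x), Subgroup.card_top] at h
    simp only [hd, map_natCast] at h
    have h' : ((∑ χ : Cfsg.IrrCharacter G, d χ ^ 2 : ℕ) : ℂ) = (Nat.card G : ℂ) := by
      push_cast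
      simp only [pow_two]
      convert h using 1
    exact_mod_cast h'
  have hsub : ∑ i : Fin j, n i ^ 2 ≤ Nat.card G := by
    rw [← hsq]
    have e1 : ∑ i : Fin j, n i ^ 2 = ∑ χ ∈ univ.map ⟨E, hE⟩, d χ ^ 2 := by
      rw [Finset.sum_map]
      refine Finset.sum_congr rfl fun i _ => ?_
      have h5 := (hn i).symm.trans (hd (E i))
      rw [Nat.cast_inj] at h5
      change n i ^ 2 = d (E i) ^ 2
      rw [h5]
    rw [e1]
    exact Finset.sum_le_sum_of_subset (Finset.subset_univ _)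
  have hfin : j * I ^ 2 ≤ Nat.card G * (m - 1) ^ 2 :=
    calc j * I ^ 2 = ∑ _i : Fin j, I ^ 2 := by simp
      _ ≤ ∑ i : Fin j, (n i * (m - 1)) ^ 2 :=
          Finset.sum_le_sum fun i _ => Nat.pow_le_pow_left (hIn i) 2
      _ = (∑ i : Fin j, n i ^ 2) * (m - 1) ^ 2 := by rw [Finset.sum_mul]; simp [mul_pow]
      _ ≤ Nat.card G * (m - 1) ^ 2 := Nat.mul_le_mul_right _ hsub
  rw [← Subgroup.card_mul_index (cA t), ← hI, hAcard] at hfin
  have hIpos : 0 < I := Nat.pos_of_ne_zero Subgroup.index_ne_zero_of_finite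
  have h1 : I ≤ (m + 1) * (m - 1) ^ 2 := by
    refine Nat.le_of_mul_le_mul_left (c := j * I) ?_ (by positivity)
    nlinarith [hfin]
  have h2 : I = m * (cN t).index := by
    have e1 := Subgroup.card_mul_index (cA t)
    rw [← Subgroup.card_mul_index (cN t), card_N hCA ht, mul_assoc] at e1
    exact Nat.eq_of_mul_eq_mul_left Nat.card_pos e1
  have h3 := succ_card_le_index hCA ht hns
  have h4 : (m - 1) ^ 2 < m * (m + 1) := by
    obtain ⟨k, hk⟩ : ∃ k, m = k + 1 := ⟨m - 1, by omega⟩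
    rw [hk, Nat.add_sub_cancel]
    nlinarith
  have h5 : m * ((m + 1) * (m + 1)) < I := by
    rw [h2]
    refine Nat.mul_lt_mul_of_pos_left ?_ (by omega)
    calc (m + 1) * (m + 1) ≤ (m + 1) * j := Nat.mul_le_mul_left _ hjm
      _ < Nat.card (cA t) + 1 := by omega
      _ ≤ _ := h3
  nlinarith [Nat.mul_le_mul_left (m + 1) h4.le]

end Cfsg.Agent.ClassicalMax.SimpleCA
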