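import Mathlib
import Cfsg.Agent.GeoClasses.Basic

/-!
Over the field with two elements a tensor decomposition `2 ⊗ n` lies in the normaliser of a field
of degree 2, because `GL_2(2)` normalises the field with four elements.
-/

set_option autoImplicit false
set_option linter.style.haveILetI false

namespace Cfsg.Agent.ClassicalMax

open Matrix Cfsg.Geo Module
open scoped MatrixGroups Matrix Kronecker

variable {ι : Type} [Fintype ι] [DecidableEq ι] {F : Type*} [Field F] [Fintype F]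

/-- The standard element of order three. -/
def omegaTwo (F : Type*) [Field F] : Matrix (Fin 2) (Fin 2) F := !![0, 1; 1, 1]

omit [Fintype F] in
lemma eq_zero_or_one_of_card_two [Fintype F] (hF : Fintype.card F = 2) (a : F) : a = 0 ∨ a = 1 := by
  classical
  by_contra h
  push Not at h
  have : ({0, 1, a} : Finset F).card = 3 := by
    rw [Finset.card_insert_of_notMem (by simp [h.1.symm]), Finset.card_pair h.2.symm]
  have := Finset.card_le_univ ({0, 1, a} : Finset F)
  omega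

/-- Tensor decompositions with a factor of dimension 2 over the field with two elements. -/
theorem tensorProduct_le_fieldNormalizer_of_two {n : ℕ} (hn : 0 < n) (hF : Fintype.card F = 2)
    (e : ι ≃ Fin 2 × Fin n) (P : GL ι F) :
    ∃ K : Subalgebra F (Matrix ι ι F), IsFieldSubalgebra 2 K ∧
      tensorProductSubgroup 2 n e P ≤ subalgebraNormalizer K := by
  classical
  have h01 := eq_zero_or_one_of_card_two hF
  haveI : CharP F 2 := by
    have h : ringChar F = 2 := FiniteField.even_card_iff_char_two.mpr (by omega)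
    exact h ▸ ringChar.charP F
  have h2 : (1 : F) + 1 = 0 := CharTwo.add_self_eq_zero 1
  let R : Matrix (Fin 2 × Fin n) (Fin 2 × Fin n) F ≃ₐ[F] Matrix ι ι F :=
    Matrix.reindexAlgEquiv F F e.symm
  let Φ : Matrix (Fin 2) (Fin 2) F →ₗ[F] Matrix ι ι F :=
    { toFun := fun X => (P : Matrix ι ι F) * R (X ⊗ₖ (1 : Matrix (Fin n) (Fin n) F)) * ((P⁻¹ : GL ι F) : Matrix ι ι F)
      map_add' := fun X Y => by rw [Matrix.add_kronecker, map_add, mul_add, add_mul]
      map_smul' := fun c X => by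
        rw [Matrix.smul_kronecker, map_smul, RingHom.id_apply]
        simp }
  have hΦ1 : Φ 1 = 1 := by simp [Φ]
  have hΦmul : ∀ X Y, Φ (X * Y) = Φ X * Φ Y := by
    intro X Y
    have h : (X * Y) ⊗ₖ (1 : Matrix (Fin n) (Fin n) F) = (X ⊗ₖ 1) * (Y ⊗ₖ 1) := by
      rw [← Matrix.mul_kronecker_mul, one_mul]
    simp only [Φ, LinearMap.coe_mk, AddHom.coe_mk, h, map_mul, mul_assoc, Units.inv_mul_cancel_left]
  let φ : Matrix (Fin 2) (Fin 2) F →ₐ[F] Matrix ι ι F := AlgHom.ofLinearMap Φ hΦ1 hΦmul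
  have hφinj : Function.Injective φ := by
    intro X Y h
    have h1 := congrArg (fun Z => ((P⁻¹ : GL ι F) : Matrix ι ι F) * Z * (P : Matrix ι ι F)) h
    simp only [φ, AlgHom.ofLinearMap_apply, Φ, LinearMap.coe_mk, AddHom.coe_mk, mul_assoc,
      Units.inv_mul_cancel_left, Units.inv_mul, mul_one] at h1
    ext i j
    have h2 := congrFun (congrFun (R.injective h1) (i, ⟨0, hn⟩)) (j, ⟨0, hn⟩)
    simpa [Matrix.kronecker_apply] using h2
  have hω : omegaTwo F * omegaTwo F = omegaTwo F + 1 := by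
    ext i j
    fin_cases i <;> fin_cases j <;> simp [omegaTwo, Matrix.mul_apply, h2]
  let S : Subalgebra F (Matrix (Fin 2) (Fin 2) F) :=
    { carrier := {X | ∃ a b : F, X = a • (1 : Matrix (Fin 2) (Fin 2) F) + b • omegaTwo F}
      mul_mem' := by
        rintro _ _ ⟨a, b, rfl⟩ ⟨c, d, rfl⟩
        refine ⟨a * c + b * d, a * d + b * c + b * d, ?_⟩
        simp only [add_mul, mul_add, smul_mul_smul_comm, one_mul, mul_one, hω, smul_add, add_smul]
        abel
      add_mem' := by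
        rintro _ _ ⟨a, b, rfl⟩ ⟨c, d, rfl⟩
        exact ⟨a + c, b + d, by rw [add_smul, add_smul]; abel⟩
      algebraMap_mem' := fun r => ⟨r, 0, by simp [Algebra.algebraMap_eq_smul_one]⟩ }
  have hS : ∀ X, X ∈ S ↔ ∃ a b : F, X = a • (1 : Matrix (Fin 2) (Fin 2) F) + b • omegaTwo F :=
    fun X => Iff.rfl
  have hωS : omegaTwo F ∈ S := (hS _).2 ⟨0, 1, by simp⟩
  refine ⟨S.map φ, ⟨?_, ?_, ?_⟩, ?_⟩
  · rintro _ ⟨_, ⟨a, b, rfl⟩, rfl⟩ _ ⟨_, ⟨c, d, rfl⟩, rfl⟩
    change φ (a • 1 + b • omegaTwo F) * φ (c • 1 + d • omegaTwo F) = φ (c • 1 + d • omegaTwo F) * φ (a • 1 + b • omegaTwo F)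
    rw [← map_mul, ← map_mul]
    congr 1
    simp only [add_mul, mul_add, smul_mul_smul_comm, one_mul, mul_one, mul_comm c, mul_comm d]
    abel
  · rintro _ ⟨_, ⟨a, b, rfl⟩, rfl⟩ hne
    change ∃ y ∈ S.map φ, φ (a • 1 + b • omegaTwo F) * y = 1
    obtain ⟨Y, hY, hXY⟩ : ∃ Y ∈ S, (a • (1 : Matrix (Fin 2) (Fin 2) F) + b • omegaTwo F) * Y = 1 := by
      rcases h01 a with rfl | rfl <;> rcases h01 b with rfl | rfl
      · exact absurd (by simp) hne
      · refine ⟨omegaTwo F + 1, S.add_mem hωS S.one_mem, ?_⟩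
        simp [mul_add, hω, add_comm, add_left_comm, ← two_smul F (omegaTwo F), CharTwo.two_eq_zero]
      · exact ⟨1, S.one_mem, by simp⟩
      · refine ⟨omegaTwo F, hωS, ?_⟩
        simp [add_mul, hω, ← add_assoc, ← two_smul F (omegaTwo F), CharTwo.two_eq_zero]
    exact ⟨φ Y, ⟨Y, hY, rfl⟩, by rw [← map_mul, hXY, map_one]⟩
  · rw [← (Subalgebra.equivMapOfInjective S φ hφinj).toLinearEquiv.finrank_eq]
    let bS : Basis (Fin 2) F S := Basis.mk (v := ![(1 : S), ⟨omegaTwo F, hωS⟩])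
      (by
        rw [LinearIndependent.pair_iff]
        intro a b h
        have h' := congrArg Subtype.val h
        simp only [AddMemClass.coe_add, SetLike.val_smul, OneMemClass.coe_one, ZeroMemClass.coe_zero] at h'
        have h00 := congrFun (congrFun h' 0) 0
        have h01' := congrFun (congrFun h' 0) 1
        simp [omegaTwo] at h00 h01'
        exact ⟨h00, h01'⟩)
      (by
        rintro ⟨X, hX⟩ -
        obtain ⟨a, b, rfl⟩ := (hS X).1 hX
        rw [Submodule.mem_span_range_iff_exists_fun]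
        exact ⟨![a, b], Subtype.ext (by simp [Fin.sum_univ_two])⟩)
    rw [Module.finrank_eq_card_basis bS, Fintype.card_fin]
  · -- the tensor subgroup normalises
    suffices h : ∀ g ∈ tensorProductSubgroup 2 n e P, ∀ k ∈ S.map φ,
        (g : Matrix ι ι F) * k * ((g⁻¹ : GL ι F) : Matrix ι ι F) ∈ S.map φ by
      intro g hg k
      refine ⟨h g hg k, fun hk => ?_⟩
      have := h g⁻¹ (Subgroup.inv_mem _ hg) _ hk
      simpa [mul_assoc, ← Units.val_mul] using this
    rintro g ⟨_, ⟨y, ⟨c, d, hy⟩, rfl⟩, rfl⟩ _ ⟨X, hX, rfl⟩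
    have hc : (c : Matrix (Fin 2) (Fin 2) F) * omegaTwo F * ((c⁻¹ : GL (Fin 2) F) : Matrix (Fin 2) (Fin 2) F) ∈ S := by
      set M := (c : Matrix (Fin 2) (Fin 2) F) with hM
      have hdet : M.det ≠ 0 := Matrix.GeneralLinearGroup.det_ne_zero c
      have hcase : M * omegaTwo F = omegaTwo F * M ∨ M * omegaTwo F = (omegaTwo F + 1) * M := by
        rw [Matrix.eta_fin_two M] at hdet ⊢
        rcases h01 (M 0 0) with a | a <;> rcases h01 (M 0 1) with b | b <;>
          rcases h01 (M 1 0) with p | p <;> rcases h01 (M 1 1) with r | r <;>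
          simp [a, b, p, r, omegaTwo, Matrix.det_fin_two, h2, Matrix.one_fin_two, Matrix.mul_fin_two, ← Matrix.ext_iff, Fin.forall_fin_two] at hdet ⊢
      rcases hcase with h | h <;> rw [h, mul_assoc, hM, Units.mul_inv, mul_one]
      · exact hωS
      · exact S.add_mem hωS S.one_mem
    obtain ⟨a, b, rfl⟩ := (hS X).1 hX
    refine ⟨a • 1 + b • ((c : Matrix (Fin 2) (Fin 2) F) * omegaTwo F * ((c⁻¹ : GL (Fin 2) F) : Matrix (Fin 2) (Fin 2) F)),
      S.add_mem (S.smul_mem S.one_mem a) (S.smul_mem hc b), ?_⟩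
    have hconj : a • (1 : Matrix (Fin 2) (Fin 2) F) + b • ((c : Matrix (Fin 2) (Fin 2) F) * omegaTwo F * ((c⁻¹ : GL (Fin 2) F) : Matrix (Fin 2) (Fin 2) F))
        = (c : Matrix (Fin 2) (Fin 2) F) * (a • 1 + b • omegaTwo F) * ((c⁻¹ : GL (Fin 2) F) : Matrix (Fin 2) (Fin 2) F) := by
      simp [mul_add, add_mul]
    have hkey : ∀ X : Matrix (Fin 2) (Fin 2) F, (y : Matrix (Fin 2 × Fin n) (Fin 2 × Fin n) F) * (X ⊗ₖ 1) =
        (((c : Matrix (Fin 2) (Fin 2) F) * X * ((c⁻¹ : GL (Fin 2) F) : Matrix (Fin 2) (Fin 2) F)) ⊗ₖ 1) * (y : Matrix (Fin 2 × Fin n) (Fin 2 × Fin n) F) := by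
      intro X
      rw [hy, ← Matrix.mul_kronecker_mul, ← Matrix.mul_kronecker_mul, mul_one, one_mul, mul_assoc _ _ (c : Matrix (Fin 2) (Fin 2) F), Units.inv_mul, mul_one]
    rw [hconj]
    set G : GL ι F := (MulAut.conj P).toMonoidHom ((glReindex e.symm).toMonoidHom y)
    have hG : (G : Matrix ι ι F) = (P : Matrix ι ι F) * R (y : Matrix (Fin 2 × Fin n) (Fin 2 × Fin n) F) * ((P⁻¹ : GL ι F) : Matrix ι ι F) := rfl
    have hswap : φ ((c : Matrix (Fin 2) (Fin 2) F) * (a • 1 + b • omegaTwo F) * ((c⁻¹ : GL (Fin 2) F) : Matrix (Fin 2) (Fin 2) F)) * (G : Matrix ι ι F)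
        = (G : Matrix ι ι F) * φ (a • 1 + b • omegaTwo F) := by
      simp only [φ, AlgHom.ofLinearMap_apply, Φ, LinearMap.coe_mk, AddHom.coe_mk, hG, mul_assoc, Units.inv_mul_cancel_left]
      have hk := hkey (a • 1 + b • omegaTwo F)
      simp only [mul_assoc] at hk
      rw [← mul_assoc (R _) (R _), ← map_mul, ← hk, map_mul, mul_assoc]
    change φ _ = (G : Matrix ι ι F) * φ _ * ((G⁻¹ : GL ι F) : Matrix ι ι F)
    rw [← hswap, Units.mul_inv_cancel_right]

end Cfsg.Agent.ClassicalMax
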