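import Mathlib

/-!
Orthogonal frames of equal norm for diagonal ternary forms over the fields with three and five elements.
-/

set_option autoImplicit false

namespace Cfsg.Agent.ClassicalMax.ThreeDiag

/-- Frames of equal norm for diagonal forms. -/
def diagTbl5 : List ℕ :=
  [0, 0, 0, 0, 0, 0, 0, 0, 0, 0, 0, 0, 0, 0, 0, 0, 0, 0, 0, 0, 0, 0, 0, 0, 0, 0, 0, 0, 0, 0, 0, 81376, 143902, 222027, 159501, 0, 7906902, 1335751, 1257001, 7985652, 0, 7147777, 1723251, 1644501, 7226527, 0, 84501, 147052, 225177, 162626, 0, 0, 0, 0, 0, 0, 1644502, 6048151, 5969401, 1723252, 0, 131551, 81377, 159502, 209676, 0, 128401, 84502, 162627, 206526, 0, 1257002, 9163901, 9085151, 1335752, 0, 0, 0, 0, 0, 0, 1644627, 7985651, 7906901, 1723377, 0, 147051, 81502, 159627, 225176, 0, 143901, 84627, 162752, 222026, 0, 1257127, 7226526, 7147776, 1335877, 0, 0, 0, 0, 0, 0, 81501, 128402, 206527,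 159626, 0, 5969402, 1335876, 1257126, 6048152, 0, 9085152, 1723376, 1644626, 9163902, 0, 84626, 131552, 209677, 162751]

/-- Frames of equal norm for diagonal forms. -/
def diagTbl3 : List ℕ :=
  [0, 0, 0, 0, 0, 0, 0, 0, 0, 0, 0, 0, 0, 2458, 3926, 0, 42374, 15661, 0, 0, 0, 0, 15662, 42373, 0, 3925, 2459]

/-- The coded frame. -/
def frame (p t : ℕ) (i j : Fin 3) : ZMod p := (t / p ^ (1 + 3 * (i : ℕ) + (j : ℕ)) % p : ℕ)

lemma frame_five : ∀ d₀ d₁ d₂ : ZMod 5, d₀ ≠ 0 → d₁ ≠ 0 → d₂ ≠ 0 →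
    let t := diagTbl5.getD (d₀.val + 5 * d₁.val + 25 * d₂.val) 0
    ((t : ℕ) : ZMod 5) ≠ 0 ∧ ∀ q : Fin 3 × Fin 3, d₀ * frame 5 t q.1 0 * frame 5 t q.2 0 +
      d₁ * frame 5 t q.1 1 * frame 5 t q.2 1 + d₂ * frame 5 t q.1 2 * frame 5 t q.2 2 =
        if q.1 = q.2 then ((t : ℕ) : ZMod 5) else 0 := by decide +kernel

lemma frame_three : ∀ d₀ d₁ d₂ : ZMod 3, d₀ ≠ 0 → d₁ ≠ 0 → d₂ ≠ 0 →
    let t := diagTbl3.getD (d₀.val + 3 * d₁.val + 9 * d₂.val) 0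
    ((t : ℕ) : ZMod 3) ≠ 0 ∧ ∀ q : Fin 3 × Fin 3, d₀ * frame 3 t q.1 0 * frame 3 t q.2 0 +
      d₁ * frame 3 t q.1 1 * frame 3 t q.2 1 + d₂ * frame 3 t q.1 2 * frame 3 t q.2 2 =
        if q.1 = q.2 then ((t : ℕ) : ZMod 3) else 0 := by decide +kernel

lemma unit_three : ∀ a b c : ZMod 3, a * a + b * b + c * c = 1 →
    (a = 0 ∧ b = 0) ∨ (a = 0 ∧ c = 0) ∨ (b = 0 ∧ c = 0) := by decide +kernel

end Cfsg.Agent.ClassicalMax.ThreeDiag
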