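import Cfsg.Agent.ClassicalMax.ThreeFiveData

/-!
The normaliser of the group of exponent three and order `27` in `GU_3(5)`.
-/

set_option autoImplicit false

namespace Cfsg.Agent.ClassicalMax.SUThreeFive

open Matrix

/-- The diagonal generator. -/
def xm : Matrix (Fin 3) (Fin 3) E := genB 0

/-- The shift. -/
def ym : Matrix (Fin 3) (Fin 3) E := genB 1

/-- Powers below three. -/
def p3 (M : Matrix (Fin 3) (Fin 3) E) : Fin 3 → Matrix (Fin 3) (Fin 3) E := ![1, M, M * M]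

/-- Scalars of order dividing three. -/
def w3 : Fin 3 → E := ![1, w, w * w]

/-- The elements of the group of order 27. -/
def word (a b c : Fin 3) : Matrix (Fin 3) (Fin 3) E := w3 a • (p3 xm b * p3 ym c)

/-- The normalising element for a pair of images (plus one; zero if there is none). -/
def clsTbl : List ℕ :=
  [0, 0, 0, 0, 0, 0, 0, 0, 0, 0, 0, 0, 0, 0, 0, 0, 0, 0, 0, 0, 0, 0, 0, 0, 0, 0, 0, 0, 0, 0, 0, 0, 0, 0, 0, 0, 0, 0, 0, 0, 0, 0, 0, 0, 0, 0, 0, 0, 0, 0, 0, 0, 0, 0, 0, 0, 0, 0, 0, 0, 0, 0, 0, 0, 0, 0, 0, 0, 0, 0, 0, 0, 0, 0, 0, 0, 0, 0, 0, 0, 0, 0, 0, 0, 0, 0, 0, 0, 0, 0, 0, 0, 0, 0, 0, 0, 0, 0, 0, 10, 12, 11, 162, 161, 160, 213, 212, 211, 0, 0, 0, 0, 0, 0, 0, 0, 0, 0, 0, 0, 0, 0, 0, 0, 0, 0, 13, 15, 14, 156, 155, 154, 216, 215, 214, 0, 0, 0, 0, 0, 0, 0, 0, 0, 0, 0, 0, 0, 0, 0,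 0, 0, 0, 16, 18, 17, 159, 158, 157, 210, 209, 208, 0, 0, 0, 0, 0, 0, 0, 0, 0, 1, 3, 2, 143, 142, 144, 192, 191, 190, 0, 0, 0, 0, 0, 0, 0, 0, 0, 0, 0, 0, 0, 0, 0, 0, 0, 0, 4, 6, 5, 137, 136, 138, 195, 194, 193, 0, 0, 0, 0, 0, 0, 0, 0, 0, 0, 0, 0, 0, 0, 0, 0, 0, 0, 7, 9, 8, 140, 139, 141, 198, 197, 196, 0, 0, 0, 0, 0, 0, 0, 0, 0, 0, 0, 0, 21, 20, 19, 0, 0, 0, 0, 0, 0, 135, 134, 133, 0, 0, 0, 0, 0, 0, 152, 151, 153, 0, 0, 0, 0, 0, 0, 24, 23, 22, 0, 0, 0, 0, 0, 0, 129, 128, 127, 0, 0, 0, 0, 0, 0, 146, 145, 147, 0, 0, 0, 0, 0, 0, 27, 26, 25, 0, 0, 0, 0, 0, 0, 132, 131, 130, 0, 0, 0, 0, 0, 0, 149, 148, 150, 0, 0, 0, 0, 0, 0, 109, 111, 110, 0, 0, 0, 0, 0, 0, 0, 0, 0, 62, 61, 63, 95, 94, 96, 0, 0, 0, 0, 0, 0, 0, 0, 0, 112, 114, 113, 0, 0, 0, 0, 0, 0, 0, 0, 0, 56, 55, 57, 98, 97, 99, 0, 0, 0, 0, 0,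 0, 0, 0, 0, 115, 117, 116, 0, 0, 0, 0, 0, 0, 0, 0, 0, 59, 58, 60, 92, 91, 93, 0, 0, 0, 0, 0, 0, 0, 0, 0, 120, 119, 118, 0, 0, 0, 73, 75, 74, 0, 0, 0, 0, 0, 0, 0, 0, 0, 0, 0, 0, 67, 69, 68, 0, 0, 0, 123, 122, 121, 0, 0, 0, 76, 78, 77, 0, 0, 0, 0, 0, 0, 0, 0, 0, 0, 0, 0, 70, 72, 71, 0, 0, 0, 126, 125, 124, 0, 0, 0, 79, 81, 80, 0, 0, 0, 0, 0, 0, 0, 0, 0, 0, 0, 0, 64, 66, 65, 0, 0, 0, 0, 0, 0, 48, 47, 46, 0, 0, 0, 0, 0, 0, 187, 189, 188, 0, 0, 0, 0, 0, 0, 205, 207, 206, 0, 0, 0, 0, 0, 0, 51, 50, 49, 0, 0, 0, 0, 0, 0, 181, 183, 182, 0, 0, 0, 0, 0, 0, 199, 201, 200, 0, 0, 0, 0, 0, 0, 54, 53, 52, 0, 0, 0, 0, 0, 0, 184, 186, 185, 0, 0, 0, 0, 0, 0, 202, 204, 203, 0, 0, 0, 0, 0, 0, 170, 169, 171, 0, 0, 0, 30, 29, 28, 0, 0, 0, 102, 101, 100, 0, 0, 0, 0, 0, 0, 0, 0, 0, 0, 0, 0, 164, 163, 165, 0, 0, 0,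 33, 32, 31, 0, 0, 0, 105, 104, 103, 0, 0, 0, 0, 0, 0, 0, 0, 0, 0, 0, 0, 167, 166, 168, 0, 0, 0, 36, 35, 34, 0, 0, 0, 108, 107, 106, 0, 0, 0, 0, 0, 0, 0, 0, 0, 0, 0, 0, 173, 172, 174, 89, 88, 90, 0, 0, 0, 0, 0, 0, 0, 0, 0, 37, 39, 38, 0, 0, 0, 0, 0, 0, 0, 0, 0, 176, 175, 177, 83, 82, 84, 0, 0, 0, 0, 0, 0, 0, 0, 0, 40, 42, 41, 0, 0, 0, 0, 0, 0, 0, 0, 0, 179, 178, 180, 86, 85, 87, 0, 0, 0, 0, 0, 0, 0, 0, 0, 43, 45, 44, 0, 0, 0]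

lemma word_inj : ∀ a b c a' b' c', word a b c = word a' b' c' → a = a' ∧ b = b' ∧ c = c' := by decide +kernel

lemma w_pow : w * (w * w) = 1 ∧ w ≠ 1 ∧ 1 + w + w * w = 0 := by decide +kernel

lemma xm_eq : ∀ p : Fin 3 × Fin 3, xm p.1 p.2 = if p.1 = p.2 then w3 p.1 else 0 := by decide +kernel

lemma ym_eq : ∀ p : Fin 3 × Fin 3, ym p.1 p.2 = if p.1 = p.2 + 1 then 1 else 0 := by decide +kernel

lemma classes : ∀ a b c a' b' c' : Fin 3, word a b c * word a' b' c' = w • (word a' b' c' * word a b c) →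
    let t := clsTbl.getD (a + 3 * b + 9 * c + 27 * a' + 81 * b' + 243 * c') 0 - 1
    let v := norms (Fin.ofNat 24 (t / 9)) * (p3 xm (Fin.ofNat 3 (t / 3)) * p3 ym (Fin.ofNat 3 t))
    v * xm = word a b c * v ∧ v * ym = word a' b' c' * v := by decide +kernel

lemma witness_heis : ∀ a b c, genB 2 * xm ≠ word a b c * genB 2 := by decide +kernel

lemma diag_cases : ∀ σ : Equiv.Perm (Fin 3), ∃ k : Fin 6, ∀ p : Fin 3 × Fin 3, ((![1, genA 2, genA 2 * genA 2, genA 3,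
    genA 3 * genA 2, genA 3 * (genA 2 * genA 2)] : Fin 6 → Matrix (Fin 3) (Fin 3) E) k) p.1 p.2 ≠ 0 → p.1 = σ p.2 := by
  decide +kernel

lemma z_pow : z * z * z * (z * z * z) = 1 ∧ z * z * z ≠ 1 ∧ z * z ≠ 1 := by decide +kernel

lemma diag_gens : ∀ p : Fin 3 × Fin 3, genA 0 p.1 p.2 = (if p.1 = p.2 then ![z, z * z * (z * z) * z, 1] p.1 else 0) ∧
    genA 1 p.1 p.2 = if p.1 = p.2 then ![1, z, z * z * (z * z) * z] p.1 else 0 := by decide +kernel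

lemma rot_cases : ∀ a b : ZMod 5, a * a + b * b = 1 → ∃ k : Fin 4, ∀ p : Fin 3 × Fin 3,
    ((![1, genA 7, genA 7 * genA 7, genA 7 * (genA 7 * genA 7)] : Fin 4 → Matrix (Fin 3) (Fin 3) E) k) p.1 p.2 =
      ⟨(!![1, 0, 0; 0, a, -b; 0, b, a] : Matrix (Fin 3) (Fin 3) (ZMod 5)) p.1 p.2, 0⟩ := by decide +kernel

end Cfsg.Agent.ClassicalMax.SUThreeFive
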