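import Mathlib

/-!
Data for a subgroup isomorphic to `L_2(7)` of `SU_3(3)`.
-/

set_option autoImplicit false

namespace Cfsg.Agent.ClassicalMax.SUThreeThree

open Matrix

/-- The field with nine elements. -/
abbrev E := QuadraticAlgebra (ZMod 3) (-1) 0

/-- An element from a code. -/
def e (a : ℕ) : E := ⟨(a % 3 : ℕ), (a / 3 % 3 : ℕ)⟩

/-- Conjugation. -/
def cj (z : E) : E := ⟨z.re, -z.im⟩

/-- A vector from a code. -/
def vv (c : ℕ) (i : Fin 3) : E := e (c / 9 ^ (i : ℕ) % 9)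

/-- Powers of an element of order seven -/
def gp : Fin 7 → Matrix (Fin 3) (Fin 3) E :=
  ![!![e 1, e 0, e 0; e 0, e 1, e 0; e 0, e 0, e 1],
    !![e 0, e 4, e 5; e 0, e 4, e 7; e 1, e 0, e 0],
    !![e 5, e 6, e 2; e 7, e 6, e 2; e 0, e 4, e 5],
    !![e 2, e 8, e 2; e 2, e 6, e 5; e 5, e 6, e 2],
    !![e 2, e 2, e 8; e 5, e 3, e 3; e 2, e 8, e 2],
    !![e 8, e 4, e 0; e 3, e 3, e 7; e 2, e 2, e 8],
    !![e 0, e 0, e 1; e 7, e 7, e 0; e 8, e 4, e 0]]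

/-- Powers of an element inducing the Frobenius automorphism -/
def hp : Fin 3 → Matrix (Fin 3) (Fin 3) E :=
  ![!![e 1, e 0, e 0; e 0, e 1, e 0; e 0, e 0, e 1],
    !![e 2, e 4, e 3; e 3, e 5, e 1; e 5, e 0, e 8],
    !![e 2, e 6, e 8; e 7, e 8, e 0; e 6, e 1, e 5]]

/-- Generators of a subgroup `L_2(7)` -/
def gen : Fin 3 → Matrix (Fin 3) (Fin 3) E :=
  ![!![e 0, e 4, e 5; e 0, e 4, e 7; e 1, e 0, e 0],
    !![e 2, e 4, e 3; e 3, e 5, e 1; e 5, e 0, e 8],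
    !![e 3, e 3, e 4; e 4, e 3, e 3; e 3, e 4, e 3]]

/-- The inverse of the Krylov matrix. -/
def kinv : Matrix (Fin 3) (Fin 3) E := !![e 1, e 1, e 0; e 0, e 0, e 1; e 0, e 8, e 0]

/-- An invariant set of lines. -/
def orb : Fin 21 → ℕ := ![90, 244, 658, 586, 352, 433, 595, 676, 199, 523, 685, 127, 532, 613, 55, 388, 469, 550, 397, 478, 559]

/-- The permutations of the lines. -/
def perm : Fin 3 → List ℕ :=
  ![[14, 3, 9, 18, 17, 13, 8, 19, 16, 11, 6, 12, 15, 7, 2, 0, 4, 20, 5, 1, 10],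
    [17, 14, 8, 9, 3, 0, 18, 11, 13, 4, 1, 20, 6, 2, 10, 16, 19, 5, 12, 15, 7],
    [11, 9, 0, 17, 8, 6, 14, 15, 18, 20, 19, 2, 7, 10, 5, 12, 3, 16, 4, 13, 1]]

/-- The scalars of the action on the lines. -/
def scal : Fin 3 → List ℕ :=
  ![[6, 8, 3, 5, 3, 8, 2, 4, 4, 1, 8, 3, 5, 7, 7, 1, 5, 3, 4, 6, 7],
    [7, 1, 1, 2, 6, 4, 8, 2, 5, 6, 3, 3, 1, 4, 6, 3, 6, 2, 7, 1, 3],
    [7, 8, 5, 2, 2, 3, 4, 8, 4, 3, 2, 3, 6, 1, 4, 4, 8, 5, 7, 2, 8]]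

/-- An element outside the subgroup. -/
def outT : Matrix (Fin 3) (Fin 3) E := !![e 0, e 0, e 2; e 0, e 1, e 0; e 1, e 0, e 0]

lemma gen_su : ∀ k, (gen k)ᵀ * (gen k).map cj = 1 ∧ (gen k).det = 1 := by decide +kernel

lemma out_su : outTᵀ * outT.map cj = 1 ∧ outT.det = 1 := by decide +kernel

lemma orb_mem : ∀ k l i, (gen k *ᵥ vv (orb l)) i =
    e ((scal k).getD l 0) * vv (orb (Fin.ofNat 21 ((perm k).getD l 0))) i := by decide +kernel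

lemma moves : ∃ k, ∀ l, ∃ i j, (outT *ᵥ vv (orb k)) i * vv (orb l) j ≠ (outT *ᵥ vv (orb k)) j * vv (orb l) i := by
  decide +kernel

lemma gp_succ : ∀ i, gp 1 * gp i = gp (i + 1) := by decide +kernel

lemma gp_base : gp 0 = 1 ∧ hp 0 = 1 ∧ gp 1 = gen 0 ∧ hp 1 = gen 1 ∧ gp 1 ≠ 1 := by decide +kernel

lemma hp_succ : ∀ i, hp 1 * hp i = hp (i + 1) := by decide +kernel

lemma trace_cases : ∀ i, (gp i).trace = (gp 1).trace → ∃ j, hp j * gp 1 = gp i * hp j := by decide +kernel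

lemma krylov : (Matrix.of fun i (j : Fin 3) => gp (Fin.castLE (by norm_num) j) i 0) * kinv = 1 := by decide +kernel

lemma witness : ∀ i, gen 2 * gp 1 ≠ gp i * gen 2 := by decide +kernel

end Cfsg.Agent.ClassicalMax.SUThreeThree
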